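import Cfsg.Agent.Turull.Chain

/-!
The series of the fixed points is at most two shorter.
-/

set_option autoImplicit false

open Subgroup

namespace Cfsg.Agent.Turull

open CoprimeFitting (ser nres)

universe u

/-- A long series of a group forces a long series in the fixed points. -/
theorem fixed_ser_ne_bot {Γ : Type u} [Group Γ] [Finite Γ] {s : Γ} {r : ℕ} {G₀ : Subgroup Γ}
    (c : Ctx s r G₀) {n : ℕ} (h : ser G₀ (n + 2) ≠ ⊥) : ser (G₀ ⊓ centralizer {s}) n ≠ ⊥ := by
  classical
  obtain ⟨X, ⟨hX, hsX, hne⟩, hmin⟩ := wellFounded_lt.has_min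
    {U : Subgroup Γ | U ≤ G₀ ∧ s ∈ normalizer (U : Set Γ) ∧ ¬ ser U (n + 2) ≤ ⊥}
    ⟨G₀, le_rfl, c.norm, fun h0 => h (le_bot_iff.mp h0)⟩
  have hsbot : s ∈ normalizer ((⊥ : Subgroup Γ) : Set Γ) := by
    rw [Subgroup.mem_normalizer_iff]
    intro x
    simp
  have hXbot : X ≤ normalizer ((⊥ : Subgroup Γ) : Set Γ) := fun x _ => by
    rw [Subgroup.mem_normalizer_iff]
    intro y
    simp
  obtain ⟨P, D, Y, q, hlay, -, hup, -, -⟩ := lift c (n + 2) X ⊥ hX hsX hXbot hsbot hne
    fun U hU hsU hnU => eq_of_le_of_not_lt hU (hmin U ⟨hU.trans hX, hsU, hnU⟩)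
  have hex : ∃ k, n + 2 < k ∨ ¬ P k ≤ centralizer {s} := ⟨n + 3, Or.inl (by omega)⟩
  have w : Tw s r G₀ (n + 2) P D Y q (Nat.find hex) :=
    { ctx := c
      lay := hlay
      sub := fun i hi => (le_upto P hi).trans (hup.le.trans hX)
      below := fun j _ hj => by
        have := Nat.find_min hex hj
        push Not at this
        exact this.2
      moved := fun hk => (Nat.find_spec hex).resolve_left (by omega) }
  exact w.ser_ne_bot rfl

end Cfsg.Agent.Turull
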