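import Mathlib

/-!
Extending the scalars of operators of finite order.
-/

set_option autoImplicit false

open scoped TensorProduct

namespace Cfsg.Agent.Turull

open Module

variable {F : Type*} [Field F] (E : Type*) [Field E] [Algebra F E] {W : Type*} [AddCommGroup W] [Module F W]

/-- Extension of scalars for operators. -/
noncomputable def bcH : Module.End F W →ₐ[F] Module.End E (E ⊗[F] W) := Module.End.baseChangeHom F E W

theorem bcH_tmul (T : Module.End F W) (e : E) (w : W) : bcH E T (e ⊗ₜ[F] w) = e ⊗ₜ[F] T w := rfl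

/-- Extension of scalars for a group of operators. -/
noncomputable def bcRep {N : Type*} [Monoid N] (ρ : N →* Module.End F W) :
    N →* Module.End E (E ⊗[F] W) :=
  (bcH E).toMonoidHom.comp ρ

theorem bcRep_apply {N : Type*} [Monoid N] (ρ : N →* Module.End F W) (g : N) :
    bcRep E ρ g = bcH E (ρ g) := rfl

theorem one_tmul_injective : Function.Injective fun w : W => (1 : E) ⊗ₜ[F] w := by
  intro v w hvw
  let b := Module.Free.chooseBasis F W
  have h : ∀ i, (b.baseChange E).repr ((1 : E) ⊗ₜ[F] v) i = (b.baseChange E).repr ((1 : E) ⊗ₜ[F] w) i :=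
    fun i => by simp only at hvw; rw [hvw]
  refine b.repr.injective (Finsupp.ext fun i => ?_)
  have h1 := h i
  simp only [Basis.baseChange_repr_tmul] at h1
  rw [Algebra.smul_def, Algebra.smul_def, mul_one, mul_one] at h1
  exact (algebraMap F E).injective h1

theorem bcH_injective : Function.Injective (bcH E : Module.End F W → Module.End E (E ⊗[F] W)) := by
  intro S T h
  refine LinearMap.ext fun w => one_tmul_injective (F := F) E ?_
  change (1 : E) ⊗ₜ[F] S w = (1 : E) ⊗ₜ[F] T w
  rw [← bcH_tmul, ← bcH_tmul, h]

theorem nontrivial_tmul [Nontrivial W] : Nontrivial (E ⊗[F] W) := by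
  obtain ⟨v, w, h⟩ := exists_pair_ne W
  exact ⟨_, _, fun he => h (one_tmul_injective (F := F) E he)⟩

/-- A projection built over the small field describes what it fixes. -/
theorem mem_span_of_proj {P : Module.End F W} {q : W → Prop} (hP : ∀ w, q (P w)) {v : E ⊗[F] W}
    (hv : bcH E P v = v) : v ∈ Submodule.span E ((fun w => (1 : E) ⊗ₜ[F] w) '' {w | q w}) := by
  have key : ∀ x, bcH E P x ∈ Submodule.span E ((fun w => (1 : E) ⊗ₜ[F] w) '' {w | q w}) := by
    intro x
    induction x using TensorProduct.induction_on with
    | zero => rw [map_zero]; exact Submodule.zero_mem _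
    | tmul e w =>
      rw [bcH_tmul, show e ⊗ₜ[F] P w = e • ((1 : E) ⊗ₜ[F] P w) by rw [TensorProduct.smul_tmul', smul_eq_mul, mul_one]]
      exact Submodule.smul_mem _ _ (Submodule.subset_span ⟨P w, hP w, rfl⟩)
    | add x y hx hy => rw [map_add]; exact Submodule.add_mem _ hx hy
  exact hv ▸ key v

/-- The fixed points of an operator of order prime to the characteristic come from the small field. -/
theorem fixed_span {S : Module.End F W} {r : ℕ} (hS : S ^ r = 1) (hr : (r : F) ≠ 0) {v : E ⊗[F] W}
    (hv : bcH E S v = v) :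
    v ∈ Submodule.span E ((fun w => (1 : E) ⊗ₜ[F] w) '' {w | S w = w}) := by
  let P : Module.End F W := (r : F)⁻¹ • ∑ i ∈ Finset.range r, S ^ i
  refine mem_span_of_proj E (P := P) (q := fun w => S w = w) (fun w => ?_) ?_
  · have h1 : S * (∑ i ∈ Finset.range r, S ^ i) = ∑ i ∈ Finset.range r, S ^ i := by
      rw [Finset.mul_sum]
      simp only [← pow_succ']
      have h2 := Finset.sum_range_succ' (fun i => S ^ i) r
      rw [Finset.sum_range_succ, hS, pow_zero] at h2
      exact (add_right_cancel h2).symm
    change S (((r : F)⁻¹ • ∑ i ∈ Finset.range r, S ^ i) w) = ((r : F)⁻¹ • ∑ i ∈ Finset.range r, S ^ i) w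
    rw [← Module.End.mul_apply S, mul_smul_comm, h1]
  · have hk : ∀ i : ℕ, (bcH E S ^ i) v = v := by
      intro i
      induction i with
      | zero => simp
      | succ i ih => rw [pow_succ', Module.End.mul_apply, ih, hv]
    simp only [P, map_smul, map_sum, map_pow, LinearMap.smul_apply, LinearMap.sum_apply, hk, Finset.sum_const,
      Finset.card_range, ← Nat.cast_smul_eq_nsmul F, smul_smul, inv_mul_cancel₀ hr, one_smul]

/-- No fixed vectors over the small field gives none over the big one. -/
theorem no_fixed {N : Type*} [Group N] [Finite N] (ρ : N →* Module.End F W) (hN : (Nat.card N : F) ≠ 0)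
    (hf : ∀ w, (∀ g, ρ g w = w) → w = 0) (v : E ⊗[F] W) (hv : ∀ g, bcRep E ρ g v = v) : v = 0 := by
  letI := Fintype.ofFinite N
  rw [Nat.card_eq_fintype_card] at hN
  let P : Module.End F W := (Fintype.card N : F)⁻¹ • ∑ g : N, ρ g
  have h1 := mem_span_of_proj E (P := P) (q := fun w => ∀ g, ρ g w = w) (fun w g => ?_) (v := v) ?_
  · have h2 : {w : W | ∀ g, ρ g w = w} = {0} := by
      ext w
      refine ⟨fun h => hf w h, fun h g => ?_⟩
      rw [Set.mem_singleton_iff.mp h, map_zero]
    rw [h2, Set.image_singleton, TensorProduct.tmul_zero, Submodule.span_zero_singleton, Submodule.mem_bot] at h1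
    exact h1
  · simp only [P, LinearMap.smul_apply, LinearMap.sum_apply, map_smul, map_sum, ← Module.End.mul_apply, ← map_mul]
    congr 1
    exact Fintype.sum_equiv (Equiv.mulLeft g) _ _ fun k => rfl
  · have hk : ∀ g, bcH E (ρ g) v = v := hv
    simp only [P, map_smul, map_sum, LinearMap.smul_apply, LinearMap.sum_apply, hk, Finset.sum_const,
      Finset.card_univ, ← Nat.cast_smul_eq_nsmul F, smul_smul, inv_mul_cancel₀ hN, one_smul]

/-- The rank does not grow. -/
theorem finrank_range_le [FiniteDimensional F W] (T : Module.End F W) :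
    Module.finrank E (LinearMap.range (bcH E T)) ≤ Module.finrank F (LinearMap.range T) := by
  classical
  let b := Module.finBasis F (LinearMap.range T)
  let f : Fin (Module.finrank F (LinearMap.range T)) → E ⊗[F] W := fun i => (1 : E) ⊗ₜ[F] (b i : W)
  have hle : LinearMap.range (bcH E T) ≤ Submodule.span E (Set.range f) := by
    rintro _ ⟨x, rfl⟩
    induction x using TensorProduct.induction_on with
    | zero => rw [map_zero]; exact Submodule.zero_mem _
    | tmul e w =>
      have h1 := congrArg Subtype.val (b.sum_repr ⟨T w, w, rfl⟩)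
      simp only [Submodule.coe_sum, Submodule.coe_smul] at h1
      rw [bcH_tmul, ← h1, TensorProduct.tmul_sum]
      refine Submodule.sum_mem _ fun i _ => ?_
      rw [TensorProduct.tmul_smul]
      refine Submodule.smul_of_tower_mem _ _ ?_
      rw [show e ⊗ₜ[F] (b i : W) = e • f i by simp only [f, TensorProduct.smul_tmul', smul_eq_mul, mul_one]]
      exact Submodule.smul_mem _ _ (Submodule.subset_span ⟨i, rfl⟩)
    | add x y hx hy => rw [map_add]; exact Submodule.add_mem _ hx hy
  refine (Submodule.finrank_mono hle).trans ?_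
  refine (finrank_range_le_card f).trans ?_
  rw [Fintype.card_fin]

/-- A nondegenerate pairing stays nondegenerate. -/
theorem exists_form [FiniteDimensional F W] (β : W →ₗ[F] W →ₗ[F] F)
    (hnd : ∀ x, (∀ y, β x y = 0) → x = 0) :
    ∃ β' : E ⊗[F] W →ₗ[E] E ⊗[F] W →ₗ[E] E, (∀ x, (∀ y, β' x y = 0) → x = 0) ∧
      ∀ T : Module.End F W, (∀ x y, β (T x) (T y) = β x y) → ∀ x y, β' (bcH E T x) (bcH E T y) = β' x y := by
  classical
  let b := Module.finBasis F W
  let bE := b.baseChange E
  let β' : E ⊗[F] W →ₗ[E] E ⊗[F] W →ₗ[E] E :=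
    bE.constr E fun i => bE.constr E fun j => algebraMap F E (β (b i) (b j))
  have hb : ∀ x y : W, β' ((1 : E) ⊗ₜ[F] x) ((1 : E) ⊗ₜ[F] y) = algebraMap F E (β x y) := by
    have hbb : ∀ i j, β' ((1 : E) ⊗ₜ[F] b i) ((1 : E) ⊗ₜ[F] b j) = algebraMap F E (β (b i) (b j)) := by
      intro i j
      rw [← Basis.baseChange_apply (S := E) b i, ← Basis.baseChange_apply (S := E) b j]
      change β' (bE i) (bE j) = _
      simp only [β', Basis.constr_basis]
    intro x y
    conv_lhs => rw [← b.sum_repr x, ← b.sum_repr y]
    conv_rhs => rw [← b.sum_repr x, ← b.sum_repr y]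
    simp only [TensorProduct.tmul_sum, TensorProduct.tmul_smul, map_sum, LinearMap.sum_apply,
      LinearMap.map_smul_of_tower, LinearMap.smul_apply, hbb, map_smul, Algebra.smul_def, map_mul,
      Algebra.algebraMap_self, RingHom.id_apply]
    simp only [Finset.mul_sum]
    exact Finset.sum_congr rfl fun i _ => Finset.sum_congr rfl fun j _ => by ring
  refine ⟨β', fun x hx => ?_, fun T hT x y => ?_⟩
  · have hinj : Function.Injective β.flip := by
      have hinj1 : Function.Injective β := (injective_iff_map_eq_zero β).mpr fun x hx => hnd x fun y => by rw [hx]; rfl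
      have hsurj := (LinearMap.injective_iff_surjective_of_finrank_eq_finrank
        (Subspace.dual_finrank_eq (K := F) (V := W)).symm).mp hinj1
      rw [injective_iff_map_eq_zero]
      intro y hy
      exact (Module.forall_dual_apply_eq_zero_iff F y).mp fun φ => by
        obtain ⟨x, rfl⟩ := hsurj φ
        exact LinearMap.congr_fun hy x
    have hsurj : Function.Surjective β.flip :=
      (LinearMap.injective_iff_surjective_of_finrank_eq_finrank
        (Subspace.dual_finrank_eq (K := F) (V := W)).symm).mp hinj
    refine bE.repr.injective (Finsupp.ext fun j => ?_)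
    rw [map_zero, Finsupp.zero_apply]
    obtain ⟨y, hy⟩ := hsurj (b.coord j)
    have h1 : ∀ i, β' (bE i) ((1 : E) ⊗ₜ[F] y) = if i = j then 1 else 0 := by
      intro i
      rw [Basis.baseChange_apply, hb, show β (b i) y = b.coord j (b i) from LinearMap.congr_fun hy (b i)]
      by_cases hij : i = j
      · simp [hij]
      · simp [hij, Ne.symm hij]
    have h2 := hx ((1 : E) ⊗ₜ[F] y)
    rw [← bE.sum_repr x, map_sum, LinearMap.sum_apply] at h2
    simpa [h1] using h2
  · induction x using TensorProduct.induction_on with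
    | zero => simp
    | tmul e v =>
      induction y using TensorProduct.induction_on with
      | zero => simp
      | tmul d w =>
        have e1 : ∀ (a : E) (z : W), a ⊗ₜ[F] z = a • ((1 : E) ⊗ₜ[F] z) := fun a z => by
          rw [TensorProduct.smul_tmul', smul_eq_mul, mul_one]
        rw [bcH_tmul, bcH_tmul, e1 e, e1 d, e1 e v, e1 d w]
        simp only [map_smul, LinearMap.smul_apply, hb, hT]
      | add a b ha hb => simp only [map_add, ha, hb]
    | add a b ha hb => simp only [map_add, LinearMap.add_apply, ha, hb]

end Cfsg.Agent.Turull
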