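import Cfsg.Agent.Turull.Classify

/-!
An involution commuting with the intertwiner and trivial on one of its eigenspaces inverts the lines,
and its negative part meets every eigenspace in at most a line.
-/

set_option autoImplicit false
set_option maxHeartbeats 1000000

namespace Cfsg.Agent.Turull

open Module

theorem odd_square_div {a b F r : ℕ} (hr : r.Prime) (hF : ((a : ℤ) - b) ^ 2 = F)
    (hdvd : F ∣ (a + b) ^ 2) (hodd : Odd F) (hb : 1 ≤ b) (hbr : b ≤ r - 1) (hb' : b = 1 ∨ b = r - 1)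
    (hr3 : 3 ≤ r) (hrF : r ∣ F - 1) : F = 1 := by
  obtain ⟨g, hg⟩ : ∃ g : ℕ, g = ((a : ℤ) - b).natAbs := ⟨_, rfl⟩
  have hgF : g ^ 2 = F := by
    have : ((g ^ 2 : ℕ) : ℤ) = F := by rw [Nat.cast_pow, hg, Int.natCast_natAbs, sq_abs, hF]
    exact_mod_cast this
  subst hgF
  have hgodd : Odd g := by
    rcases Nat.even_or_odd g with h | h
    · exact absurd hodd (Nat.not_odd_iff_even.mpr (Nat.even_pow.mpr ⟨h, two_ne_zero⟩))
    · exact h
  have h1 : g ∣ a + b := (Nat.pow_dvd_pow_iff two_ne_zero).mp hdvd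
  have h2 : (g : ℤ) ∣ (a : ℤ) - b := by rw [hg, Int.natCast_natAbs]; exact abs_dvd_self _
  have h3 : (g : ℤ) ∣ 2 * (b : ℤ) := by
    have h4 : (g : ℤ) ∣ (a : ℤ) + b := by exact_mod_cast h1
    have := dvd_sub h4 h2
    rwa [show (a : ℤ) + b - (a - b) = 2 * b by ring] at this
  have h5 : g ∣ b := by
    have h6 : g ∣ 2 * b := by exact_mod_cast h3
    exact (Nat.Coprime.dvd_mul_left ((Nat.coprime_two_right).mpr hgodd)).mp h6
  have hgb := Nat.le_of_dvd (by omega) h5
  have hg0 : 1 ≤ g := hgodd.pos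
  rcases eq_or_lt_of_le hg0 with h | h
  · rw [← h]; rfl
  exfalso
  have h7 : g ^ 2 - 1 = (g + 1) * (g - 1) := by
    have := Nat.sq_sub_sq g 1
    simpa using this
  rw [h7] at hrF
  rcases (Nat.Prime.dvd_mul hr).mp hrF with h8 | h8
  · have := Nat.le_of_dvd (by omega) h8
    obtain ⟨j, hj⟩ := hgodd
    have hre : r = g + 1 := by omega
    rcases hr.eq_two_or_odd with h9 | h9
    · omega
    · omega
  · have := Nat.le_of_dvd (by omega) h8
    omega

variable {E : Type*} [Field E] {V : Type*} [AddCommGroup V] [Module E V]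
variable {Q : Type*} {bb : Basis Q E (Module.End E V)} {a a' b b' : Module.End E V} {c : E}
  {π πB : Equiv.Perm Q} {cQ dQ : Q → E} {r : ℕ} {i₁ : Q}

/-- The counts of an involution. -/
theorem Classy.involution [Fintype Q] [DecidableEq Q] [IsAlgClosed E] [FiniteDimensional E V]
    (h : Classy bb a a' b b' c π πB cQ dQ r 2 i₁) (h2 : (2 : E) ≠ 0)
    (hall : ∀ μ : E, μ ^ r = c → ∃ v, v ≠ 0 ∧ a v = μ • v) {l₀ : E} (hl₀ : l₀ ^ r = c)
    (hJ : ∀ v, a v = l₀ • v → b v = v) (hr3 : 3 ≤ r) (hd : ∀ q, πB q = q → dQ q = 1)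
    (hodd : Odd (Finset.univ.filter fun q => πB q = q).card)
    (hF : (Finset.univ.filter fun q => πB q = q).card ∣ Fintype.card Q)
    (hFr : r ∣ (Finset.univ.filter fun q => πB q = q).card - 1) {q₀ : Q} (hq₀ : πB q₀ ≠ q₀) :
    (Finset.univ.filter fun q => πB q = q).card = 1 ∧
      ∀ (μ : E) (w w' : V), w ≠ 0 → a w = μ • w → b w = -w → a w' = μ • w' → b w' = -w' →
        ∃ k : E, w' = k • w := by
  classical
  have hne : (1 : E) ≠ -1 := fun he => h2 (by linear_combination he)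
  obtain ⟨s, _, e, lam, d, he, hb⟩ := h.exists_common_basis (by exact_mod_cast h2)
  have hall' : ∀ μ : E, μ ^ r = c → ∃ i, lam i = μ := by
    intro μ hμ
    obtain ⟨v, hv0, hv⟩ := hall μ hμ
    by_contra hno
    push Not at hno
    refine hv0 (e.repr.injective (Finsupp.ext fun i => ?_))
    have h1 : a v = ∑ j, (e.repr v j * lam j) • e j := by
      conv_lhs => rw [← e.sum_repr v, map_sum]
      exact Finset.sum_congr rfl fun j _ => by rw [map_smul, he, smul_smul]
    have h3 : e.repr (a v) i = e.repr v i * lam i := by rw [h1, e.repr_sum_self]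
    rw [hv, map_smul, Finsupp.smul_apply, smul_eq_mul] at h3
    have h4 : (lam i - μ) * e.repr v i = 0 := by rw [sub_mul, mul_comm, ← h3, sub_self]
    rw [map_zero, Finsupp.zero_apply]
    exact (mul_eq_zero.mp h4).resolve_left (sub_ne_zero.mpr (hno i))
  have hd1 : ∀ i, lam i = l₀ → d i = 1 := by
    intro i hi
    have h1 := hJ (e i) (by rw [he, hi])
    rw [hb] at h1
    exact smul_left_injective E (e.ne_zero i) (h1.trans (one_smul E (e i)).symm)
  have hdv : ∀ i, d i = 1 ∨ d i = -1 := by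
    intro i
    have h1 := LinearMap.congr_fun h.bpow (e i)
    rw [sq, Module.End.mul_apply, hb, map_smul, hb, smul_smul, Module.End.one_apply] at h1
    exact mul_self_eq_one_iff.mp (smul_left_injective E (e.ne_zero i) (h1.trans (one_smul E _).symm))
  haveI : NeZero (r : E) := ⟨h.rne⟩
  obtain ⟨ω₀, hω₀⟩ := HasEnoughRootsOfUnity.exists_primitiveRoot E r
  let Λ := Finset.univ.image lam
  have hl₀ne : l₀ ≠ 0 := fun h0 => h.cne (by rw [← hl₀, h0, zero_pow h.pair.prime.ne_zero])
  have hΛ : Λ.card = r := by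
    rw [← hω₀.card_nthRootsFinset]
    symm
    refine Finset.card_bij (fun ω _ => ω * l₀) (fun ω hω => ?_) (fun _ _ _ _ h1 => mul_right_cancel₀ hl₀ne h1) ?_
    · rw [Polynomial.mem_nthRootsFinset h.pair.prime.pos] at hω
      obtain ⟨i, hi⟩ := hall' (ω * l₀) (by rw [mul_pow, hω, hl₀, one_mul])
      exact hi ▸ Finset.mem_image_of_mem _ (Finset.mem_univ i)
    · intro μ hμ
      obtain ⟨i, -, rfl⟩ := Finset.mem_image.mp hμ
      refine ⟨lam i * l₀⁻¹, ?_, inv_mul_cancel_right₀ hl₀ne _⟩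
      rw [Polynomial.mem_nthRootsFinset h.pair.prime.pos, mul_pow, inv_pow, h.lam_pow he, hl₀,
        mul_inv_cancel₀ h.cne]
  let n : E → E → ℕ := fun η μ => (Finset.univ.filter fun i => d i = η ∧ lam i = μ).card
  have hFib : ∀ η, (Finset.univ.filter fun i => d i = η).card = ∑ μ ∈ Λ, n η μ := fun η => by
    rw [Finset.card_eq_sum_card_fiberwise (f := lam) (t := Λ)
      (fun i _ => Finset.mem_image_of_mem _ (Finset.mem_univ i))]
    exact Finset.sum_congr rfl fun μ _ => by rw [Finset.filter_filter]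
  have hmemT : ∀ i, d i ∈ ({1, -1} : Finset E) := fun i => by
    rcases hdv i with h1 | h1 <;> simp [h1]
  have htot : (Finset.univ.filter fun pq : s × s => d pq.1 = d pq.2).card =
      ∑ η ∈ ({1, -1} : Finset E), (∑ μ ∈ Λ, n η μ) ^ 2 := by
    have := pairs_count (Finset.univ : Finset s) d ({1, -1} : Finset E) (fun i _ => hmemT i)
    simp only [Finset.univ_product_univ, hFib] at this
    exact this
  have hone : (Finset.univ.filter fun pq : s × s => lam pq.1 = lam pq.2 ∧ d pq.1 = d pq.2).card =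
      ∑ η ∈ ({1, -1} : Finset E), ∑ μ ∈ Λ, n η μ ^ 2 := by
    have := pairs_count (Finset.univ : Finset s) (fun i => (d i, lam i)) (({1, -1} : Finset E) ×ˢ Λ) (fun i _ =>
      Finset.mem_product.mpr ⟨hmemT i, Finset.mem_image_of_mem _ (Finset.mem_univ i)⟩)
    simp only [Finset.univ_product_univ, Prod.ext_iff, Finset.sum_product] at this
    rw [← this]
    congr 1
    exact Finset.filter_congr fun pq _ => and_comm
  have hkey := h.key he (d := d) (p := Equiv.refl _) hb (fun _ => rfl)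
  simp only [Equiv.refl_apply, and_self, not_true_eq_false, Finset.filter_false, Finset.card_empty,
    zero_add, true_and, and_false] at hkey
  rw [htot, hone, ← mul_assoc, mul_comm r 2, mul_assoc, mul_comm (r - 1) 2, ← mul_add,
    Nat.mul_left_cancel_iff (by norm_num : 0 < 2), Finset.sum_pair hne, Finset.sum_pair hne] at hkey
  -- the negative column
  obtain ⟨i₂, hi₂⟩ : ∃ i, d i = -1 := by
    by_contra hno
    push Not at hno
    exact hq₀ (h.one_apply_fix (e.ext fun i => by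
      rw [hb, (hdv i).resolve_right (hno i), one_smul]; rfl))
  obtain ⟨i₀, hi₀⟩ := hall' l₀ hl₀
  have hl₀Λ : l₀ ∈ Λ := hi₀ ▸ Finset.mem_image_of_mem _ (Finset.mem_univ i₀)
  have hn0 : n (-1) l₀ = 0 := Finset.card_eq_zero.mpr (Finset.filter_eq_empty_iff.mpr fun x _ hx =>
    hne ((hd1 x hx.2).symm.trans hx.1))
  have hcol := column Λ (n (-1)) hl₀Λ hn0
    ⟨lam i₂, Finset.mem_image_of_mem _ (Finset.mem_univ i₂),
      Finset.card_ne_zero.mpr ⟨i₂, Finset.mem_filter.mpr ⟨Finset.mem_univ _, hi₂, rfl⟩⟩⟩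
  have hpos : ((∑ μ ∈ Λ, n 1 μ) ^ 2 : ℕ) ≤ Λ.card * ∑ μ ∈ Λ, n 1 μ ^ 2 := sq_sum_le_card_mul_sum_sq
  rw [hΛ] at hcol hpos
  have heq : r * ∑ μ ∈ Λ, n (-1) μ ^ 2 = (∑ μ ∈ Λ, n (-1) μ) ^ 2 + (r - 1) := by
    rw [mul_add] at hkey
    omega
  have hle1 : ∀ μ ∈ Λ, n (-1) μ ≤ 1 := fun μ hμ => by
    have h1 := spread Λ (n (-1)) (by rw [hΛ, heq]) hμ hl₀Λ
    rwa [hn0] at h1
  have hsq : ∑ μ ∈ Λ, n (-1) μ ^ 2 = ∑ μ ∈ Λ, n (-1) μ := Finset.sum_congr rfl fun μ hμ => by
    rcases Nat.le_one_iff_eq_zero_or_eq_one.mp (hle1 μ hμ) with h1 | h1 <;> rw [h1] <;> rfl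
  rw [hsq] at heq
  have hB1 : 1 ≤ ∑ μ ∈ Λ, n (-1) μ :=
    (Nat.one_le_iff_ne_zero.mpr (Finset.card_ne_zero.mpr ⟨i₂, Finset.mem_filter.mpr
      ⟨Finset.mem_univ _, hi₂, rfl⟩⟩ : n (-1) (lam i₂) ≠ 0)).trans
      (Finset.single_le_sum (f := n (-1)) (fun _ _ => Nat.zero_le _) (Finset.mem_image_of_mem _ (Finset.mem_univ i₂)))
  -- the eigenspaces of conjugation
  let hM : Mono (unitBasis e) (conjBy b b') (Equiv.refl _) (fun pq => d pq.1 * (d pq.2)⁻¹) 2 :=
    ⟨conjBy_unit (π := Equiv.refl _) hb h.binv h.binv' (h.d_ne (p := Equiv.refl _) hb), h.oprime, h.pair.powB⟩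
  have hdim : ∀ ζ : E, ζ ^ 2 = 1 →
      2 * (Finset.univ.filter fun pq : s × s => d pq.1 * (d pq.2)⁻¹ = ζ).card =
        (Finset.univ.filter fun q => πB q ≠ q).card +
          2 * (Finset.univ.filter fun q => πB q = q ∧ dQ q = ζ).card := by
    intro ζ hζ
    have e1 := h.monoB.finrank_eigen hζ
    have e2 := hM.finrank_eigen hζ
    simp only [Equiv.refl_apply, ne_eq, not_true_eq_false, Finset.filter_false, Finset.card_empty,
      zero_add, true_and] at e2
    rw [← e2, e1]
  have hp := hdim 1 (one_pow 2)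
  have hm := hdim (-1) neg_one_sq
  rw [show (Finset.univ.filter fun q => πB q = q ∧ dQ q = 1) = Finset.univ.filter fun q => πB q = q from
    Finset.filter_congr fun q _ => ⟨fun hq => hq.1, fun hq => ⟨hq, hd q hq⟩⟩] at hp
  rw [show (Finset.univ.filter fun q => πB q = q ∧ dQ q = -1) = ∅ from
    Finset.filter_eq_empty_iff.mpr fun q _ hq => hne ((hd q hq.1).symm.trans hq.2), Finset.card_empty] at hm
  rw [show (Finset.univ.filter fun pq : s × s => d pq.1 * (d pq.2)⁻¹ = 1) =
      Finset.univ.filter fun pq : s × s => d pq.1 = d pq.2 from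
    Finset.filter_congr fun pq _ => mul_inv_eq_one₀ (h.d_ne (p := Equiv.refl _) hb pq.2), htot,
    Finset.sum_pair hne] at hp
  rw [show (Finset.univ.filter fun pq : s × s => d pq.1 * (d pq.2)⁻¹ = -1) =
      Finset.univ.filter fun pq : s × s => ¬ d pq.1 = d pq.2 from Finset.filter_congr fun pq _ => by
    rcases hdv pq.1 with h1 | h1 <;> rcases hdv pq.2 with h3 | h3 <;> rw [h1, h3] <;>
      simp [hne, hne.symm, inv_neg]] at hm
  have hs2 := Finset.card_filter_add_card_filter_not (s := (Finset.univ : Finset (s × s)))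
    (fun pq => d pq.1 = d pq.2)
  rw [htot, Finset.sum_pair hne, Finset.card_univ, Fintype.card_prod, ← sq] at hs2
  have hs1 : Fintype.card s = (∑ μ ∈ Λ, n 1 μ) + ∑ μ ∈ Λ, n (-1) μ := by
    rw [← hFib, ← hFib, ← Finset.card_univ, ← Finset.card_filter_add_card_filter_not
      (s := (Finset.univ : Finset s)) (fun i => d i = 1)]
    congr 2
    exact Finset.filter_congr fun i _ => ⟨(hdv i).resolve_left, fun h1 h3 => hne (h3.symm.trans h1)⟩
  have hQ : Fintype.card Q = Fintype.card s ^ 2 := by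
    rw [← Module.finrank_eq_card_basis bb, Module.finrank_eq_card_basis (unitBasis e), Fintype.card_prod, sq]
  set A := ∑ μ ∈ Λ, n 1 μ
  set B := ∑ μ ∈ Λ, n (-1) μ
  have hB : B = 1 ∨ B = r - 1 := by
    obtain ⟨r', hr'⟩ : ∃ r', r = r' + 1 := ⟨r - 1, by omega⟩
    subst hr'
    rw [Nat.add_sub_cancel] at heq ⊢
    have h1 : ((B : ℤ) - 1) * ((B : ℤ) - r') = 0 := by
      have : ((r' : ℤ) + 1) * B = B ^ 2 + r' := by exact_mod_cast heq
      linear_combination -this
    rcases mul_eq_zero.mp h1 with h3 | h3 <;> omega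
  have hFeq : ((A : ℤ) - B) ^ 2 = ((Finset.univ.filter fun q => πB q = q).card : ℤ) := by
    have e1 : (Finset.univ.filter fun pq : s × s => ¬ d pq.1 = d pq.2).card = 2 * (A * B) := by
      rw [hs1] at hs2
      ring_nf at hs2 ⊢
      omega
    rw [e1] at hm
    have h1 : (2 * (A ^ 2 + B ^ 2) : ℤ) = (Finset.univ.filter fun q => πB q ≠ q).card +
        2 * (Finset.univ.filter fun q => πB q = q).card := by exact_mod_cast hp
    have h3 : (2 * (2 * (A * B)) : ℤ) = (Finset.univ.filter fun q => πB q ≠ q).card := by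
      exact_mod_cast (by simpa using hm : 2 * (2 * (A * B)) = (Finset.univ.filter fun q => πB q ≠ q).card)
    have h4 : 2 * ((A : ℤ) - B) ^ 2 = 2 * ((Finset.univ.filter fun q => πB q = q).card : ℤ) := by
      linear_combination h1 - h3
    linarith
  rw [hQ, hs1] at hF
  refine ⟨odd_square_div h.pair.prime hFeq hF hodd hB1 (by omega) hB hr3 hFr, ?_⟩
  -- the joint eigenspaces are lines
  intro μ w w' hw0 haw hbw haw' hbw'
  have hsupp : ∀ x : V, a x = μ • x → b x = -x → ∀ i, e.repr x i ≠ 0 → d i = -1 ∧ lam i = μ := by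
    intro x hax hbx i hi
    have h1 : ∀ (f : Module.End E V) (z : s → E), (∀ j, f (e j) = z j • e j) →
        e.repr (f x) i = e.repr x i * z i := by
      intro f z hf
      have : f x = ∑ j, (e.repr x j * z j) • e j := by
        conv_lhs => rw [← e.sum_repr x, map_sum]
        exact Finset.sum_congr rfl fun j _ => by rw [map_smul, hf, smul_smul]
      rw [this, e.repr_sum_self]
    have ha := h1 a lam he
    have hb' := h1 b d hb
    rw [hax, map_smul, Finsupp.smul_apply, smul_eq_mul, mul_comm] at ha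
    rw [hbx, map_neg, Finsupp.neg_apply, ← mul_neg_one] at hb'
    exact ⟨(mul_left_cancel₀ hi hb').symm, (mul_left_cancel₀ hi ha).symm⟩
  obtain ⟨i, hi⟩ : ∃ i, e.repr w i ≠ 0 := by
    by_contra hno
    push Not at hno
    exact hw0 (e.repr.injective (Finsupp.ext fun i => by rw [hno i, map_zero]; rfl))
  have honly : ∀ x : V, a x = μ • x → b x = -x → x = e.repr x i • e i := by
    intro x hax hbx
    conv_lhs => rw [← e.sum_repr x]
    refine Finset.sum_eq_single i (fun j _ hji => ?_) (fun hni => absurd (Finset.mem_univ i) hni)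
    by_cases hj : e.repr x j = 0
    · rw [hj, zero_smul]
    exfalso
    have hiS := hsupp w haw hbw i hi
    have hjS := hsupp x hax hbx j hj
    refine hji (Finset.card_le_one.mp (hle1 μ (hiS.2 ▸ Finset.mem_image_of_mem _ (Finset.mem_univ i))) j ?_ i ?_)
    · exact Finset.mem_filter.mpr ⟨Finset.mem_univ _, hjS⟩
    · exact Finset.mem_filter.mpr ⟨Finset.mem_univ _, hiS⟩
  refine ⟨e.repr w' i / e.repr w i, ?_⟩
  calc w' = e.repr w' i • e i := honly w' haw' hbw'
    _ = (e.repr w' i / e.repr w i) • (e.repr w i • e i) := by rw [smul_smul, div_mul_cancel₀ _ hi]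
    _ = (e.repr w' i / e.repr w i) • w := by rw [← honly w haw hbw]

end Cfsg.Agent.Turull
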