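import Cfsg.Agent.Turull.Impl
import Cfsg.Agent.Turull.Invol

/-!
A two-group fixing the fixed points acts on a nondegenerate group of operators through a cyclic group,
so its automorphisms of odd order that respect the kernel act trivially modulo the kernel.
-/

set_option autoImplicit false
set_option maxHeartbeats 2000000

namespace Cfsg.Agent.Turull

open Module
open scoped commutatorElement

variable {E : Type*} [Field E] {W : Type*} [AddCommGroup W] [Module E W] {N : Type*} [Group N]
variable {ρ : N →* Module.End E W} {σ : N ≃* N} {S : Module.End E W} {r : ℕ}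

/-- An involution inverts the classes. -/
theorem Model.involution [IsAlgClosed E] [FiniteDimensional E W] [Nontrivial W] [Finite N]
    {t : ℕ} [Fact t.Prime] (ht2 : t ≠ 2) (hN : IsPGroup t N) (h2 : (2 : E) ≠ 0) (hr : (r : E) ≠ 0)
    (hr2 : r ≠ 2) {J : Submodule E W} {τ : N →* Module.End E J} {Φ : Module.End E J →ₐ[E] Module.End E W}
    {a a' : Module.End E J} {c : E} (M : Model ρ σ J τ Φ a a' c r) (hn : Nondeg ρ) (h : Act ρ σ S r)
    {l₀ : E} (hl₀ : l₀ ^ r = c) (hall : ∀ μ : E, μ ^ r = c → ∃ v : J, v ≠ 0 ∧ a v = μ • v)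
    {x x' : Module.End E W} (φ : N → N) (hx : ∀ g, x * ρ g = ρ (φ g) * x) (hxx : x * x' = 1)
    (hxS : Commute x S) (hx'S : Commute x' S) {b : Module.End E J} (hI : Impl Φ a l₀ x x' b b)
    (hb1 : b ≠ 1) :
    (∀ q : N ⧸ scal ρ, barOf x x' φ hx hxx q = q⁻¹) ∧
      ∀ (μ : E) (w w' : J), w ≠ 0 → a w = μ • w → b w = -w → a w' = μ • w' → b w' = -w' →
        ∃ k : E, w' = k • w := by
  classical
  have hΦinj := M.phi_injective hn
  haveI : Fintype (N ⧸ scal ρ) := Fintype.ofFinite _
  let bb : Basis (N ⧸ scal ρ) E (Module.End E J) := Basis.mk M.indep (fun X _ => M.span X)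
  have hbb : ∀ q, bb q = τ q.out := fun q => by rw [Basis.mk_apply]
  obtain ⟨v₀, hv₀, -⟩ := hall l₀ hl₀
  haveI : Nontrivial J := nontrivial_of_ne v₀ 0 hv₀
  have hφ : ∀ g, ρ (φ g) = x * ρ g * x' := fun g => by rw [hx, mul_assoc, hxx, mul_one]
  have hρσ : ∀ g, ρ (σ g) = S * ρ g * S ^ (r - 1) := fun g => by rw [h.rel, mul_assoc, h.cancel, mul_one]
  set bar := barOf x x' φ hx hxx
  have hinv2 : ∀ X, x * (x * Φ X * x') * x' = Φ X := fun X => by
    rw [← hI.conj, ← hI.conj, show b * (b * X * b) * b = b * b * X * (b * b) by simp only [mul_assoc],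
      hI.inv, one_mul, mul_one]
  have hbar2 : ∀ q, bar (bar q) = q := by
    intro q
    induction q using QuotientGroup.induction_on with
    | H g =>
      rw [barOf_mk, barOf_mk]
      refine mem_scal_of_eq ?_
      rw [hφ, hφ, ← M.phi, hinv2]
  have hcomm : ∀ q, bar (h.bar q) = h.bar (bar q) := by
    intro q
    induction q using QuotientGroup.induction_on with
    | H g =>
      rw [h.bar_mk, barOf_mk, barOf_mk, h.bar_mk]
      refine mem_scal_of_eq ?_
      rw [hφ, hρσ, hρσ, hφ, ← mul_assoc, ← mul_assoc, hxS.eq, mul_assoc _ (S ^ (r - 1)) x',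
        ← (hx'S.pow_right (r - 1)).eq]
      simp only [mul_assoc]
  have hbarσ : Function.Injective h.bar := (injective_iff_map_eq_one _).mpr fun q hq => by
    obtain ⟨g, rfl⟩ := QuotientGroup.mk'_surjective (scal ρ) q
    obtain ⟨d, hd⟩ := (QuotientGroup.eq_one_iff (σ g)).mp hq
    refine (QuotientGroup.eq_one_iff g).mpr ⟨d, ?_⟩
    have h1 := h.rel g
    rw [hd, smul_mul_assoc, one_mul] at h1
    have h3 : S ^ (r - 1) * S = 1 := by rw [← pow_succ, Nat.sub_add_cancel h.prime.one_le, h.pow]
    calc ρ g = S ^ (r - 1) * S * ρ g := by rw [h3, one_mul]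
      _ = d • (1 : Module.End E W) := by rw [mul_assoc, h1, mul_smul_comm, h3]
  let π : Equiv.Perm (N ⧸ scal ρ) :=
    Equiv.ofBijective h.bar ⟨hbarσ, Finite.injective_iff_surjective.mp hbarσ⟩
  let πB : Equiv.Perm (N ⧸ scal ρ) := ⟨bar, bar, hbar2, hbar2⟩
  have hzS : ∀ q : N ⧸ scal ρ, ∃ d : E, conjBy a a' (bb q) = d • bb (π q) := by
    intro q
    obtain ⟨z, ⟨d, hd⟩, hz'⟩ := exists_out ρ (σ q.out)
    have e1 : (QuotientGroup.mk (σ q.out) : N ⧸ scal ρ) = π q := by
      change _ = h.bar q
      rw [← h.bar_mk, QuotientGroup.out_eq']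
    refine ⟨d, ?_⟩
    rw [conjBy_apply, hbb, hbb, M.inter, mul_assoc, M.inv, mul_one, hz', map_mul, M.scalar z d hd, mul_smul_comm,
      mul_one, e1]
  have hzB : ∀ q : N ⧸ scal ρ, ∃ d : E, conjBy b b (bb q) = d • bb (πB q) := by
    intro q
    obtain ⟨z, ⟨d, hd⟩, hz'⟩ := exists_out ρ (φ q.out)
    have e1 : (QuotientGroup.mk (φ q.out) : N ⧸ scal ρ) = πB q := by
      change _ = bar q
      rw [← barOf_mk hx hxx, QuotientGroup.out_eq']
    refine ⟨d, hΦinj ?_⟩
    rw [conjBy_apply, hI.conj, hbb, hbb, M.phi, map_smul, M.phi, ← hφ, hz', map_mul, hd, mul_smul_comm, mul_one,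
      e1]
  choose cQ hcQ using hzS
  choose dQ hdQ using hzB
  have hone : ∃ d : E, bb 1 = d • (1 : Module.End E J) := by
    obtain ⟨d, hd⟩ : (1 : N ⧸ scal ρ).out ∈ scal ρ :=
      (QuotientGroup.eq_one_iff _).mp (QuotientGroup.out_eq' _)
    exact ⟨d, by rw [hbb, M.scalar _ d hd]⟩
  obtain ⟨d₁, hd₁⟩ := hone
  have hfix1 : ∀ (f f' : Module.End E J), f * f' = 1 → conjBy f f' (bb 1) = bb 1 := fun f f' hff => by
    rw [conjBy_apply, hd₁, mul_smul_comm, mul_one, smul_mul_assoc, hff]
  have hpow : ∀ (f f' : Module.End E J) (n : ℕ) (X : Module.End E J),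
      (conjBy f f' ^ n) X = f ^ n * X * f' ^ n := by
    intro f f' n X
    induction n with
    | zero => simp
    | succ n ihn =>
      rw [pow_succ', Module.End.mul_apply, ihn, conjBy_apply, pow_succ' f, pow_succ f']
      simp only [mul_assoc]
  have ha'r : a' ^ r = c⁻¹ • (1 : Module.End E J) := by
    have h3 : a ^ r * a' ^ r = 1 := by
      rw [← Commute.mul_pow (show Commute a a' from M.inv.trans M.inv'.symm), M.inv, one_pow]
    rw [M.apow, smul_mul_assoc, one_mul] at h3
    rw [← h3, smul_smul, inv_mul_cancel₀ M.cne, one_smul]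
  have hcl : Classy bb a a' b b c π πB cQ dQ r 2 1 :=
    { inv := M.inv
      inv' := M.inv'
      apow := M.apow
      cne := M.cne
      binv := hI.inv
      binv' := hI.inv'
      bpow := by rw [sq]; exact hI.inv
      comm := hI.comm
      oprime := Nat.prime_two
      rne := hr
      pair :=
        { prime := h.prime
          cop := (Nat.coprime_primes h.prime Nat.prime_two).mpr hr2
          mapC := hcQ
          mapB := hdQ
          powC := LinearMap.ext fun X => by
            rw [hpow, M.apow, ha'r, smul_mul_assoc, one_mul, smul_mul_assoc, mul_smul_comm, mul_one, smul_smul,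
              mul_inv_cancel₀ M.cne, one_smul]
            rfl
          powB := LinearMap.ext fun X => by rw [hpow, sq, hI.inv, one_mul, mul_one]; rfl
          comm := hcomm
          fix := fun q => ⟨fun hq => h.bar_fpf hn hq, fun hq => by rw [hq]; exact map_one h.bar⟩
          fixB := map_one bar
          c₁ := by
            have h1 := hcQ 1
            rw [hfix1 a a' M.inv, show π 1 = 1 from map_one h.bar] at h1
            exact (smul_left_injective E (bb.ne_zero 1) ((one_smul E (bb 1)).trans h1)).symm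
          d₁ := by
            have h1 := hdQ 1
            rw [hfix1 b b hI.inv, show πB 1 = 1 from map_one bar] at h1
            exact (smul_left_injective E (bb.ne_zero 1) ((one_smul E (bb 1)).trans h1)).symm } }
  obtain ⟨k, hk⟩ := IsPGroup.iff_card.mp (hN.to_quotient (scal ρ))
  have hoddQ : Odd (Nat.card (N ⧸ scal ρ)) := by
    rw [hk]; exact ((Fact.out : t.Prime).odd_of_ne_two ht2).pow
  have hd : ∀ q, πB q = q → dQ q = 1 := by
    intro q hq
    have h1 := hdQ q
    rw [hq, conjBy_apply] at h1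
    have hn' : ∀ n : ℕ, (b * bb q * b) ^ n = b * bb q ^ n * b := by
      intro n
      induction n with
      | zero => simp [hI.inv]
      | succ n ihn =>
        rw [pow_succ, ihn, pow_succ]
        calc b * bb q ^ n * b * (b * bb q * b) = b * bb q ^ n * (b * b) * (bb q * b) := by
              simp only [mul_assoc]
          _ = b * (bb q ^ n * bb q) * b := by rw [hI.inv, mul_one]; simp only [mul_assoc]
    obtain ⟨s, hs⟩ : ∃ s : E, bb q ^ Nat.card (N ⧸ scal ρ) = s • (1 : Module.End E J) := by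
      obtain ⟨s, hs⟩ : q.out ^ Nat.card (N ⧸ scal ρ) ∈ scal ρ := by
        rw [← QuotientGroup.eq_one_iff, QuotientGroup.mk_pow, QuotientGroup.out_eq', pow_card_eq_one']
      exact ⟨s, by rw [hbb, ← map_pow, M.scalar _ s hs]⟩
    have hu : IsUnit (bb q) := by
      rw [hbb]
      exact ⟨⟨τ q.out, τ q.out⁻¹, by rw [← map_mul, mul_inv_cancel, map_one],
        by rw [← map_mul, inv_mul_cancel, map_one]⟩, rfl⟩
    have h3 := hn' (Nat.card (N ⧸ scal ρ))
    rw [h1, smul_pow, hs, mul_smul_comm, mul_one, smul_mul_assoc, hI.inv, smul_smul] at h3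
    have hs0 : s ≠ 0 := fun h0 => (hu.pow (Nat.card (N ⧸ scal ρ))).ne_zero (by rw [hs, h0, zero_smul])
    have hne1 : (1 : Module.End E J) ≠ 0 := one_ne_zero
    have h4 : dQ q ^ Nat.card (N ⧸ scal ρ) = 1 :=
      (mul_eq_right₀ hs0).mp (smul_left_injective E hne1 h3)
    have h5 : dQ q * dQ q = 1 := by
      have h6 : bb q = (dQ q * dQ q) • bb q :=
        calc bb q = b * (b * bb q * b) * b := by
              rw [show b * (b * bb q * b) * b = b * b * bb q * (b * b) by simp only [mul_assoc], hI.inv, one_mul,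
                mul_one]
          _ = b * (dQ q • bb q) * b := by rw [h1]
          _ = (dQ q * dQ q) • bb q := by rw [mul_smul_comm, smul_mul_assoc, h1, smul_smul]
      exact (smul_left_injective E (bb.ne_zero q) ((one_smul E (bb q)).trans h6)).symm
    rcases mul_self_eq_one_iff.mp h5 with h6 | h6
    · exact h6
    · rw [h6, hoddQ.neg_one_pow] at h4
      exact absurd (show (2 : E) = 0 by linear_combination -h4) h2
  obtain ⟨g₁, hg₁⟩ : ∃ g, πB (QuotientGroup.mk g) ≠ (QuotientGroup.mk g : N ⧸ scal ρ) := by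
    by_contra hall'
    push Not at hall'
    refine hb1 ?_
    obtain ⟨s, hs⟩ := scalar_of_central b fun X => by
      have h3 : b * X * b = X := hΦinj (by
        rw [hI.conj]
        refine M.span_induction (P := fun X => x * Φ X * x' = Φ X) (by simp) (fun g => ?_)
          (fun X Y hX hY => by rw [map_add, mul_add, add_mul, hX, hY])
          (fun e X hX => by rw [map_smul, mul_smul_comm, smul_mul_assoc, hX]) X
        rw [M.phi]
        have h4 := h.commute_of_bar (x' := x') (mul_eq_one_comm.mp hxx) φ hx hxS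
          (fun g => (barOf_mk hx hxx g).symm.trans (hall' g)) g
        rw [h4.eq, mul_assoc, hxx, mul_one])
      calc b * X = b * X * (b * b) := by rw [hI.inv, mul_one]
        _ = b * X * b * b := by rw [mul_assoc (b * X)]
        _ = X * b := by rw [h3]
    obtain ⟨w, hw, hwa⟩ := hall l₀ hl₀
    have h7 := hI.block w hwa
    rw [hs, LinearMap.smul_apply, Module.End.one_apply] at h7
    rw [hs, smul_left_injective E hw (h7.trans (one_smul E w).symm), one_smul]
  -- the fixed classes
  let ψ : N ⧸ scal ρ →* N ⧸ scal ρ :=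
    { toFun := fun q => q⁻¹ * bar q
      map_one' := by rw [inv_one, one_mul, map_one]
      map_mul' := fun q q' => by
        calc (q * q')⁻¹ * bar (q * q') = q'⁻¹ * (q⁻¹ * bar q) * bar q' := by
              rw [map_mul, mul_inv_rev]; simp only [mul_assoc]
          _ = q⁻¹ * bar q * (q'⁻¹ * bar q') := by rw [hn.comm_quot q'⁻¹, mul_assoc] }
  have hmemk : ∀ q, q ∈ ψ.ker ↔ bar q = q := fun q => by
    rw [MonoidHom.mem_ker]
    change q⁻¹ * bar q = 1 ↔ bar q = q
    rw [inv_mul_eq_one]
    exact eq_comm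
  have hker : Nat.card ψ.ker = (Finset.univ.filter fun q => πB q = q).card := by
    rw [← Fintype.card_subtype, ← Nat.card_eq_fintype_card]
    exact Nat.card_congr (Equiv.subtypeEquivRight hmemk)
  have hFdvd : Nat.card ψ.ker ∣ Nat.card (N ⧸ scal ρ) := Subgroup.card_subgroup_dvd_card _
  have hFr : r ∣ Nat.card ψ.ker - 1 := by
    let πK : Equiv.Perm ψ.ker := π.subtypePerm fun q => by
      rw [hmemk, hmemk]
      change bar (h.bar q) = h.bar q ↔ bar q = q
      rw [hcomm]
      exact hbarσ.eq_iff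
    have hπr : πK ^ r ^ 1 = 1 := by
      rw [pow_one]
      refine Equiv.ext fun q => Subtype.ext ?_
      rw [Equiv.Perm.subtypePerm_pow, Equiv.Perm.subtypePerm_apply]
      exact perm_periodic hcl.pair.mapC hcl.pair.powC q
    haveI := Fact.mk h.prime
    have hmod := Equiv.Perm.card_compl_support_modEq hπr
    have hone : (πK.support)ᶜ = {1} := by
      ext q
      rw [Finset.mem_compl, Equiv.Perm.mem_support, not_not, Finset.mem_singleton, Subtype.ext_iff]
      exact ⟨fun hq => Subtype.ext (h.bar_fpf hn hq), fun hq => by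
        subst hq
        exact map_one h.bar⟩
    rw [hone, Finset.card_singleton, ← Nat.card_eq_fintype_card] at hmod
    exact (Nat.modEq_iff_dvd' Nat.card_pos).mp hmod
  rw [hker] at hFdvd hFr
  obtain ⟨hF1, hlines⟩ := hcl.involution h2 hall hl₀ hI.block (by have := h.prime.two_le; omega) hd
    (hoddQ.of_dvd_nat hFdvd) (Nat.card_eq_fintype_card (α := N ⧸ scal ρ) ▸ hFdvd) hFr hg₁
  refine ⟨fun q => ?_, hlines⟩
  have h1 : bar (q * bar q) = q * bar q := by rw [map_mul, hbar2, hn.comm_quot]
  have h3 : q * bar q = 1 := Finset.card_le_one.mp hF1.le _ (Finset.mem_filter.mpr ⟨Finset.mem_univ _, h1⟩) _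
    (Finset.mem_filter.mpr ⟨Finset.mem_univ _, map_one bar⟩)
  exact eq_inv_of_mul_eq_one_right h3

/-- A two-group of operators fixing the fixed points. -/
theorem Nondeg.no_even [IsAlgClosed E] [FiniteDimensional E W] [Nontrivial W] [Finite N] {t : ℕ}
    [Fact t.Prime] (hN : IsPGroup t N) (ht : (t : E) ≠ 0) (hr : (r : E) ≠ 0) (hn : Nondeg ρ)
    (h : Act ρ σ S r) (ht2 : t ≠ 2) (h2 : (2 : E) ≠ 0) (hr2 : r ≠ 2)
    {L : Type*} [Group L] [Finite L] (hL : IsPGroup 2 L) (χ : L →* Module.End E W) (φ : L → N → N)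
    (hx : ∀ l g, χ l * ρ g = ρ (φ l g) * χ l) (hS : ∀ l, Commute (χ l) S)
    (hfix : ∀ l v, S v = v → χ l v = v) {p e : ℕ} (hp : p.Prime) (hp2 : p ≠ 2) (ψ : L →* L)
    (hψ : ∀ l, ψ^[p ^ e] l = l) (hψK : ∀ l, (∀ g, Commute (χ l) (ρ g)) → ∀ g, Commute (χ (ψ l)) (ρ g)) :
    ∀ l g, Commute (χ (l⁻¹ * ψ l)) (ρ g) := by
  classical
  haveI : Fact (2 : ℕ).Prime := ⟨Nat.prime_two⟩
  have hinv : ∀ l, χ l * χ l⁻¹ = 1 := fun l => by rw [← map_mul, mul_inv_cancel, map_one]
  have hinv' : ∀ l, χ l⁻¹ * χ l = 1 := fun l => by rw [← map_mul, inv_mul_cancel, map_one]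
  obtain ⟨J, τ, Φ, a, a', c, M, hJ0, hk, hcard, hrel⟩ := exists_act_model hN ht hn h
  by_cases hu : Module.finrank E J ≤ 1
  · intro l g
    have h1 : Module.finrank E J ^ 2 ≤ 1 := Nat.pow_le_one_iff (by norm_num) |>.mpr hu
    rw [hcard] at h1
    haveI := Finite.card_le_one_iff_subsingleton.mp h1
    exact h.commute_of_bar (hinv' _) (φ _) (hx _) (hS _) (fun _ => Subsingleton.elim _ _) g
  haveI : Nontrivial J := Submodule.nontrivial_iff_ne_bot.mpr hJ0
  obtain ⟨ι, _, eJ, lam, hlam, -, hall⟩ := M.eigenbasis hn h hr hk (by omega)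
  have hall' : ∀ μ : E, μ ^ r = c → ∃ v : J, v ≠ 0 ∧ a v = μ • v := fun μ hμ => by
    obtain ⟨i, hi⟩ := (hall.resolve_right fun hh => ht2 hh.1) μ hμ
    exact ⟨eJ i, eJ.ne_zero i, by rw [hlam, hi]⟩
  obtain ⟨μ, v, hμ0, hv0, hl₀, hv⟩ := M.exists_block h hrel
  obtain ⟨w₀, hw₀, hw₀a⟩ := hall' μ⁻¹ hl₀
  have hΦinj := M.phi_injective hn
  obtain ⟨kL, hkL⟩ := IsPGroup.iff_card.mp hL
  have hcop : (Nat.card L).Coprime r := by
    rw [hkL]
    exact Nat.Coprime.pow_left _ ((Nat.coprime_primes Nat.prime_two h.prime).mpr (Ne.symm hr2))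
  have himpl : ∀ l, ∃ b b', Impl Φ a μ⁻¹ (χ l) (χ l⁻¹) b b' := fun l =>
    M.exists_impl hn h hrel hμ0 hv0 hv hw₀ hw₀a (hinv l) (hinv' l) (φ l) (hx l) (hS l) (hfix l)
      Nat.card_pos (by rw [← map_pow, pow_card_eq_one', map_one]) hcop
  choose β β' hβ using himpl
  have huniq : ∀ {x x' : Module.End E W} {b b₀' b₂ b₂' : Module.End E J},
      Impl Φ a μ⁻¹ x x' b b₀' → Impl Φ a μ⁻¹ x x' b₂ b₂' → b = b₂ := fun h1 h2' => h1.unique h2' hΦinj hw₀ hw₀a
  have hmul : ∀ l m, β (l * m) = β l * β m := fun l m => by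
    have h1 := (hβ l).mul (hβ m)
    rw [← map_mul, ← map_mul, ← mul_inv_rev] at h1
    exact huniq (hβ _) h1
  have hone : β 1 = 1 := by
    have h1 := hβ 1
    rw [inv_one, map_one] at h1
    exact huniq h1 (Impl.one _)
  have hK : ∀ l, β l = 1 ↔ ∀ g, Commute (χ l) (ρ g) := by
    intro l
    constructor
    · intro h1 g
      have h3 := (hβ l).conj (τ g)
      have h4 : β' l = 1 := by
        have := (hβ l).inv
        rwa [h1, one_mul] at this
      rw [h1, h4, one_mul, mul_one, M.phi] at h3
      calc χ l * ρ g = χ l * ρ g * (χ l⁻¹ * χ l) := by rw [hinv', mul_one]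
        _ = ρ g * χ l := by rw [← mul_assoc, ← h3]
    · intro h1
      refine huniq (hβ l) ⟨mul_one _, mul_one _, Commute.one_left _, fun X => ?_, fun w _ => rfl⟩
      rw [one_mul, mul_one]
      refine (M.span_induction (P := fun X => Φ X = χ l * Φ X * χ l⁻¹) (by simp) (fun g => ?_)
        (fun X Y hX hY => by rw [map_add, mul_add, add_mul, ← hX, ← hY])
        (fun e X hX => by rw [map_smul, mul_smul_comm, smul_mul_assoc, ← hX]) X)
      rw [M.phi, (h1 g).eq, mul_assoc, hinv, mul_one]
  let B : L →* Module.End E J := { toFun := β, map_one' := hone, map_mul' := hmul }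
  have hBi : ∀ l, β l⁻¹ * β l = 1 := fun l => by rw [← hmul, inv_mul_cancel, hone]
  have hBi' : ∀ l, β l * β l⁻¹ = 1 := fun l => by rw [← hmul, mul_inv_cancel, hone]
  have hinvol : ∀ l, β l ≠ 1 → β l * β l = 1 →
      (∀ q : N ⧸ scal ρ, barOf (χ l) (χ l⁻¹) (φ l) (hx l) (hinv l) q = q⁻¹) ∧
        ∀ (ν : E) (w w' : J), w ≠ 0 → a w = ν • w → β l w = -w → a w' = ν • w' → β l w' = -w' →
          ∃ k : E, w' = k • w := by
    intro l hl hl2
    have hb' : β' l = β l := by
      calc β' l = β' l * (β l * β l) := by rw [hl2, mul_one]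
        _ = β l := by rw [← mul_assoc, (hβ l).inv', one_mul]
    have hI := hβ l
    rw [hb'] at hI
    exact M.involution ht2 hN h2 hr hr2 hn h hl₀ hall' (φ l) (hx l) (hinv l) (hS l) (hS l⁻¹) hI hl
  -- only one involution
  have honly : ∀ l m, β l ≠ 1 → β l * β l = 1 → β m ≠ 1 → β m * β m = 1 → β l = β m := by
    intro l m hl hl2 hm hm2
    obtain ⟨h1, -⟩ := hinvol l hl hl2
    obtain ⟨h3, -⟩ := hinvol m hm hm2
    have hρφ : ∀ l g, ρ (φ l g) = χ l * ρ g * χ l⁻¹ := fun l g => by rw [hx, mul_assoc, hinv, mul_one]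
    have hfixq : ∀ g, (QuotientGroup.mk (φ (l * m) g) : N ⧸ scal ρ) = QuotientGroup.mk g := by
      intro g
      rw [show (QuotientGroup.mk (φ (l * m) g) : N ⧸ scal ρ) = QuotientGroup.mk (φ l (φ m g)) from mem_scal_of_eq (by
        rw [hρφ, hρφ, hρφ, map_mul, mul_inv_rev, map_mul]; simp only [mul_assoc])]
      rw [← barOf_mk (hx l) (hinv l), h1, ← barOf_mk (hx m) (hinv m), h3, inv_inv]
    have h4 := (hK (l * m)).mpr (h.commute_of_bar (hinv' _) (φ _) (hx _) (hS _) hfixq)
    rw [hmul] at h4
    calc β l = β l * (β m * β m) := by rw [hm2, mul_one]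
      _ = β m := by rw [← mul_assoc, h4, one_mul]
  have hsq : ∀ l (j : ℕ), β (l ^ j) = β l ^ j := fun l j => map_pow B l j
  -- abelian
  have hab : ∀ l m, β l * β m = β m * β l := by
    intro l m
    suffices hc : β ⁅l, m⁆ = 1 by
      have e : l * m = ⁅l, m⁆ * (m * l) := by rw [commutatorElement_def]; group
      rw [← hmul, e, hmul, hc, one_mul, hmul]
    by_contra hc
    obtain ⟨d, hd⟩ := IsPGroup.iff_card.mp hL
    have hex : ∃ j, β (⁅l, m⁆ ^ 2 ^ j) = 1 := ⟨d, by rw [← hd, pow_card_eq_one', hone]⟩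
    obtain ⟨i, hi⟩ : ∃ i, Nat.find hex = i + 1 := Nat.exists_eq_succ_of_ne_zero fun h0 => hc (by
      have h1 := Nat.find_spec hex
      rwa [h0, pow_zero, pow_one] at h1)
    set b := ⁅l, m⁆ ^ 2 ^ i with hb
    have hb1 : β b ≠ 1 := Nat.find_min hex (by omega)
    have hb2 : β b * β b = 1 := by
      have h1 := Nat.find_spec hex
      rwa [hi, pow_succ, pow_mul, sq, hmul] at h1
    obtain ⟨-, hlines⟩ := hinvol b hb1 hb2
    -- central
    have hcent : ∀ z, β z * β b = β b * β z := by
      intro z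
      have e1 : β (z * b * z⁻¹) ≠ 1 := fun h1 => hb1 (by
        rw [hmul, hmul] at h1
        calc β b = β z⁻¹ * (β z * β b * β z⁻¹) * β z := by
              simp only [← mul_assoc, hBi, one_mul]; rw [mul_assoc, hBi, mul_one]
          _ = 1 := by rw [h1, mul_one, hBi])
      have e2 : β (z * b * z⁻¹) * β (z * b * z⁻¹) = 1 := by
        rw [← hmul, show z * b * z⁻¹ * (z * b * z⁻¹) = z * (b * b) * z⁻¹ by group, hmul, hmul, hmul, hb2,
          mul_one, hBi']
      have h1 := honly _ _ e1 e2 hb1 hb2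
      rw [hmul, hmul] at h1
      calc β z * β b = β z * β b * β z⁻¹ * β z := by rw [mul_assoc _ (β z⁻¹), hBi, mul_one]
        _ = β b * β z := by rw [h1]
    have hzero : ∀ w : J, β b w = -w → w = 0 := by
      intro w hw
      suffices h1 : w + w = 0 by
        rw [← two_smul E] at h1
        exact (smul_eq_zero.mp h1).resolve_left h2
      have key : ∀ u : J, u - β b u = 0 := by
        intro u
        refine eigen_induction (f := a) (P := fun u : J => u - β b u = 0) hr M.cne M.apow (by simp)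
          (fun x y hx' hy' => by simp only [map_add, add_sub_add_comm, hx', hy', add_zero])
          (fun ν u _ hu => ?_) u
        set u' := u - β b u with hu'
        by_contra hne
        have hau : a u' = ν • u' := by
          rw [hu', map_sub, hu, ← Module.End.mul_apply a, ← (hβ b).comm.eq, Module.End.mul_apply, hu, map_smul,
            smul_sub]
        have hbu : β b u' = -u' := by
          rw [hu', map_sub, ← Module.End.mul_apply (β b), hb2, Module.End.one_apply, neg_sub]
        have hscal : ∀ z, ∃ k : E, β z u' = k • u' := fun z => hlines ν u' _ hne hau hbu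
          (by rw [← Module.End.mul_apply, ← (hβ z).comm.eq, Module.End.mul_apply, hau, map_smul])
          (by rw [← Module.End.mul_apply, ← hcent, Module.End.mul_apply, hbu, map_neg])
        have hmi : ∀ z, ∀ u : J, β z⁻¹ (β z u) = u := fun z u => by
          rw [← Module.End.mul_apply, hBi]; rfl
        have hcfix : β ⁅l, m⁆ u' = u' := by
          obtain ⟨k₁, hk₁⟩ := hscal l
          obtain ⟨k₂, hk₂⟩ := hscal m
          have hlm : β l (β m u') = β m (β l u') := by
            rw [hk₁, hk₂, map_smul, map_smul, hk₁, hk₂, smul_comm]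
          have h1 : β ⁅l, m⁆ (β m (β l u')) = β m (β l u') := by
            rw [← Module.End.mul_apply (β m), ← hmul, ← Module.End.mul_apply, ← hmul,
              show ⁅l, m⁆ * (m * l) = l * m by rw [commutatorElement_def]; group, hmul, hmul,
              Module.End.mul_apply, Module.End.mul_apply, hlm]
          rw [hk₁, map_smul, hk₂, smul_smul, map_smul] at h1
          refine smul_right_injective J (fun h0 => ?_) h1
          have h5 : β m (β l u') = 0 := by rw [hk₁, map_smul, hk₂, smul_smul, h0, zero_smul]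
          have h6 := congrArg (β l⁻¹) ((congrArg (β m⁻¹) h5).trans (map_zero _))
          rw [hmi, hmi, map_zero] at h6
          exact hne h6
        have hbfix : β b u' = u' := by
          rw [hb, hsq]
          exact pow_fix hcfix _
        rw [hbu, neg_eq_iff_add_eq_zero, ← two_smul E] at hbfix
        exact hne ((smul_eq_zero.mp hbfix).resolve_left h2)
      have h3 := key w
      rwa [hw, sub_neg_eq_add] at h3
    refine hb1 (LinearMap.ext fun w => ?_)
    have h1 := hzero (w - β b w) (by rw [map_sub, ← Module.End.mul_apply, hb2, Module.End.one_apply, neg_sub])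
    rw [Module.End.one_apply]
    exact (sub_eq_zero.mp h1).symm
  -- the automorphism
  have hψcongr : ∀ l m, β l = β m → β (ψ l) = β (ψ m) := by
    intro l m hlm
    have h1 : β (m⁻¹ * l) = 1 := by rw [hmul, hlm, hBi]
    have h3 := (hK _).mpr (hψK _ ((hK _).mp h1))
    rw [map_mul ψ, hmul] at h3
    calc β (ψ l) = β (ψ m) * β (ψ m⁻¹) * β (ψ l) := by
          rw [← hmul, ← map_mul, mul_inv_cancel, map_one, hone, one_mul]
      _ = β (ψ m) := by rw [mul_assoc, h3, mul_one]
  have hψne : ∀ l, β l ≠ 1 → β (ψ l) ≠ 1 := by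
    intro l hl h1
    refine hl ?_
    obtain ⟨n, hn'⟩ := Nat.exists_eq_succ_of_ne_zero (pow_ne_zero e hp.ne_zero)
    have h3 : ∀ n, β (ψ^[n] (ψ l)) = 1 := by
      intro n
      induction n with
      | zero => exact h1
      | succ n ih => rw [Function.iterate_succ_apply']; exact (hK _).mpr (hψK _ ((hK _).mp ih))
    rw [← hψ l, hn', Function.iterate_succ_apply]
    exact h3 n
  have hmain : ∀ (j : ℕ) l, β (l ^ 2 ^ j) = 1 → β (ψ l) = β l := by
    intro j
    induction j with
    | zero =>
      intro l hl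
      rw [pow_zero, pow_one] at hl
      rw [hl, hψcongr l 1 (hl.trans hone.symm), map_one, hone]
    | succ j ih =>
      intro l hl
      have h1 := ih (l ^ 2) (by rw [← pow_mul, ← pow_succ']; exact hl)
      by_contra hne
      set f := l⁻¹ * ψ l with hf
      have hf1 : β f ≠ 1 := fun h3 => hne (by
        calc β (ψ l) = β (l * f) := by rw [hf, mul_inv_cancel_left]
          _ = β l := by rw [hmul, h3, mul_one])
      have hf2 : β f * β f = 1 := by
        rw [map_pow ψ, sq, sq, hmul, hmul] at h1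
        calc β f * β f = β l⁻¹ * β (ψ l) * (β l⁻¹ * β (ψ l)) := by rw [hf, hmul]
          _ = β l⁻¹ * β l⁻¹ * (β (ψ l) * β (ψ l)) := by
              rw [mul_assoc, ← mul_assoc (β (ψ l)), hab (ψ l) l⁻¹]; simp only [mul_assoc]
          _ = 1 := by rw [h1, mul_assoc, ← mul_assoc (β l⁻¹) (β l), hBi, one_mul, hBi]
      have hf3 : β (ψ f) = β f := honly _ _ (hψne f hf1) (by
        rw [← hmul, ← map_mul, hψcongr (f * f) 1 (by rw [hmul, hf2, hone]), map_one, hone]) hf1 hf2
      have hfn : ∀ n, β (ψ^[n] f) = β f := by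
        intro n
        induction n with
        | zero => rfl
        | succ n ihn => rw [Function.iterate_succ_apply', hψcongr _ _ ihn, hf3]
      have hln : ∀ n, β (ψ^[n] l) = β l * β f ^ n := by
        intro n
        induction n with
        | zero => simp
        | succ n ihn =>
          rw [Function.iterate_succ_apply, show ψ l = l * f by rw [hf, mul_inv_cancel_left],
            iterate_map_mul ψ, hmul, ihn, hfn, mul_assoc, ← pow_succ]
      have h4 := hln (p ^ e)
      rw [hψ] at h4
      obtain ⟨i, hi⟩ := (hp.odd_of_ne_two hp2).pow (n := e)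
      rw [hi, pow_succ, pow_mul, sq, hf2, one_pow, one_mul] at h4
      refine hf1 ?_
      calc β f = β l⁻¹ * (β l * β f) := by rw [← mul_assoc, hBi, one_mul]
        _ = 1 := by rw [← h4, hBi]
  intro l
  refine (hK _).mp ?_
  rw [hmul, hmain kL l (by rw [← hkL, pow_card_eq_one', hone]), hBi]

end Cfsg.Agent.Turull
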