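import Cfsg.Agent.Turull.Exclude
import Cfsg.Agent.Turull.BaseChange

/-!
The pairing that a central character puts on a section, and the exclusion of the exceptional case.
-/

set_option autoImplicit false
set_option maxHeartbeats 1000000

namespace Cfsg.Agent.Turull

open Module
open scoped commutatorElement TensorProduct

universe u

variable {R : Type u} [Group R] {E : Type*} [Field E]

/-- A central character on the commutators. -/
structure Pairing (Y : Subgroup R) (χ : R → E) : Prop where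
  comm : ∀ g k : R, ⁅g, k⁆ ∈ Y
  mul : ∀ y ∈ Y, ∀ z ∈ Y, χ (y * z) = χ y * χ z
  one : χ 1 = 1
  conj : ∀ a, ∀ y ∈ Y, χ (a * y * a⁻¹) = χ y
  cent : ∀ y ∈ Y, ∀ g, χ ⁅y, g⁆ = 1

variable {Y : Subgroup R} {χ : R → E}

theorem Pairing.ne_zero (h : Pairing Y χ) {y : R} (hy : y ∈ Y) : χ y ≠ 0 := fun h0 => by
  have h1 := h.mul y hy y⁻¹ (Y.inv_mem hy)
  rw [mul_inv_cancel, h.one, h0, zero_mul] at h1
  exact one_ne_zero h1

theorem Pairing.mul_left (h : Pairing Y χ) (a b k : R) : χ ⁅a * b, k⁆ = χ ⁅a, k⁆ * χ ⁅b, k⁆ := by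
  have e : ⁅a * b, k⁆ = a * ⁅b, k⁆ * a⁻¹ * ⁅a, k⁆ := by simp only [commutatorElement_def]; group
  have h1 : a * ⁅b, k⁆ * a⁻¹ ∈ Y := by
    have e2 : a * ⁅b, k⁆ * a⁻¹ = ⁅a, ⁅b, k⁆⁆ * ⁅b, k⁆ := by simp only [commutatorElement_def]; group
    rw [e2]
    exact Y.mul_mem (h.comm _ _) (h.comm _ _)
  rw [e, h.mul _ h1 _ (h.comm _ _), h.conj _ _ (h.comm _ _), mul_comm]

theorem Pairing.swap (h : Pairing Y χ) (g k : R) : χ ⁅k, g⁆ * χ ⁅g, k⁆ = 1 := by
  rw [← h.mul _ (h.comm k g) _ (h.comm g k), ← commutatorElement_inv g k, inv_mul_cancel, h.one]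

theorem Pairing.mul_right (h : Pairing Y χ) (g a b : R) : χ ⁅g, a * b⁆ = χ ⁅g, a⁆ * χ ⁅g, b⁆ := by
  refine mul_left_cancel₀ (h.ne_zero (h.comm (a * b) g)) ?_
  rw [h.swap g (a * b), h.mul_left]
  calc (1 : E) = χ ⁅a, g⁆ * χ ⁅g, a⁆ * (χ ⁅b, g⁆ * χ ⁅g, b⁆) := by rw [h.swap, h.swap, one_mul]
    _ = χ ⁅a, g⁆ * χ ⁅b, g⁆ * (χ ⁅g, a⁆ * χ ⁅g, b⁆) := by ring

/-- The radical. -/
def Pairing.rad (h : Pairing Y χ) : Subgroup R where
  carrier := {g | ∀ k, χ ⁅g, k⁆ = 1}
  one_mem' := fun k => by rw [commutatorElement_one_left, h.one]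
  mul_mem' := fun {a b} ha hb k => by rw [h.mul_left, ha, hb, one_mul]
  inv_mem' := fun {a} ha k => by
    have h1 := h.mul_left a a⁻¹ k
    rw [mul_inv_cancel, commutatorElement_one_left, h.one, ha, one_mul] at h1
    exact h1.symm

theorem Pairing.mem_rad (h : Pairing Y χ) {g : R} : g ∈ h.rad ↔ ∀ k, χ ⁅g, k⁆ = 1 := Iff.rfl

theorem Pairing.le_rad (h : Pairing Y χ) : Y ≤ h.rad := fun y hy g => h.cent y hy g

theorem Pairing.rad_normal (h : Pairing Y χ) : h.rad.Normal := by
  refine ⟨fun g hg a => ?_⟩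
  have e : a * g * a⁻¹ = ⁅a, g⁆ * g := by simp only [commutatorElement_def]; group
  rw [e]
  exact h.rad.mul_mem (h.le_rad (h.comm a g)) hg

/-- The quotient by the radical as a space with a nondegenerate form. -/
theorem Pairing.exists_quot [Finite R] (h : Pairing Y χ) (h2E : (2 : E) ≠ 0) (hsq : ∀ g : R, g ^ 2 ∈ Y) :
    ∃ (X : Type u) (_ : AddCommGroup X) (_ : Module (ZMod 2) X) (_ : Finite X) (π : R → X)
      (β : X →ₗ[ZMod 2] X →ₗ[ZMod 2] ZMod 2),
      Function.Surjective π ∧ (∀ a b, π (a * b) = π a + π b) ∧ (∀ g, π g = 0 ↔ g ∈ h.rad) ∧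
      (∀ g k, β (π g) (π k) = 0 ↔ χ ⁅g, k⁆ = 1) ∧ (∀ x, (∀ y, β x y = 0) → x = 0) ∧
      ∀ φ : MulAut R, (∀ y ∈ Y, χ (φ y) = χ y) →
        ∃ f : Module.End (ZMod 2) X, (∀ g, f (π g) = π (φ g)) ∧ ∀ x y, β (f x) (f y) = β x y := by
  classical
  haveI := h.rad_normal
  have hc : ∀ a b : R ⧸ h.rad, a * b = b * a := by
    intro a b
    induction a using QuotientGroup.induction_on with
    | H g =>
    induction b using QuotientGroup.induction_on with
    | H k =>
      rw [← QuotientGroup.mk_mul, ← QuotientGroup.mk_mul, QuotientGroup.eq]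
      refine h.le_rad ?_
      have e : (g * k)⁻¹ * (k * g) = ⁅k⁻¹, g⁻¹⁆ := by simp only [commutatorElement_def]; group
      rw [e]
      exact h.comm _ _
  letI : CommGroup (R ⧸ h.rad) := { (inferInstance : Group (R ⧸ h.rad)) with mul_comm := hc }
  have h2 : ∀ x : Additive (R ⧸ h.rad), 2 • x = 0 := by
    intro x
    obtain ⟨g, hg⟩ := QuotientGroup.mk'_surjective h.rad (Additive.toMul x)
    apply Additive.toMul.injective
    rw [toMul_nsmul, toMul_zero, ← hg, ← map_pow]
    exact (QuotientGroup.eq_one_iff _).mpr (h.le_rad (hsq g))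
  letI : Module (ZMod 2) (Additive (R ⧸ h.rad)) := AddCommGroup.zmodModule h2
  let π : R → Additive (R ⧸ h.rad) := fun g => Additive.ofMul (QuotientGroup.mk g)
  have hπ : ∀ a b, π (a * b) = π a + π b := fun a b => rfl
  have hπ0 : ∀ g, π g = 0 ↔ g ∈ h.rad := fun g => QuotientGroup.eq_one_iff g
  have hsurj : Function.Surjective π := fun x => by
    obtain ⟨g, hg⟩ := QuotientGroup.mk'_surjective h.rad (Additive.toMul x)
    exact ⟨g, by simp only [π]; exact congrArg Additive.ofMul hg⟩
  have hsq1 : ∀ g k : R, χ ⁅g, k⁆ = 1 ∨ χ ⁅g, k⁆ = -1 := by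
    intro g k
    refine sq_eq_one_iff.mp ?_
    rw [sq, ← h.mul_left, ← sq]
    exact h.le_rad (hsq g) k
  let b : R → R → ZMod 2 := fun g k => if χ ⁅g, k⁆ = 1 then 0 else 1
  have hne : (-1 : E) ≠ 1 := fun he => h2E (by linear_combination -he)
  have hadd : ∀ u v : E, (u = 1 ∨ u = -1) → (v = 1 ∨ v = -1) →
      (if u * v = 1 then (0 : ZMod 2) else 1) = (if u = 1 then 0 else 1) + (if v = 1 then 0 else 1) := by
    rintro u v (rfl | rfl) (rfl | rfl) <;> simp [hne] <;> rfl
  have hbl : ∀ a a' k, b (a * a') k = b a k + b a' k := fun a a' k => by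
    simp only [b, h.mul_left]; exact hadd _ _ (hsq1 _ _) (hsq1 _ _)
  have hbr : ∀ g a a', b g (a * a') = b g a + b g a' := fun g a a' => by
    simp only [b, h.mul_right]; exact hadd _ _ (hsq1 _ _) (hsq1 _ _)
  have hb0 : ∀ g k, b g k = 0 ↔ χ ⁅g, k⁆ = 1 := fun g k => by
    simp only [b]; by_cases hgk : χ ⁅g, k⁆ = 1 <;> simp [hgk]
  choose lift hlift using hsurj
  have hcl : ∀ g k, b (lift (π g)) k = b g k := by
    intro g k
    have h1 : g⁻¹ * lift (π g) ∈ h.rad := QuotientGroup.eq.mp (congrArg Additive.toMul (hlift (π g))).symm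
    rw [show lift (π g) = g * (g⁻¹ * lift (π g)) from (mul_inv_cancel_left _ _).symm, hbl,
      (hb0 _ _).mpr (h1 k), add_zero]
  have hcr : ∀ g k, b g (lift (π k)) = b g k := by
    intro g k
    have h1 : k⁻¹ * lift (π k) ∈ h.rad := QuotientGroup.eq.mp (congrArg Additive.toMul (hlift (π k))).symm
    rw [show lift (π k) = k * (k⁻¹ * lift (π k)) from (mul_inv_cancel_left _ _).symm, hbr,
      (hb0 g (k⁻¹ * lift (π k))).mpr ?_, add_zero]
    have h2 := h.swap (k⁻¹ * lift (π k)) g
    rwa [h1 g, mul_one] at h2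
  let β₀ : Additive (R ⧸ h.rad) →+ Additive (R ⧸ h.rad) →+ ZMod 2 :=
    AddMonoidHom.mk' (fun x => AddMonoidHom.mk' (fun y => b (lift x) (lift y)) (fun y y' => by
        conv_lhs => rw [← hlift y, ← hlift y', ← hπ, hcr, hbr]))
      (fun x x' => AddMonoidHom.ext fun y => by
        change b (lift (x + x')) (lift y) = b (lift x) (lift y) + b (lift x') (lift y)
        conv_lhs => rw [← hlift x, ← hlift x', ← hπ, hcl, hbl])
  let β : Additive (R ⧸ h.rad) →ₗ[ZMod 2] Additive (R ⧸ h.rad) →ₗ[ZMod 2] ZMod 2 :=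
    ((AddMonoidHom.mk' (fun x => AddMonoidHom.toZModLinearMap 2 (β₀ x))
      (fun x x' => LinearMap.ext fun y => by
        change β₀ (x + x') y = β₀ x y + β₀ x' y
        rw [map_add]; rfl)).toZModLinearMap 2)
  have hβ : ∀ g k, β (π g) (π k) = b g k := fun g k => by
    change b (lift (π g)) (lift (π k)) = b g k
    rw [hcl, hcr]
  refine ⟨_, inferInstance, inferInstance, inferInstance, π, β, fun x => ⟨lift x, hlift x⟩, hπ, hπ0,
    fun g k => by rw [hβ, hb0], fun x hx => ?_, fun φ hφ => ?_⟩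
  · rw [← hlift x, hπ0]
    intro k
    rw [← hb0, ← hβ, hlift]
    exact hx _
  · have hφr : ∀ g ∈ h.rad, φ g ∈ h.rad := fun g hg k => by
      obtain ⟨k', rfl⟩ := φ.surjective k
      rw [← map_commutatorElement, hφ _ (h.comm g k')]
      exact hg k'
    let f₀ : Additive (R ⧸ h.rad) →+ Additive (R ⧸ h.rad) :=
      MonoidHom.toAdditive (QuotientGroup.map h.rad h.rad φ.toMonoidHom hφr)
    refine ⟨f₀.toZModLinearMap 2, fun g => rfl, fun x y => ?_⟩
    obtain ⟨g, rfl⟩ : ∃ g, π g = x := ⟨lift x, hlift x⟩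
    obtain ⟨k, rfl⟩ : ∃ k, π k = y := ⟨lift y, hlift y⟩
    change β (π (φ g)) (π (φ k)) = β (π g) (π k)
    simp only [hβ, b]
    rw [← map_commutatorElement, hφ _ (h.comm g k)]

/-- A group acting on the exceptional space without fixed points does not exist. -/
theorem no_exceptional_linear {X : Type*} [AddCommGroup X] [Module (ZMod 2) X] [Finite X] {L : Type*} [Group L]
    [Finite L] {p m r : ℕ} [hp : Fact p.Prime] (hL : IsPGroup p L) (hp2 : p ≠ 2) (hpr : p ≠ r)
    (hm : r = 2 ^ m + 1) (hr : r.Prime) (hm1 : 1 ≤ m) (ρ : L →* Module.End (ZMod 2) X) (σ : L ≃* L)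
    (S : Module.End (ZMod 2) X) (hrel : ∀ l, S * ρ l = ρ (σ l) * S) (hS : S ^ r = 1)
    (β : X →ₗ[ZMod 2] X →ₗ[ZMod 2] ZMod 2) (hnd : ∀ x, (∀ y, β x y = 0) → x = 0)
    (hβS : ∀ x y, β (S x) (S y) = β x y) (hβρ : ∀ l x y, β (ρ l x) (ρ l y) = β x y)
    (hclass : ∀ g k l : L, Commute (ρ ⁅g, k⁆) (ρ l)) (NL : Subgroup L) (hNL : ∀ l, l⁻¹ * σ l ∈ NL)
    (hNσ : ∀ l ∈ NL, σ l ∈ NL)
    (hgen : Subgroup.closure (Set.range fun l : NL => (l : L)⁻¹ * σ l) = NL)
    (hfix : ∀ x, (∀ l, ρ l x = x) → x = 0)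
    (hdim : Module.finrank (ZMod 2) (LinearMap.range (S - 1)) = 2 * m) : False := by
  classical
  have hr2 : r ≠ 2 := by
    have : 2 ^ 1 ≤ 2 ^ m := Nat.pow_le_pow_right (by norm_num) hm1
    omega
  have hrF : (r : ZMod 2) ≠ 0 := by
    rw [Ne, ZMod.natCast_eq_zero_iff]
    exact fun h => hr2 ((Nat.prime_dvd_prime_iff_eq Nat.prime_two hr).mp h).symm
  have hpF : (p : ZMod 2) ≠ 0 := by
    rw [Ne, ZMod.natCast_eq_zero_iff]
    exact fun h => hp2 ((Nat.prime_dvd_prime_iff_eq Nat.prime_two hp.out).mp h).symm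
  have hS' : ∀ x, S ((S ^ (r - 1)) x) = x := fun x => by
    rw [← Module.End.mul_apply, ← pow_succ', Nat.sub_add_cancel hr.one_le, hS]; rfl
  by_cases htriv : ∀ l ∈ NL, ρ l = 1
  · set X' := LinearMap.range (S - 1) with hX'
    have hc : ∀ l, Commute (ρ l) S := fun l => by
      change ρ l * S = S * ρ l
      rw [hrel, show σ l = l * (l⁻¹ * σ l) from (mul_inv_cancel_left _ _).symm, map_mul, htriv _ (hNL l), mul_one]
    have hl' : ∀ l, ∀ x ∈ X', ρ l x ∈ X' := by
      rintro l _ ⟨y, rfl⟩
      exact ⟨ρ l y, by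
        rw [← Module.End.mul_apply, ← Module.End.mul_apply, ((hc l).sub_right (Commute.one_right _)).eq]⟩
    have hS'X : ∀ x ∈ X', S x ∈ X' := by
      rintro _ ⟨y, rfl⟩
      exact ⟨S y, by simp⟩
    let P : Module.End (ZMod 2) X := (r : ZMod 2)⁻¹ • ∑ i ∈ Finset.range r, S ^ i
    have hPX : ∀ x ∈ X', P x = 0 := by
      rintro _ ⟨y, rfl⟩
      have h1 : (∑ i ∈ Finset.range r, S ^ i) * (S - 1) = 0 := by rw [geom_sum_mul, hS, sub_self]
      rw [← Module.End.mul_apply, smul_mul_assoc, h1, smul_zero, LinearMap.zero_apply]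
    have hPfix : ∀ x, S x = x → P x = x := fun x hx => by
      have hk : ∀ i : ℕ, (S ^ i) x = x := by
        intro i
        induction i with
        | zero => simp
        | succ i ih => rw [pow_succ', Module.End.mul_apply, ih, hx]
      simp only [P, LinearMap.smul_apply, LinearMap.sum_apply, hk, Finset.sum_const, Finset.card_range,
        ← Nat.cast_smul_eq_nsmul (ZMod 2), smul_smul, inv_mul_cancel₀ hrF, one_smul]
    have hdec : ∀ x, x - P x ∈ X' := fun x => by
      have h1 : x - P x = (r : ZMod 2)⁻¹ • ∑ i ∈ Finset.range r, (x - (S ^ i) x) := by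
        simp only [P, LinearMap.smul_apply, LinearMap.sum_apply, Finset.sum_sub_distrib, Finset.sum_const,
          Finset.card_range, ← Nat.cast_smul_eq_nsmul (ZMod 2), smul_sub, smul_smul, inv_mul_cancel₀ hrF, one_smul]
      rw [h1]
      refine X'.smul_mem _ (X'.sum_mem fun i hi => ?_)
      clear hi
      induction i with
      | zero => simp
      | succ i ih =>
        have h2 : x - (S ^ (i + 1)) x = (x - (S ^ i) x) - (S - 1) ((S ^ i) x) := by
          rw [pow_succ', Module.End.mul_apply, LinearMap.sub_apply, Module.End.one_apply]; abel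
        rw [h2]
        exact X'.sub_mem ih ⟨_, rfl⟩
    have hPS : ∀ x, S (P x) = P x := fun x => by
      have h1 : S * (∑ i ∈ Finset.range r, S ^ i) = ∑ i ∈ Finset.range r, S ^ i := by
        rw [Finset.mul_sum]
        simp only [← pow_succ']
        have h2 := Finset.sum_range_succ' (fun i => S ^ i) r
        rw [Finset.sum_range_succ, hS, pow_zero] at h2
        exact (add_right_cancel h2).symm
      rw [← Module.End.mul_apply, mul_smul_comm, h1]
    let β' : X' →ₗ[ZMod 2] X' →ₗ[ZMod 2] ZMod 2 :=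
      LinearMap.mk₂ (ZMod 2) (fun x y : X' => β (x : X) (y : X)) (fun a b c => by simp) (fun a b c => by simp)
        (fun a b c => by simp) (fun a b c => by simp)
    have horth : ∀ x ∈ X', ∀ w, S w = w → β x w = 0 := by
      rintro _ ⟨y, rfl⟩ w hw
      have h1 := hβS y w
      rw [hw] at h1
      rw [LinearMap.sub_apply, Module.End.one_apply, map_sub, LinearMap.sub_apply, h1, sub_self]
    have horth' : ∀ x ∈ X', ∀ w, S w = w → β w x = 0 := by
      rintro _ ⟨y, rfl⟩ w hw
      have h1 := hβS w y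
      rw [hw] at h1
      rw [LinearMap.sub_apply, Module.End.one_apply, map_sub, h1, sub_self]
    have hnd' : ∀ y : X', (∀ x : X', β' x y = 0) → y = 0 := by
      intro y hy
      have hflip : ∀ z, β z (y : X) = 0 := fun z => by
        have h1 := hy ⟨z - P z, hdec z⟩
        change β (z - P z) (y : X) = 0 at h1
        rwa [map_sub, LinearMap.sub_apply, horth' _ y.2 _ (hPS z), sub_zero] at h1
      have hinj : Function.Injective β := (injective_iff_map_eq_zero β).mpr fun x hx => hnd x fun z => by rw [hx]; rfl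
      have hsurj := (LinearMap.injective_iff_surjective_of_finrank_eq_finrank
        (Subspace.dual_finrank_eq (K := ZMod 2) (V := X)).symm).mp hinj
      refine Subtype.ext ((Module.forall_dual_apply_eq_zero_iff (ZMod 2) (y : X)).mp fun φ => ?_)
      obtain ⟨z, rfl⟩ := hsurj φ
      exact hflip z
    have hone : ∀ l, ∀ x ∈ X', ρ l x = x := by
      intro l x hx
      obtain ⟨e, he⟩ := hL l
      have h1 := exclude_easy (X := X') hm hr hdim (S.restrict hS'X) (by
          rw [Module.End.pow_restrict r]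
          refine LinearMap.ext fun v => Subtype.ext ?_
          rw [LinearMap.coe_restrict_apply, hS]
          rfl)
        (fun v hv => Subtype.ext (by
          have h2 := hPfix v (congrArg Subtype.val hv)
          rw [hPX v v.2] at h2
          exact h2.symm))
        β' hnd' (fun a b => hβS (a : X) b) ((ρ l).restrict (hl' l))
        (fun a b => hβρ l (a : X) b)
        (LinearMap.ext fun v => Subtype.ext (LinearMap.congr_fun (hc l).eq (v : X))) hp.out hpr (e := e) (by
          rw [Module.End.pow_restrict (p ^ e)]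
          refine LinearMap.ext fun v => Subtype.ext ?_
          rw [LinearMap.coe_restrict_apply, ← map_pow, he, map_one]
          rfl)
      exact congrArg Subtype.val (LinearMap.congr_fun h1 ⟨x, hx⟩)
    have hbot : X' = ⊥ := (Submodule.eq_bot_iff _).mpr fun x hx => hfix x fun l => hone l x hx
    rw [hbot, finrank_bot] at hdim
    omega
  · push Not at htriv
    obtain ⟨l₀, hl₀, hne⟩ := htriv
    letI : Fintype NL := Fintype.ofFinite NL
    have hcard : (Fintype.card NL : ZMod 2) ≠ 0 := by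
      obtain ⟨k, hk⟩ := IsPGroup.iff_card.mp (hL.to_subgroup NL)
      rw [← Nat.card_eq_fintype_card, hk, Nat.cast_pow]
      exact pow_ne_zero _ hpF
    let P : Module.End (ZMod 2) X := (Fintype.card NL : ZMod 2)⁻¹ • ∑ n : NL, ρ n
    have hPl : ∀ n : NL, ∀ x, P (ρ n x) = P x := fun n x => by
      simp only [P, LinearMap.smul_apply, LinearMap.sum_apply, ← Module.End.mul_apply, ← map_mul]
      congr 1
      exact Fintype.sum_equiv (Equiv.mulRight n) _ _ fun k => rfl
    have hlP : ∀ n : NL, ∀ x, ρ n (P x) = P x := fun n x => by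
      simp only [P, LinearMap.smul_apply, LinearMap.sum_apply, map_smul, map_sum, ← Module.End.mul_apply, ← map_mul]
      congr 1
      exact Fintype.sum_equiv (Equiv.mulLeft n) _ _ fun k => rfl
    have hPfix : ∀ x, (∀ n : NL, ρ n x = x) → P x = x := fun x hx => by
      simp only [P, LinearMap.smul_apply, LinearMap.sum_apply, hx, Finset.sum_const, Finset.card_univ,
        ← Nat.cast_smul_eq_nsmul (ZMod 2), smul_smul, inv_mul_cancel₀ hcard, one_smul]
    let W : Submodule (ZMod 2) X := LinearMap.ker P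
    have hWρ : ∀ n : NL, ∀ w ∈ W, ρ n w ∈ W := fun n w hw => by
      rw [LinearMap.mem_ker, hPl]; exact hw
    have hPS : ∀ x, P (S x) = S (P x) := fun x => by
      simp only [P, LinearMap.smul_apply, LinearMap.sum_apply, map_smul, map_sum]
      congr 1
      let e : NL ≃ NL := Equiv.ofBijective (fun n => ⟨σ n, hNσ n n.2⟩)
        (Finite.injective_iff_bijective.mp fun a b hab => Subtype.ext (σ.injective (congrArg Subtype.val hab)))
      refine (Fintype.sum_equiv e _ _ fun n => ?_).symm
      exact LinearMap.congr_fun (hrel n) x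
    have hWS : ∀ w ∈ W, S w ∈ W := fun w hw => by
      rw [LinearMap.mem_ker, hPS, LinearMap.mem_ker.mp hw, map_zero]
    let ρW : NL →* Module.End (ZMod 2) W :=
      { toFun := fun n => (ρ n).restrict (hWρ n)
        map_one' := LinearMap.ext fun v => Subtype.ext (by simp)
        map_mul' := fun a b => LinearMap.ext fun v => Subtype.ext (by simp) }
    let SW : Module.End (ZMod 2) W := S.restrict hWS
    let σN₀ : NL →* NL :=
      { toFun := fun n => ⟨σ n, hNσ n n.2⟩
        map_one' := Subtype.ext (map_one σ)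
        map_mul' := fun a b => Subtype.ext (map_mul σ (a : L) b) }
    have hσN : Function.Injective σN₀ := fun (a b : NL) hab =>
      Subtype.ext (σ.injective (congrArg Subtype.val hab))
    let σN : NL ≃* NL := MulEquiv.ofBijective σN₀ (Finite.injective_iff_bijective.mp hσN)
    let E := AlgebraicClosure (ZMod 2)
    have hact : Act (bcRep E ρW) σN (bcH E SW) r := by
      refine ⟨fun n => ?_, hr, ?_, ?_⟩
      · rw [bcRep_apply, bcRep_apply, ← map_mul, ← map_mul]
        congr 1
        exact LinearMap.ext fun v => Subtype.ext (LinearMap.congr_fun (hrel n) (v : X))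
      · rw [← map_pow, show SW ^ r = 1 from by
          rw [Module.End.pow_restrict r]
          refine LinearMap.ext fun v => Subtype.ext ?_
          rw [LinearMap.coe_restrict_apply, hS]
          rfl, map_one]
      · apply Subgroup.map_injective NL.subtype_injective
        rw [MonoidHom.map_closure, ← MonoidHom.range_eq_map, Subgroup.range_subtype, ← Set.range_comp]
        exact hgen
    have hWnt : Nontrivial W := by
      rw [Submodule.nontrivial_iff_ne_bot]
      intro hbot
      refine hne (LinearMap.ext fun x => ?_)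
      have h1 : x - P x ∈ W := by
        rw [LinearMap.mem_ker, map_sub, hPfix (P x) fun n => hlP n x, sub_self]
      rw [hbot, Submodule.mem_bot, sub_eq_zero] at h1
      rw [h1]
      exact hlP ⟨l₀, hl₀⟩ x
    have hndW : ∀ x : W, (∀ y : W, β (x : X) (y : X) = 0) → x = 0 := by
      intro x hx
      refine Subtype.ext (hnd x fun y => ?_)
      have hPadj : ∀ a b, β (P a) b = β a (P b) := by
        intro a b
        simp only [P, LinearMap.smul_apply, LinearMap.sum_apply, map_smul, map_sum]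
        congr 1
        refine Fintype.sum_equiv (Equiv.inv NL) _ _ fun n => ?_
        rw [← hβρ ((Equiv.inv NL n : NL) : L) (ρ n a) b]
        simp [← Module.End.mul_apply, ← map_mul]
      have h1 := hx ⟨y - P y, by rw [LinearMap.mem_ker, map_sub, hPfix (P y) fun n => hlP n y, sub_self]⟩
      change β (x : X) (y - P y) = 0 at h1
      rw [map_sub, ← hPadj, LinearMap.mem_ker.mp x.2, map_zero, LinearMap.zero_apply, sub_zero] at h1
      exact h1
    haveI : Nontrivial (E ⊗[ZMod 2] W) := nontrivial_tmul (F := ZMod 2) E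
    obtain ⟨β', hnd', hβ'⟩ := exists_form E (LinearMap.mk₂ (ZMod 2) (fun x y : W => β (x : X) (y : X))
      (fun a b c => by simp) (fun a b c => by simp) (fun a b c => by simp) (fun a b c => by simp)) hndW
    have hrE : (r : E) ≠ 0 := by
      rw [← map_natCast (algebraMap (ZMod 2) E)]
      exact (map_ne_zero _).mpr hrF
    have hpE : (p : E) ≠ 0 := by
      rw [← map_natCast (algebraMap (ZMod 2) E)]
      exact (map_ne_zero _).mpr hpF
    have h2 := moved_rank hr hrE hact.pow fun ω hω => two_le_finrank_eigenspace (hL.to_subgroup NL) hpE hp2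
      hrE hr2 hact
      (fun g k l => by
        rw [bcRep_apply, bcRep_apply]
        refine Commute.map ?_ (bcH E)
        exact LinearMap.ext fun v => Subtype.ext (LinearMap.congr_fun (hclass (g : L) k l).eq (v : X)))
      (no_fixed E ρW (by rw [Nat.card_eq_fintype_card]; exact hcard) fun w hw => Subtype.ext (by
        have h3 := hPfix w fun n => congrArg Subtype.val (hw n)
        rw [LinearMap.mem_ker.mp w.2] at h3
        exact h3.symm))
      β' hnd' (fun n => hβ' _ fun a b => hβρ (n : L) (a : X) b) hω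
    have h4 := finrank_range_le E (SW - 1)
    rw [map_sub, map_one] at h4
    have h5 : Module.finrank (ZMod 2) (LinearMap.range (SW - 1)) ≤ 2 * m := by
      rw [← hdim, ← Submodule.finrank_map_subtype_eq W]
      refine Submodule.finrank_mono ?_
      rintro _ ⟨_, ⟨v, rfl⟩, rfl⟩
      exact ⟨(v : X), rfl⟩
    have h6 : m < 2 ^ m := Nat.lt_two_pow_self
    omega

end Cfsg.Agent.Turull
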