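import Cfsg.Agent.Turull.Step
import Cfsg.Agent.Turull.NoEven
import Cfsg.Agent.Turull.Rad

/-!
Two groups of coprime prime power orders commuting with the automorphism and fixing its fixed points
cannot act faithfully on the first moved layer.
-/

set_option autoImplicit false
set_option maxHeartbeats 2000000

namespace Cfsg.Agent.Turull

open Module
open scoped commutatorElement TensorProduct

universe uR

open Classical in
/-- A vanishing sum of eigenvectors vanishes weight by weight. -/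
theorem weight_sums {E : Type*} [Field E] {W : Type*} [AddCommGroup W] [Module E W] {ι L : Type*} [Fintype ι]
    (G : L → Module.End E W) (u : ι → W) (ev : ι → L → E) (hu : ∀ i l, G l (u i) = ev i l • u i)
    (hsum : ∑ i, u i = 0) (w : L → E) :
    ∑ i ∈ Finset.univ.filter (fun i => ev i = w), u i = 0 := by
  classical
  let U : (L → E) → W := fun v => ∑ i ∈ Finset.univ.filter (fun i => ev i = v), u i
  have heig : ∀ v l, G l (U v) = v l • U v := by
    intro v l
    simp only [U, map_sum, Finset.smul_sum]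
    refine Finset.sum_congr rfl fun i hi => ?_
    rw [hu, (Finset.mem_filter.mp hi).2]
  set V := (Finset.univ.image ev).filter fun v => U v ≠ 0 with hV
  have htot : ∑ v ∈ V, U v = 0 := by
    rw [hV, Finset.sum_filter_ne_zero,
      Finset.sum_fiberwise_of_maps_to (fun i _ => Finset.mem_image_of_mem ev (Finset.mem_univ i))]
    exact hsum
  have hind : LinearIndependent E fun v : V => U v :=
    indep_of_chars G (fun v : V => U v) (fun v => (v : L → E)) (fun v => (Finset.mem_filter.mp v.2).2)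
      (fun v l => heig v l) Subtype.val_injective
  have hempty : V = ∅ := by
    by_contra hne
    obtain ⟨v, hv⟩ := Finset.nonempty_of_ne_empty hne
    have h1 := Fintype.linearIndependent_iff.mp hind (fun _ => (1 : E)) (by
      simp only [one_smul]
      rw [Finset.sum_coe_sort V U]
      exact htot) ⟨v, hv⟩
    exact one_ne_zero h1
  have h0 : U w = 0 := by
    by_contra hw
    obtain ⟨i, hi⟩ : ∃ i, ev i = w := by
      by_contra hno
      push Not at hno
      exact hw (Finset.sum_eq_zero fun i hi => absurd (Finset.mem_filter.mp hi).2 (hno i))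
    have : w ∈ V := Finset.mem_filter.mpr ⟨hi ▸ Finset.mem_image_of_mem ev (Finset.mem_univ i), hw⟩
    rw [hempty] at this
    exact absurd this (Finset.notMem_empty _)
  convert h0

/-- The periods of a function form a group. -/
theorem per_one {α β : Type*} {f : α → α} {ψ : α → β} {r d : ℕ} (hr : r.Prime) (hd : ¬ r ∣ d)
    (h1 : ∀ x, ψ (f^[r] x) = ψ x) (h2 : ∀ x, ψ (f^[d] x) = ψ x) (x : α) : ψ (f x) = ψ x := by
  have hmul : ∀ {e : ℕ}, (∀ x, ψ (f^[e] x) = ψ x) → ∀ n x, ψ (f^[e * n] x) = ψ x := by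
    intro e he n
    induction n with
    | zero => intro x; rfl
    | succ n ih => intro x; rw [Nat.mul_succ, Function.iterate_add_apply, ih, he]
  obtain ⟨k, -, hk⟩ := Nat.exists_mul_mod_eq_one_of_coprime (hr.coprime_iff_not_dvd.mpr hd).symm hr.one_lt
  have h3 := hmul h2 k x
  rw [← Nat.mod_add_div (d * k) r, hk, Nat.add_comm, Function.iterate_add_apply, Function.iterate_one,
    hmul h1] at h3
  exact h3

variable {R : Type uR} [Group R] [Finite R]

/-- A fixed vector in all moved members freezes a quotient. -/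
theorem freeze {F : Type*} [Field F] {M : Type*} [AddCommGroup M] [Module F M] {ρ : R →* Module.End F M}
    {σ : R ≃* R} {S : Module.End F M} {r : ℕ} (hr : r.Prime) (hact : Act ρ σ S r)
    (hnil : Group.IsNilpotent R) (hf0 : ∀ K : Submodule F M, (∀ g v, ρ g v - v ∈ K) → K = ⊤)
    {𝒦 : Set (Submodule F M)} (hcl : ∀ K ∈ 𝒦, ∀ g, K.comap (ρ g) ∈ 𝒦)
    (hinter : ∀ v, (∀ K ∈ 𝒦, v ∈ K) → v = 0) {f : M} (hf : S f = f)
    (hfB : ∀ K ∈ 𝒦, ¬ LinearMap.range (S - 1) ≤ K → f ∈ K) (hfne : f ≠ 0) :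
    ∃ M' : Subgroup R, M' ≠ ⊤ ∧ (∀ g, ρ g = 1 → g ∈ M') ∧
      ∀ (x : Module.End F M) (φ : MulAut R) (n : ℕ), (∀ g, x * ρ g = ρ (φ g) * x) →
        (∀ g, φ (σ g) = σ (φ g)) → (∀ v, S v = v → S (x v) = x v) →
        (∀ v, S v = v → ∀ K ∈ 𝒦, ¬ LinearMap.range (S - 1) ≤ K → x v - v ∈ K) →
        φ ^ n = 1 → n.Coprime r → ∀ g, g⁻¹ * φ g ∈ M' := by
  classical
  obtain ⟨K, hK, hfK⟩ : ∃ K ∈ 𝒦, f ∉ K := by
    by_contra hno
    push Not at hno
    exact hfne (hinter f hno)
  have hKS : LinearMap.range (S - 1) ≤ K := by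
    by_contra h
    exact hfK (hfB K hK h)
  have hS' : ∀ v, ∃ v', S v' = v := fun v => ⟨(S ^ (r - 1)) v, by
    rw [← Module.End.mul_apply, hact.cancel, Module.End.one_apply]⟩
  have hne : stab ρ K ≠ ⊤ := by
    intro htop
    have hst : ∀ g, K.comap (ρ g) = K := fun g => (htop.symm ▸ Subgroup.mem_top g : g ∈ stab ρ K)
    let H : Subgroup R :=
      { carrier := {g | ∀ v, ρ g v - v ∈ K}
        one_mem' := fun v => by simp
        mul_mem' := fun {a b} ha hb v => by
          have := K.add_mem (ha (ρ b v)) (hb v)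
          rw [sub_add_sub_cancel] at this
          rwa [map_mul, Module.End.mul_apply]
        inv_mem' := fun {a} ha v => by
          have h1 := K.neg_mem (ha (ρ a⁻¹ v))
          rw [← Module.End.mul_apply, rho_cancel, Module.End.one_apply, neg_sub] at h1
          exact h1 }
    have hle : Subgroup.closure (Set.range fun g : R => g⁻¹ * σ g) ≤ H := by
      rw [Subgroup.closure_le]
      rintro _ ⟨k, rfl⟩ v
      obtain ⟨v', rfl⟩ := hS' v
      have e1 : ρ (σ k) (S v') = S (ρ k v') := (LinearMap.congr_fun (hact.rel k) v').symm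
      have e2 : S (ρ k v') - ρ k v' ∈ K := hKS ⟨ρ k v', by simp⟩
      have e3 : v' - S v' ∈ K := by
        have := K.neg_mem (hKS ⟨v', rfl⟩ : (S - 1) v' ∈ K)
        simpa using this
      have e4 : ρ k⁻¹ (S (ρ k v') - ρ k v') ∈ K := by
        have := hst k⁻¹
        rw [← this] at e2
        exact e2
      change ρ (k⁻¹ * σ k) (S v') - S v' ∈ K
      have e5 := K.add_mem e4 e3
      rw [map_sub, ← Module.End.mul_apply (ρ k⁻¹) (ρ k), rho_cancel', Module.End.one_apply,
        sub_add_sub_cancel] at e5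
      rwa [map_mul, Module.End.mul_apply, e1]
    have hKtop : K = ⊤ := hf0 K fun g v => hle (hact.gen.symm ▸ Subgroup.mem_top g) v
    exact hfK (hKtop ▸ Submodule.mem_top)
  have hσst : ∀ g ∈ stab ρ K, σ g ∈ stab ρ K := fun g hg => by
    have h1 : K.comap (ρ g) = K := hg
    change K.comap (ρ (σ g)) = K
    rw [comap_sigma hact.rel hr hact.pow hKS (h1.symm ▸ hKS), h1]
  obtain ⟨M', hle, hM', hMn, hσM, hcomm, hfpf⟩ := exists_quot hnil hact.gen hσst hne
  have hker : ∀ g, ρ g = 1 → g ∈ M' := fun g hg => hle (by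
    change K.comap (ρ g) = K
    rw [hg]; rfl)
  refine ⟨M', hM', hker, ?_⟩
  intro x φ n hx hφσ hxfix hB hφn hcop
  have hmoved : ∀ g, g ∉ M' → ¬ LinearMap.range (S - 1) ≤ K.comap (ρ g) := fun g hg hle' => by
    have h1 := hle (mem_stab_of_eq K (comap_sigma hact.rel hr hact.pow hKS hle'))
    have h2 := hMn.conj_mem _ h1 g⁻¹
    refine hg (hfpf g ?_)
    convert h2 using 1
    group
  let q : R →* R ⧸ M' := QuotientGroup.mk' M'
  have hq : ∀ a b : R, a⁻¹ * b ∈ M' ↔ q a = q b := fun a b => QuotientGroup.eq.symm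
  let s : R ⧸ M' →* R ⧸ M' := QuotientGroup.map M' M' σ.toMonoidHom fun g hg => hσM g hg
  have hs : ∀ k g, q (σ^[k] g) = s^[k] (q g) := by
    intro k
    induction k with
    | zero => intro g; rfl
    | succ k ih => intro g; rw [Function.iterate_succ_apply', Function.iterate_succ_apply', ← ih]; rfl
  have hper : ∀ g, s^[r] (q g) = q g := fun g => by
    rw [← hs]
    refine ((hq _ _).mp (hker _ ?_)).symm
    rw [map_mul, rho_iterate_r hact.rel hact.pow, rho_cancel']
  have hfree : ∀ g, g ∉ M' → ∀ d, s^[d] (q g) = q g → r ∣ d := by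
    intro g hg d hd
    by_contra hrd
    refine hg (hfpf g ((hq _ _).mpr ?_))
    have h1 : Function.IsPeriodicPt s d (q g) := hd
    have h2 : Function.IsPeriodicPt s r (q g) := hper g
    have h3 := h1.gcd h2
    rw [(hr.coprime_iff_not_dvd.mpr hrd).symm] at h3
    exact h3.symm
  have hxf : S (x f) = x f := hxfix f hf
  have hxfB : ∀ K ∈ 𝒦, ¬ LinearMap.range (S - 1) ≤ K → x f ∈ K := fun K' hK' hm => by
    have := K'.add_mem (hB f hf K' hK' hm) (hfB K' hK' hm)
    rwa [sub_add_cancel] at this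
  have hone : ∀ g, g ∉ M' → ∃ i, q (φ g) = s^[i] (q g) := by
    intro g hg
    have hK' : K.comap (ρ g⁻¹) ∈ 𝒦 := hcl K hK _
    have hKm := hmoved g⁻¹ (fun h => hg (inv_mem_iff.mp h))
    set y := ∑ i ∈ Finset.range r, ρ (σ^[i] g) f with hy
    have hSy : S y = y := by
      have e1 : ∀ i, S (ρ (σ^[i] g) f) = ρ (σ^[i + 1] g) f := fun i => by
        rw [← Module.End.mul_apply, hact.rel, Module.End.mul_apply, hf, Function.iterate_succ_apply']
      rw [hy, map_sum, Finset.sum_congr rfl fun i _ => e1 i]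
      have e2 := Finset.sum_range_succ' (fun i => ρ (σ^[i] g) f) r
      rw [Finset.sum_range_succ, rho_iterate_r hact.rel hact.pow] at e2
      exact (add_right_cancel e2).symm
    have h1 := hB y hSy _ hK' hKm
    rw [Submodule.mem_comap, map_sub] at h1
    have h2 : ρ g⁻¹ y ∉ K := by
      intro h2
      refine hfK ?_
      rw [hy, map_sum, ← Finset.add_sum_erase _ _ (Finset.mem_range.mpr hr.pos)] at h2
      have h3 : ∑ i ∈ (Finset.range r).erase 0, ρ g⁻¹ (ρ (σ^[i] g) f) ∈ K := by
        refine K.sum_mem fun i hi => ?_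
        obtain ⟨hi0, hir⟩ := Finset.mem_erase.mp hi
        rw [← Module.End.mul_apply, ← map_mul]
        refine hfB _ (hcl K hK _) (hmoved _ fun hmem => ?_)
        have := hfree g hg i ((hs i g).symm.trans ((hq _ _).mp hmem).symm)
        exact absurd (Nat.le_of_dvd (Nat.pos_of_ne_zero hi0) this) (Finset.mem_range.mp hir).not_ge
      have h4 := K.sub_mem h2 h3
      rwa [add_sub_cancel_right, Function.iterate_zero_apply, ← Module.End.mul_apply, rho_cancel',
        Module.End.one_apply] at h4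
    by_contra hno
    push Not at hno
    refine h2 ?_
    have h3 : ρ g⁻¹ (x y) ∈ K := by
      rw [hy, map_sum, map_sum]
      refine K.sum_mem fun i _ => ?_
      rw [← Module.End.mul_apply x, hx, Module.End.mul_apply, ← Module.End.mul_apply (ρ g⁻¹), ← map_mul]
      refine hxfB _ (hcl K hK _) (hmoved _ fun hmem => ?_)
      -- the class of the image would be a translate
      have e1 : q g = q (φ (σ^[i] g)) := (hq _ _).mp hmem
      have hcs : ∀ j a, φ (σ^[j] a) = σ^[j] (φ a) := by
        intro j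
        induction j with
        | zero => intro a; rfl
        | succ j ih => intro a; rw [Function.iterate_succ_apply', hφσ, ih, Function.iterate_succ_apply']
      rw [hcs, hs] at e1
      refine hno (r - i % r) ?_
      have hperm : ∀ m a, s^[r * m] (q a) = q a := by
        intro m a
        induction m with
        | zero => rfl
        | succ m ih => rw [Nat.mul_succ, Function.iterate_add_apply, hper, ih]
      rw [e1, ← Function.iterate_add_apply]
      have hir : r - i % r + i = r * (i / r + 1) := by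
        have := Nat.mod_add_div i r
        have := Nat.mod_lt i hr.pos
        rw [Nat.mul_succ]
        omega
      rw [hir, hperm]
    have := K.sub_mem h3 h1
    rwa [sub_sub_cancel] at this
  have hσiff : ∀ j g, q g ≠ 1 → s^[j] (q g) ≠ 1 := by
    intro j g hg h1
    refine hg ?_
    have e : s^[r * j] (q g) = q g := by
      clear h1
      induction j with
      | zero => rfl
      | succ j ih => rw [Nat.mul_succ, Function.iterate_add_apply, hper, ih]
    rw [← e, show r * j = (r * j - j) + j by have := Nat.le_mul_of_pos_left j hr.pos; omega,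
      Function.iterate_add_apply, h1]
    exact iterate_map_one s _
  have hinvM : ∀ g ∈ M', φ g ∈ M' := by
    have hsub : ∀ g, g ∉ M' → φ g ∉ M' := by
      intro g hg h1
      obtain ⟨i, hi⟩ := hone g hg
      refine hσiff i g (fun h => hg ((QuotientGroup.eq_one_iff g).mp h)) ?_
      rw [← hi]
      exact (QuotientGroup.eq_one_iff _).mpr h1
    intro g hg
    by_contra h1
    have hn0 : ∀ j, (φ ^ (j + 1)) g ∉ M' := by
      intro j
      induction j with
      | zero => rwa [pow_one]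
      | succ j ih => rw [pow_succ' φ (j + 1), MulAut.mul_apply]; exact hsub _ ih
    rcases Nat.eq_zero_or_pos n with hn | hn
    · subst hn
      exact hr.ne_one (Nat.coprime_zero_left r |>.mp hcop)
    · have := hn0 (n - 1)
      rw [Nat.sub_add_cancel hn, hφn] at this
      exact this hg
  intro g
  by_cases hg : g ∈ M'
  · exact M'.mul_mem (M'.inv_mem hg) (hinvM g hg)
  obtain ⟨i, hi⟩ := hone g hg
  have hpow : ∀ k, q ((φ ^ k) g) = s^[i * k] (q g) := by
    intro k
    induction k with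
    | zero => rfl
    | succ k ih =>
      rw [pow_succ', MulAut.mul_apply]
      have e1 : (σ^[i * k] g)⁻¹ * (φ ^ k) g ∈ M' := (hq _ _).mpr (by rw [hs, ih])
      have e2 := hinvM _ e1
      have hcs : ∀ j a, φ (σ^[j] a) = σ^[j] (φ a) := by
        intro j
        induction j with
        | zero => intro a; rfl
        | succ j ih => intro a; rw [Function.iterate_succ_apply', hφσ, ih, Function.iterate_succ_apply']
      rw [map_mul, map_inv, hcs] at e2
      rw [← (hq _ _).mp e2, hs, hi, ← Function.iterate_add_apply, Nat.mul_succ]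
  have h1 := hfree g hg (i * n) (by rw [← hpow, hφn]; rfl)
  rcases (Nat.Prime.dvd_mul hr).mp h1 with h2 | h2
  · refine (hq _ _).mpr ?_
    obtain ⟨c, rfl⟩ := h2
    rw [hi]
    symm
    clear hpow h1 hi
    induction c with
    | zero => rfl
    | succ c ih => rw [Nat.mul_succ, Function.iterate_add_apply, hper, ih]
  · exact absurd h2 ((hr.coprime_iff_not_dvd).mp hcop.symm)

/-- A group of operators on the layers. -/
structure Oper {F : Type*} [Field F] {M : Type*} [AddCommGroup M] [Module F M] (ρ : R →* Module.End F M)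
    (σ : R ≃* R) (S : Module.End F M) (Y : Subgroup R) (r p : ℕ)
    {L : Type*} [Group L] (χL : L →* Module.End F M) (φL : L →* MulAut R) : Prop where
  isP : IsPGroup p L
  prime : p.Prime
  ne : p ≠ r
  rel : ∀ l g, χL l * ρ g = ρ (φL l g) * χL l
  sig : ∀ l g, φL l (σ g) = σ (φL l g)
  comm : ∀ l, Commute (χL l) S
  hY : ∀ l, ∀ y ∈ Y, φL l y ∈ Y

/-- A group of operators pushing the fixed points into the moved members of the family. -/
structure Mover {F : Type*} [Field F] {M : Type*} [AddCommGroup M] [Module F M] (ρ : R →* Module.End F M)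
    (σ : R ≃* R) (S : Module.End F M) (Y : Subgroup R) (𝒦 : Set (Submodule F M)) (r p : ℕ)
    {L : Type*} [Group L] (χL : L →* Module.End F M) (φL : L →* MulAut R) : Prop
    extends Oper ρ σ S Y r p χL φL where
  push : ∀ l v, S v = v → ∀ K ∈ 𝒦, ¬ LinearMap.range (S - 1) ≤ K → χL l v - v ∈ K

/-- The junction. -/
theorem junction {F : Type*} [Field F] {M : Type*} [AddCommGroup M] [Module F M] [FiniteDimensional F M]
    [Nontrivial M] {t r : ℕ} [ht' : Fact t.Prime] (hR : IsPGroup t R) (ht : (t : F) ≠ 0) (hr : r.Prime)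
    (hrF : (r : F) ≠ 0) (hrt : t ≠ r) (ρ : R →* Module.End F M) (σ : R ≃* R) (S : Module.End F M)
    (hact : Act ρ σ S r) (hf : ∀ v, (∀ g, ρ g v = v) → v = 0)
    (Y : Subgroup R) (hYσ : ∀ y ∈ Y, σ y ∈ Y) (hAgen : movedSub σ (movedSub σ Y) = movedSub σ Y)
    (hRR : ∀ g k : R, ⁅g, k⁆ ∈ Y) (hYc : ∀ y ∈ Y, ∀ g, Commute (ρ y) (ρ g))
    (hpow : ∀ g : R, g ^ t ∈ Y) (hYfpf : ∀ g, g⁻¹ * σ g ∈ Y → g ∈ Y)
    (𝒦 : Set (Submodule F M)) (hcl : ∀ K ∈ 𝒦, ∀ g, K.comap (ρ g) ∈ 𝒦)
    (hinter : ∀ v, (∀ K ∈ 𝒦, v ∈ K) → v = 0)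
    {L Q : Type*} [Group L] [Finite L] [Group Q] [Finite Q] {pL pQ : ℕ}
    (χL : L →* Module.End F M) (φL : L →* MulAut R) (hL : Mover ρ σ S Y 𝒦 r pL χL φL)
    (χQ : Q →* Module.End F M) (φQ : Q →* MulAut R) (hQ : Oper ρ σ S Y r pQ χQ φQ)
    (hLQ : pL ≠ pQ) (hLt : pL ≠ t) (hr2 : r = 2 → pL ≠ 2)
    (hYL : ∀ l, ∀ y ∈ Y, ρ (φL l y) = ρ y)
    (hgenR : Subgroup.closure ({z | ∃ l g, z = g⁻¹ * φL l g} ∪ {g | ρ g = 1}) = ⊤)
    (hgenL : Subgroup.closure ({z | ∃ l y, χL z = χQ y * χL l * χQ y⁻¹ * χL l⁻¹} ∪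
      {l | ∀ g, ρ (φL l g) = ρ g}) = ⊤)
    (hQalt : pL = 2 → (∀ y v, S v = v → ∀ K ∈ 𝒦, ¬ LinearMap.range (S - 1) ≤ K → χQ y v - v ∈ K) ∨
      ((2 : F) ≠ 0 ∧ t ≠ 2 ∧ (∀ z ∈ Y, ∃ c ∈ Y, σ c = c ∧ c⁻¹ * z ∈ movedSub σ Y) ∧
        (∀ y, ∀ z ∈ Y, σ z = z → ∀ v, S v = v → ∀ K ∈ 𝒦, ¬ LinearMap.range (S - 1) ≤ K →
          ρ (φQ y z * z⁻¹) v - v ∈ K) ∧
        ∀ y, ∃ ψ : L →* L, (∀ l, χL (ψ l) = χQ y * χL l * χQ y⁻¹) ∧ ∀ l, ψ^[Nat.card Q] l = l)) :
    False := by
  classical
  haveI := Fact.mk hL.prime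
  haveI := Fact.mk hQ.prime
  have hnil : Group.IsNilpotent R := hR.isNilpotent
  have hcR := card_ne (F := F) hR ht (⊤ : Subgroup R)
  have hf0 : ∀ K : Submodule F M, (∀ g v, ρ g v - v ∈ K) → K = ⊤ := fun K hK => top_le_iff.mp
    (le_of_moved (ρ := ρ) (B := ⊤) hcR (W := ⊤) (fun w _ => hf _ fun g => rho_avg (⟨g, trivial⟩ : (⊤ : Subgroup R)) w)
      K fun g w _ => hK g w)
  have hφpow : ∀ {H : Type _} [Group H] [Finite H] {p : ℕ} (φ : H →* MulAut R), IsPGroup p H → p.Prime →
      p ≠ r → ∀ h, φ h ^ Nat.card H = 1 ∧ (Nat.card H).Coprime r := by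
    intro H _ _ p φ hH hp hpr h
    haveI := Fact.mk hp
    refine ⟨by rw [← map_pow, pow_card_eq_one', map_one], ?_⟩
    obtain ⟨e, he⟩ := IsPGroup.iff_card.mp hH
    rw [he]
    exact Nat.Coprime.pow_left _ ((Nat.coprime_primes hp hr).mpr hpr)
  -- no fixed vector lies in all moved members
  have hB0 : ∀ f, S f = f → (∀ K ∈ 𝒦, ¬ LinearMap.range (S - 1) ≤ K → f ∈ K) → f = 0 := by
    intro f hf' hfB
    by_contra hne
    obtain ⟨M', hM', hker, hfreeze⟩ := freeze hr hact hnil hf0 hcl hinter hf' hfB hne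
    refine hM' (top_le_iff.mp (hgenR ▸ (Subgroup.closure_le _).mpr (Set.union_subset ?_ hker)))
    rintro _ ⟨l, g, rfl⟩
    refine hfreeze (χL l) (φL l) (Nat.card L) (hL.rel l) (hL.sig l) (fun v hv => ?_) (hL.push l)
      (hφpow φL hL.isP hL.prime hL.ne l).1 (hφpow φL hL.isP hL.prime hL.ne l).2 g
    rw [← Module.End.mul_apply, ← (hL.comm l).eq, Module.End.mul_apply, hv]
  have hfixL : ∀ l v, S v = v → χL l v = v := fun l v hv => sub_eq_zero.mp (hB0 _ (by
    rw [map_sub, hv, ← Module.End.mul_apply, ← (hL.comm l).eq, Module.End.mul_apply, hv]) (hL.push l v hv))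
  have hfixQ : (∀ y v, S v = v → ∀ K ∈ 𝒦, ¬ LinearMap.range (S - 1) ≤ K → χQ y v - v ∈ K) →
      ∀ y v, S v = v → χQ y v = v := fun hpush y v hv => sub_eq_zero.mp (hB0 _ (by
    rw [map_sub, hv, ← Module.End.mul_apply, ← (hQ.comm y).eq, Module.End.mul_apply, hv]) (hpush y v hv))
  -- the moved centre is trivial
  set A := movedSub σ Y with hA
  have hAσ : ∀ g ∈ A, σ g ∈ A := movedSub_inv hYσ
  have hAY : A ≤ Y := movedSub_le hYσ
  have hcA := card_ne (F := F) hR ht A
  have hA1 : ∀ a ∈ A, ρ a = 1 := by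
    let W1 : Submodule F M := LinearMap.ker (avg ρ A)
    have hW1ρ : ∀ g, ∀ w ∈ W1, ρ g w ∈ W1 := fun g w hw => by
      rw [LinearMap.mem_ker, ← avg_comm (ρ g) w fun b => LinearMap.congr_fun (hYc b (hAY b.2) g).eq.symm w,
        LinearMap.mem_ker.mp hw, map_zero]
    have hW1S : ∀ w ∈ W1, S w ∈ W1 := fun w hw => by
      rw [LinearMap.mem_ker, ← avg_twist S (subAut σ A hAσ).toEquiv (fun b => hact.rel b) w,
        LinearMap.mem_ker.mp hw, map_zero]
    have hcomm : ∀ l, ∀ y ∈ Y, Commute (χL l) (ρ y) := fun l y hy => by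
      change χL l * ρ y = ρ y * χL l
      rw [hL.rel, hYL l y hy]
    have hW1L : ∀ l, ∀ w ∈ W1, χL l w ∈ W1 := fun l w hw => by
      rw [LinearMap.mem_ker, ← avg_comm (χL l) w fun b => LinearMap.congr_fun (hcomm l b (hAY b.2)).eq w,
        LinearMap.mem_ker.mp hw, map_zero]
    have htriv : ∀ l, ∀ w ∈ W1, χL l w = w := by
      intro l w hw
      refine sub_eq_zero.mp ?_
      have h1 := orbit_kill (T := χL l - 1) hr hact.pow hact.rel (A := A) hAσ (U := W1) (fun a _ => hW1ρ a) hW1S
        (fun u hu => W1.sub_mem (hW1L l u hu) hu)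
        (fun a ha u _ => by
          simp only [LinearMap.sub_apply, Module.End.one_apply, map_sub]
          rw [← Module.End.mul_apply (χL l), (hcomm l a (hAY ha)).eq, Module.End.mul_apply])
        (fun u _ => by
          simp only [LinearMap.sub_apply, Module.End.one_apply, map_sub]
          rw [← Module.End.mul_apply (χL l), (hL.comm l).eq, Module.End.mul_apply])
        (fun a ha b _ u _ => LinearMap.congr_fun (hYc a (hAY ha) b).eq u)
        (fun u hu hub => by
          let K : Subgroup R :=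
            { carrier := {g | ρ g u = u}
              one_mem' := by simp
              mul_mem' := fun {a b} ha hb => by
                change ρ (a * b) u = u
                rw [map_mul, Module.End.mul_apply, hb, ha]
              inv_mem' := fun {a} ha => by
                change ρ a⁻¹ u = u
                conv_lhs => rw [← show ρ a u = u from ha]
                rw [← Module.End.mul_apply, rho_cancel', Module.End.one_apply] }
          have hle : movedSub σ A ≤ K := by
            refine (Subgroup.closure_le _).mpr ?_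
            rintro _ ⟨b, hb, rfl⟩
            change ρ (b⁻¹ * σ b) u = u
            rw [map_mul, Module.End.mul_apply, hub b hb, ← Module.End.mul_apply, rho_cancel', Module.End.one_apply]
          have h1 : avg ρ A u = 0 := LinearMap.mem_ker.mp hu
          rwa [avg_fix hcA fun b => hle (hAgen.symm ▸ b.2)] at h1)
        (fun u _ hSu => by rw [LinearMap.sub_apply, hfixL l u hSu]; exact sub_self u) hw
      exact h1
    intro a ha
    refine LinearMap.ext fun v => ?_
    have hR1 : ∀ g, ∀ w ∈ W1, ρ g w = w := by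
      intro g w hw
      let H : Subgroup R :=
        { carrier := {g | ∀ w ∈ W1, ρ g w = w}
          one_mem' := fun w _ => by simp
          mul_mem' := fun {a b} ha hb w hw => by rw [map_mul, Module.End.mul_apply, hb w hw, ha w hw]
          inv_mem' := fun {a} ha w hw => by
            conv_lhs => rw [← ha w hw]
            rw [← Module.End.mul_apply, rho_cancel', Module.End.one_apply] }
      have hle : (⊤ : Subgroup R) ≤ H := by
        rw [← hgenR, Subgroup.closure_le]
        rintro z (⟨l, g, rfl⟩ | hz) u hu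
        · have e1 : ρ (φL l g) u = ρ g u := by
            conv_lhs => rw [← htriv l u hu]
            rw [← Module.End.mul_apply, ← hL.rel, Module.End.mul_apply, htriv l _ (hW1ρ g u hu)]
          rw [map_mul, Module.End.mul_apply, e1, ← Module.End.mul_apply, rho_cancel', Module.End.one_apply]
        · rw [show ρ z = 1 from hz]; rfl
      exact hle (Subgroup.mem_top g) w hw
    have h2 : v - avg ρ A v = 0 := hf _ fun g => hR1 g _ (sub_avg_ker hcA v)
    rw [sub_eq_zero] at h2
    rw [h2]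
    exact rho_avg (⟨a, ha⟩ : A) v
  have hρσY : ∀ y ∈ Y, ρ (σ y) = ρ y := fun y hy => by
    rw [show σ y = y * (y⁻¹ * σ y) from (mul_inv_cancel_left _ _).symm, map_mul, hA1 _ (moved_mem hy), mul_one]
  -- over the closure
  let E := AlgebraicClosure F
  have htE : (t : E) ≠ 0 := by rw [← map_natCast (algebraMap F E)]; exact (map_ne_zero _).mpr ht
  have hrE : (r : E) ≠ 0 := by rw [← map_natCast (algebraMap F E)]; exact (map_ne_zero _).mpr hrF
  haveI : Nontrivial (E ⊗[F] M) := nontrivial_tmul (F := F) E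
  let ρE := bcRep E ρ
  let SE := bcH E S
  have hactE : Act ρE σ SE r := ⟨fun g => by
    change bcH E S * bcH E (ρ g) = bcH E (ρ (σ g)) * bcH E S
    rw [← map_mul, ← map_mul, hact.rel], hr, by rw [← map_pow, hact.pow, map_one], hact.gen⟩
  have hfE : ∀ v, (∀ g, ρE g v = v) → v = 0 := no_fixed E ρ (by
    rw [← Subgroup.card_top]; exact hcR) hf
  have hfixE : ∀ (x : Module.End F M), (∀ v, S v = v → x v = v) → ∀ v, SE v = v → bcH E x v = v := by
    intro x hH v hv
    have h1 := fixed_span E hact.pow hrF hv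
    clear hv
    induction h1 using Submodule.span_induction with
    | mem z hz =>
      obtain ⟨u, hu, rfl⟩ := hz
      rw [bcH_tmul, hH u hu]
    | zero => simp
    | add a b _ _ ha hb => rw [map_add, ha, hb]
    | smul e a _ ha => rw [map_smul, ha]
  have hcY : ∀ y ∈ Y, ∀ g, Commute (ρE y) (ρE g) := fun y hy g => (hYc y hy g).map (bcH E)
  -- an eigenspace of the centre
  haveI : Fintype Y := Fintype.ofFinite Y
  obtain ⟨v₀, -, hv₀, hv₀c⟩ := exists_common (fun y : Y => ρE y) Finset.univ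
    (fun y _ y' _ => hcY y y.2 y') (top_ne_bot (α := Submodule E (E ⊗[F] M))) (fun _ _ _ _ => trivial)
  choose c₀ hc₀ using fun y : Y => hv₀c y (Finset.mem_univ y)
  let χ : R → E := fun g => if hg : g ∈ Y then c₀ ⟨g, hg⟩ else 1
  have hχ : ∀ y ∈ Y, ρE y v₀ = χ y • v₀ := fun y hy => by
    simp only [χ, dif_pos hy]; exact hc₀ ⟨y, hy⟩
  have huniq : ∀ y ∈ Y, ∀ e : E, ρE y v₀ = e • v₀ → χ y = e := fun y hy e he =>
    smul_left_injective E hv₀ ((hχ y hy).symm.trans he)
  have hYn : ∀ a, ∀ y ∈ Y, a * y * a⁻¹ ∈ Y := fun a y hy => by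
    have e : a * y * a⁻¹ = ⁅a, y⁆ * y := by simp only [commutatorElement_def]; group
    rw [e]
    exact Y.mul_mem (hRR a y) hy
  have hP : Pairing Y χ :=
    { comm := hRR
      mul := fun y hy z hz => huniq _ (Y.mul_mem hy hz) _ (by
        rw [map_mul, Module.End.mul_apply, hχ z hz, map_smul, hχ y hy, smul_smul, mul_comm])
      one := huniq 1 Y.one_mem 1 (by rw [map_one, one_smul]; rfl)
      conj := fun a y hy => huniq _ (hYn a y hy) _ (by
        rw [map_mul, map_mul, ← (hcY y hy a).eq, mul_assoc, rho_cancel, mul_one, hχ y hy])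
      cent := fun y hy g => huniq _ (hRR y g) _ (by
        rw [one_smul, commutatorElement_def, map_mul, map_mul, map_mul, (hcY y hy g).eq,
          mul_assoc (ρE g), rho_cancel, mul_one, rho_cancel]
        rfl) }
  have hσχ : ∀ y ∈ Y, χ (σ y) = χ y := fun y hy => huniq _ (hYσ y hy) _ (by
    rw [← hχ y hy]
    change bcH E (ρ (σ y)) v₀ = bcH E (ρ y) v₀
    rw [hρσY y hy])
  set Rd := hP.rad with hRd
  have hYRd : Y ≤ Rd := hP.le_rad
  have hRdmove : ∀ (φ : MulAut R), (∀ y ∈ Y, χ (φ y) = χ y) → ∀ g ∈ Rd, φ g ∈ Rd := fun φ hφ g hg k => by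
    obtain ⟨k', rfl⟩ := φ.surjective k
    rw [← map_commutatorElement, hφ _ (hRR g k')]
    exact hg k'
  have hRdσ : ∀ g ∈ Rd, σ g ∈ Rd := hRdmove σ hσχ
  let Uχ : Submodule E (E ⊗[F] M) := ⨅ y : Y, LinearMap.ker (ρE y - χ (y : R) • 1)
  have hUχ : ∀ v, v ∈ Uχ ↔ ∀ y ∈ Y, ρE y v = χ y • v := fun v => by
    simp [Uχ, Submodule.mem_iInf, sub_eq_zero]
  have hswap : ∀ g k, ∀ v ∈ Uχ, ρE g (ρE k v) = χ ⁅g, k⁆ • ρE k (ρE g v) := by
    intro g k v hv
    have e : g * k = k * g * ⁅g⁻¹, k⁻¹⁆ := by simp only [commutatorElement_def]; group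
    have e2 : χ ⁅g⁻¹, k⁻¹⁆ = χ ⁅g, k⁆ := by
      have h1 := hP.mul_left g g⁻¹ k⁻¹
      rw [mul_inv_cancel, commutatorElement_one_left, hP.one] at h1
      have h2 := hP.mul_right g k k⁻¹
      rw [mul_inv_cancel, commutatorElement_one_right, hP.one] at h2
      refine mul_left_cancel₀ (hP.ne_zero (hRR g k⁻¹)) ?_
      rw [← h1, mul_comm (χ ⁅g, k⁻¹⁆)]
      exact h2
    rw [← Module.End.mul_apply, ← map_mul, e, map_mul, map_mul, Module.End.mul_apply, (hUχ v).mp hv _ (hRR _ _),
      e2, map_smul, Module.End.mul_apply]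
  have hUχρ : ∀ g, ∀ v ∈ Uχ, ρE g v ∈ Uχ := fun g v hv => (hUχ _).mpr fun y hy => by
    rw [← Module.End.mul_apply, (hcY y hy g).eq, Module.End.mul_apply, (hUχ v).mp hv y hy, map_smul]
  haveI : Fintype Rd := Fintype.ofFinite Rd
  have hv₀U : v₀ ∈ Uχ := (hUχ v₀).mpr hχ
  have hUχne : Uχ ≠ ⊥ := (Submodule.ne_bot_iff _).mpr ⟨v₀, hv₀U, hv₀⟩
  let ρU := res ρE Uχ hUχρ
  obtain ⟨v₁, -, hv₁, hv₁c⟩ := exists_common (W := Uχ) (fun g : Rd => ρU g) Finset.univ
    (fun g _ k _ => LinearMap.ext fun v => Subtype.ext (by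
      have h1 := hswap g k v v.2
      rw [g.2 k, one_smul] at h1
      exact h1))
    (haveI : Nontrivial Uχ := Submodule.nontrivial_iff_ne_bot.mpr hUχne; top_ne_bot (α := Submodule E Uχ))
    (fun _ _ _ _ => Submodule.mem_top)
  choose c₁ hc₁ using fun g : Rd => hv₁c g (Finset.mem_univ g)
  let ψ : R → E := fun g => if hg : g ∈ Rd then c₁ ⟨g, hg⟩ else 1
  have hψ₁ : ∀ g ∈ Rd, ρE g (v₁ : E ⊗[F] M) = ψ g • (v₁ : E ⊗[F] M) := fun g hg => by
    simp only [ψ, dif_pos hg]
    exact congrArg Subtype.val (hc₁ ⟨g, hg⟩)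
  have hv₁' : (v₁ : E ⊗[F] M) ≠ 0 := fun h => hv₁ (Subtype.ext h)
  have hψmul : ∀ g ∈ Rd, ∀ k ∈ Rd, ψ (g * k) = ψ g * ψ k := fun g hg k hk => by
    refine smul_left_injective E hv₁' ?_
    change ψ (g * k) • (v₁ : E ⊗[F] M) = (ψ g * ψ k) • (v₁ : E ⊗[F] M)
    rw [← hψ₁ _ (Rd.mul_mem hg hk), map_mul, Module.End.mul_apply, hψ₁ k hk, map_smul, hψ₁ g hg, smul_smul,
      mul_comm]
  have hψY : ∀ y ∈ Y, ψ y = χ y := fun y hy =>
    smul_left_injective E hv₁' ((hψ₁ y (hYRd hy)).symm.trans ((hUχ _).mp v₁.2 y hy))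
  have hψne : ∀ g ∈ Rd, ψ g ≠ 0 := fun g hg h0 => by
    have h1 := hψmul g hg g⁻¹ (Rd.inv_mem hg)
    rw [mul_inv_cancel, hψY 1 Y.one_mem, hP.one, h0, zero_mul] at h1
    exact one_ne_zero h1
  let U : Submodule E (E ⊗[F] M) := Uχ ⊓ ⨅ g : Rd, LinearMap.ker (ρE g - ψ (g : R) • 1)
  have hU : ∀ v, v ∈ U ↔ v ∈ Uχ ∧ ∀ g ∈ Rd, ρE g v = ψ g • v := fun v => by
    simp [U, Submodule.mem_iInf, sub_eq_zero]
  have hv₁U : (v₁ : E ⊗[F] M) ∈ U := (hU _).mpr ⟨v₁.2, hψ₁⟩
  have hUne : U ≠ ⊥ := (Submodule.ne_bot_iff _).mpr ⟨_, hv₁U, hv₁'⟩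
  have hUρ : ∀ g, ∀ v ∈ U, ρE g v ∈ U := fun g v hv => by
    obtain ⟨h1, h2⟩ := (hU v).mp hv
    refine (hU _).mpr ⟨hUχρ g v h1, fun k hk => ?_⟩
    rw [hswap k g v h1, hk g, one_smul, h2 k hk, map_smul]
  -- an element of the group of the layer that fixes a part which is stable
  have hkillR : ∀ (U' : Submodule E (E ⊗[F] M)), U' ≠ ⊥ → (∀ g, ∀ v ∈ U', ρE g v ∈ U') →
      (∀ l g, ∀ v ∈ U', bcH E (χL l) (ρE g v) = ρE g (bcH E (χL l) v)) →
      (∀ l, ∀ v ∈ U', ∃ w ∈ U', bcH E (χL l) w = v) → False := by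
    intro U' hne hρ' hcomm' hsurj'
    obtain ⟨u, hu, hu0⟩ := Submodule.exists_mem_ne_zero_of_ne_bot hne
    refine hu0 (hfE u fun g => ?_)
    let H : Subgroup R :=
      { carrier := {g | ∀ w ∈ U', ρE g w = w}
        one_mem' := fun w _ => by simp
        mul_mem' := fun {a b} ha hb w hw => by rw [map_mul, Module.End.mul_apply, hb w hw, ha w hw]
        inv_mem' := fun {a} ha w hw => by
          conv_lhs => rw [← ha w hw]
          rw [← Module.End.mul_apply, rho_cancel', Module.End.one_apply] }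
    have hle : (⊤ : Subgroup R) ≤ H := by
      rw [← hgenR, Subgroup.closure_le]
      rintro z (⟨l, g, rfl⟩ | hz) w hw
      · obtain ⟨w', hw', rfl⟩ := hsurj' l w hw
        have e1 : ρE (φL l g) (bcH E (χL l) w') = bcH E (χL l) (ρE g w') := by
          rw [← Module.End.mul_apply, ← Module.End.mul_apply (bcH E (χL l))]
          change (bcH E (ρ (φL l g)) * bcH E (χL l)) w' = (bcH E (χL l) * bcH E (ρ g)) w'
          rw [← map_mul, ← map_mul, hL.rel]
        rw [map_mul, Module.End.mul_apply, e1, hcomm' l g w' hw', ← Module.End.mul_apply, rho_cancel',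
          Module.End.one_apply]
      · have h1 : ρE z = 1 := by
          change bcH E (ρ z) = 1
          rw [show ρ z = 1 from hz, map_one]
        rw [h1]; rfl
    exact hle (Subgroup.mem_top g) u hu
  have hψr : ∀ g ∈ Rd, ψ (σ^[r] g) = ψ g := by
    intro g hg
    have hk : ∀ k, ∀ g ∈ Rd, σ^[k] g ∈ Rd := by
      intro k
      induction k with
      | zero => exact fun g hg => hg
      | succ k ih => intro g hg; rw [Function.iterate_succ_apply']; exact hRdσ _ (ih g hg)
    refine smul_left_injective E hv₁' ?_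
    change ψ (σ^[r] g) • (v₁ : E ⊗[F] M) = ψ g • (v₁ : E ⊗[F] M)
    rw [← hψ₁ _ (hk r g hg), ← hψ₁ g hg, rho_iterate_r hactE.rel hactE.pow]
  have hφY : ∀ l, ∀ y ∈ Y, χ (φL l y) = χ y := fun l y hy => huniq _ (hL.hY l y hy) _ (by
    rw [← hχ y hy]
    change bcH E (ρ (φL l y)) v₀ = bcH E (ρ y) v₀
    rw [hYL l y hy])
  -- the weight is fixed
  have hψσ : ∀ g ∈ Rd, ψ (σ g) = ψ g := by
    by_contra hmov
    push Not at hmov
    obtain ⟨g₀, hg₀, hg₀'⟩ := hmov
    let σR : Rd → Rd := fun g => ⟨σ g, hRdσ g g.2⟩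
    have hσR : ∀ k (g : Rd), ((σR^[k] g : Rd) : R) = σ^[k] (g : R) := by
      intro k
      induction k with
      | zero => intro g; rfl
      | succ k ih => intro g; rw [Function.iterate_succ_apply', Function.iterate_succ_apply', ← ih]
    have hdist : ∀ d, (∀ g : Rd, ψ ((σR^[d] g : Rd) : R) = ψ (g : R)) → r ∣ d := by
      intro d hd
      by_contra hrd
      exact hg₀' (per_one (f := σR) (ψ := fun g : Rd => ψ (g : R)) hr hrd
        (fun g => by rw [hσR]; exact hψr g g.2) hd ⟨g₀, hg₀⟩)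
    have hS : ∀ n : ℕ, ∀ g, SE ^ n * ρE g = ρE (σ^[n] g) * SE ^ n := fun n g => rel_iterate hactE.rel n g
    have hwt : ∀ i, i ≤ r → ∀ v ∈ U, ∀ g : Rd, ρE g ((SE ^ i) v) =
        ψ ((σR^[r - i] g : Rd) : R) • (SE ^ i) v := by
      intro i hi v hv g
      have h := congrArg (SE ^ i) (((hU v).mp hv).2 _ (σR^[r - i] g).2)
      rw [map_smul] at h
      rw [← h, ← Module.End.mul_apply (SE ^ i), hS, Module.End.mul_apply, hσR, ← Function.iterate_add_apply,
        Nat.add_sub_cancel' hi, rho_iterate_r hactE.rel hactE.pow]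
    have hzero : ∀ l, ∀ v ∈ U, bcH E (χL l) v = v := by
      intro l v hv
      by_cases hv0 : v = 0
      · rw [hv0, map_zero]
      set x := bcH E (χL l) with hx
      have hxS : Commute x SE := (hL.comm l).map (bcH E)
      have hxS' : ∀ i : ℕ, ∀ w, x ((SE ^ i) w) = (SE ^ i) (x w) := fun i w =>
        LinearMap.congr_fun (hxS.pow_right i).eq w
      have hrel : ∀ g, x * ρE g = ρE (φL l g) * x := fun g => by
        change bcH E (χL l) * bcH E (ρ g) = bcH E (ρ (φL l g)) * bcH E (χL l)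
        rw [← map_mul, ← map_mul, hL.rel]
      have hφs : ∀ k a, φL l (σ^[k] a) = σ^[k] (φL l a) := by
        intro k
        induction k with
        | zero => intro a; rfl
        | succ k ih => intro a; rw [Function.iterate_succ_apply', hL.sig, ih, Function.iterate_succ_apply']
      let φR : Rd → Rd := fun g => ⟨(φL l).symm g, by
        obtain ⟨g', hg'⟩ : ∃ g' : Rd, φL l (g' : R) = g := by
          have hinj : Function.Injective (fun b : Rd => (⟨φL l b, hRdmove (φL l) (hφY l) b b.2⟩ : Rd)) :=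
            fun b c hbc => Subtype.ext ((φL l).injective (congrArg Subtype.val hbc))
          obtain ⟨g', hg'⟩ := Finite.injective_iff_surjective.mp hinj g
          exact ⟨g', congrArg Subtype.val hg'⟩
        rw [← hg', MulEquiv.symm_apply_apply]
        exact g'.2⟩
      let ev : Fin r ⊕ Fin r → Rd → E := Sum.elim (fun i g => ψ ((σR^[r - (i : ℕ)] g : Rd) : R))
        (fun i g => ψ ((σR^[r - (i : ℕ)] (φR g) : Rd) : R))
      let u : Fin r ⊕ Fin r → E ⊗[F] M := Sum.elim (fun i => (SE ^ (i : ℕ)) v) (fun i => - x ((SE ^ (i : ℕ)) v))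
      have hu : ∀ (i) (g : Rd), ρE (g : R) (u i) = ev i g • u i := by
        rintro (i | i) g
        · exact hwt i i.2.le v hv g
        · simp only [u, ev, Sum.elim_inr, map_neg, smul_neg]
          have h := congrArg x (hwt i i.2.le v hv (φR g))
          rw [map_smul] at h
          rw [← h]
          congr 1
          rw [← Module.End.mul_apply x (ρE ((φR g : Rd) : R)), hrel, Module.End.mul_apply,
            show φL l ((φR g : Rd) : R) = g from (φL l).apply_symm_apply _]
      have hy : SE (∑ i : Fin r, (SE ^ (i : ℕ)) v) = ∑ i : Fin r, (SE ^ (i : ℕ)) v := by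
        rw [Fin.sum_univ_eq_sum_range (fun i => (SE ^ i) v), map_sum]
        simp only [← Module.End.mul_apply, ← pow_succ']
        have h2 := Finset.sum_range_succ' (fun i => (SE ^ i) v) r
        rw [Finset.sum_range_succ, hactE.pow, pow_zero] at h2
        exact (add_right_cancel h2).symm
      have hsum : ∑ i, u i = 0 := by
        rw [Fintype.sum_sum_type]
        simp only [u, Sum.elim_inl, Sum.elim_inr, Finset.sum_neg_distrib]
        rw [← map_sum, hx, hfixE (χL l) (hfixL l) _ hy, add_neg_cancel]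
      let w : Rd → E := ev (Sum.inl ⟨0, hr.pos⟩)
      have h1 : (∑ a : Fin r, if ev (Sum.inl a) = w then u (Sum.inl a) else 0) +
          (∑ a : Fin r, if ev (Sum.inr a) = w then u (Sum.inr a) else 0) = 0 := by
        have h := weight_sums (fun g : Rd => ρE g) u ev hu hsum w
        rw [Finset.sum_filter, Fintype.sum_sum_type] at h
        convert h
      have hinl : ∀ i : Fin r, ev (Sum.inl i) = w → i = ⟨0, hr.pos⟩ := by
        intro i hi
        refine Fin.ext ?_
        by_contra hi0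
        have h2 := hdist (r - i) fun g => by
          have h3 := congrFun hi g
          simp only [ev, w, Sum.elim_inl, Nat.sub_zero] at h3
          rw [h3, hσR]
          exact hψr g g.2
        have := Nat.le_of_dvd (by omega) h2
        simp only at hi0
        omega
      have e0 : (∑ a : Fin r, if ev (Sum.inl a) = w then u (Sum.inl a) else 0) = u (Sum.inl ⟨0, hr.pos⟩) :=
        (Finset.sum_eq_single (⟨0, hr.pos⟩ : Fin r) (fun i _ hi => if_neg fun h => hi (hinl i h))
          (fun h => absurd (Finset.mem_univ _) h)).trans (if_pos rfl)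
      rw [e0] at h1
      obtain ⟨i, hi, hi'⟩ : ∃ i : Fin r, ev (Sum.inr i) = w ∧ ∀ j : Fin r, ev (Sum.inr j) = w → j = i := by
        by_cases hex : ∃ i : Fin r, ev (Sum.inr i) = w
        · obtain ⟨i, hi⟩ := hex
          refine ⟨i, hi, fun j hj => Fin.ext ?_⟩
          have hgen : ∀ a b : Fin r, ev (Sum.inr a) = w → ev (Sum.inr b) = w → (b : ℕ) ≤ a → (a : ℕ) = b := by
            intro a b ha hb hba
            have h3 := hdist ((a : ℕ) - b) fun g => by
              obtain ⟨g', hg'⟩ : ∃ g', σR^[r - (a : ℕ)] (φR g') = g := by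
                have hσinj : Function.Injective σR := fun a b h =>
                  Subtype.ext (σ.injective (congrArg Subtype.val h))
                have hφinj : Function.Injective φR := fun a b h =>
                  Subtype.ext ((φL l).symm.injective (congrArg Subtype.val h))
                exact Finite.injective_iff_surjective.mp ((hσinj.iterate _).comp hφinj) g
              have h4 := congrFun (hb.trans ha.symm) g'
              simp only [ev, Sum.elim_inr] at h4
              rw [← hg', ← Function.iterate_add_apply, show (a : ℕ) - b + (r - a) = r - b by have := a.2; omega]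
              exact h4
            by_contra hne
            have := Nat.le_of_dvd (by omega) h3
            have := a.2
            omega
          rcases le_total (i : ℕ) j with h | h
          · exact hgen j i hj hi h
          · exact (hgen i j hi hj h).symm
        · push Not at hex
          rw [Finset.sum_eq_zero (fun i _ => if_neg (hex i)), add_zero] at h1
          simp only [u, Sum.elim_inl, pow_zero, Module.End.one_apply] at h1
          exact absurd h1 hv0
      have e1 : (∑ a : Fin r, if ev (Sum.inr a) = w then u (Sum.inr a) else 0) = u (Sum.inr i) :=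
        (Finset.sum_eq_single i (fun j _ hj => if_neg fun h => hj (hi' j h))
          (fun h => absurd (Finset.mem_univ _) h)).trans (if_pos hi)
      rw [e1] at h1
      simp only [u, Sum.elim_inl, Sum.elim_inr, pow_zero, Module.End.one_apply] at h1
      rw [hxS', ← sub_eq_add_neg, sub_eq_zero] at h1
      have hxv : x v = (SE ^ (r - (i : ℕ))) v := by
        conv_rhs => rw [h1, ← Module.End.mul_apply, ← pow_add, Nat.sub_add_cancel i.2.le, hactE.pow]
        rfl
      have hxn : ∀ n : ℕ, (x ^ n) v = (SE ^ ((r - (i : ℕ)) * n)) v := by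
        intro n
        induction n with
        | zero => simp
        | succ n ih =>
          rw [pow_succ', Module.End.mul_apply, ih, hxS', hxv, ← Module.End.mul_apply, ← pow_add, Nat.mul_succ]
      set n := Nat.card L
      have hn := hxn n
      rw [← map_pow, ← map_pow χL, pow_card_eq_one', map_one, map_one, Module.End.one_apply] at hn
      have hdiv : r ∣ (r - (i : ℕ)) * n := by
        set D := (r - (i : ℕ)) * n
        have hmod : (SE ^ D) v = (SE ^ (D % r)) v := by rw [pow_eq_pow_mod D hactE.pow]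
        rw [hmod] at hn
        by_contra hnd
        have hpos : 0 < D % r := Nat.pos_of_ne_zero fun h => hnd (Nat.dvd_of_mod_eq_zero h)
        have hlt := Nat.mod_lt D hr.pos
        have h3 := hdist (r - D % r) fun g => by
          have h4 := hwt (D % r) hlt.le v hv g
          rw [← hn, ((hU v).mp hv).2 g g.2] at h4
          exact (smul_left_injective E hv0 h4).symm
        have := Nat.le_of_dvd (by omega) h3
        omega
      have hni : r ∣ r - (i : ℕ) := by
        refine ((Nat.Prime.dvd_mul hr).mp hdiv).resolve_right ?_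
        exact hr.coprime_iff_not_dvd.mp (hφpow φL hL.isP hL.prime hL.ne l).2.symm
      have hi0 : r - (i : ℕ) = r := Nat.eq_of_dvd_of_lt_two_mul (by have := i.2; omega) hni (by have := hr.pos; omega)
      rw [hxv, hi0, hactE.pow, Module.End.one_apply]
    exact hkillR U hUne hUρ (fun l g v hv => by rw [hzero l _ (hUρ g v hv), hzero l v hv])
      (fun l v hv => ⟨v, hv, hzero l v hv⟩)
  haveI : Y.Normal := ⟨fun y hy a => hYn a y hy⟩
  -- uniqueness of the fixed weight
  have hψuniq : ∀ ψ' : R → E, (∀ g ∈ Rd, ∀ k ∈ Rd, ψ' (g * k) = ψ' g * ψ' k) → (∀ y ∈ Y, ψ' y = χ y) →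
      (∀ g ∈ Rd, ψ' (σ g) = ψ' g) → ∀ g ∈ Rd, ψ' g = ψ g := by
    intro ψ' hmul' hY' hσ' g hg
    let q : R →* R ⧸ Y := QuotientGroup.mk' Y
    let Rq : Subgroup (R ⧸ Y) := Rd.map q
    have hc : ∀ a b : R ⧸ Y, a * b = b * a := by
      intro a b
      induction a using QuotientGroup.induction_on with
      | H g =>
      induction b using QuotientGroup.induction_on with
      | H k =>
        rw [← QuotientGroup.mk_mul, ← QuotientGroup.mk_mul, QuotientGroup.eq]
        have e : (g * k)⁻¹ * (k * g) = ⁅k⁻¹, g⁻¹⁆ := by simp only [commutatorElement_def]; group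
        rw [e]
        exact hRR _ _
    let s : R ⧸ Y →* R ⧸ Y := QuotientGroup.map Y Y σ.toMonoidHom fun y hy => hYσ y hy
    have hmaps : ∀ a ∈ Rq, a⁻¹ * s a ∈ Rq := by
      rintro _ ⟨b, hb, rfl⟩
      exact ⟨b⁻¹ * σ b, Rd.mul_mem (Rd.inv_mem hb) (hRdσ b hb), rfl⟩
    let m : Rq → Rq := fun a => ⟨(a : R ⧸ Y)⁻¹ * s a, hmaps a a.2⟩
    have hinj : Function.Injective m := by
      intro a b hab
      obtain ⟨a', -, ha'⟩ := a.2
      obtain ⟨b', -, hb'⟩ := b.2
      refine Subtype.ext ?_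
      have h1 : (a : R ⧸ Y)⁻¹ * s a = (b : R ⧸ Y)⁻¹ * s b := congrArg Subtype.val hab
      rw [← ha', ← hb'] at h1 ⊢
      have h2 : q ((b'⁻¹ * a')⁻¹ * σ (b'⁻¹ * a')) = 1 := by
        have hsq : ∀ z, q (σ z) = s (q z) := fun z => rfl
        have e : ∀ A B C D : R ⧸ Y, (B⁻¹ * A)⁻¹ * (D⁻¹ * C) = A⁻¹ * C * (B⁻¹ * D)⁻¹ := by
          intro A B C D
          rw [mul_inv_rev B⁻¹ A, inv_inv, mul_inv_rev B⁻¹ D, inv_inv]
          calc A⁻¹ * B * (D⁻¹ * C) = A⁻¹ * (B * (D⁻¹ * C)) := mul_assoc _ _ _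
            _ = A⁻¹ * (C * (D⁻¹ * B)) := by rw [hc B, hc D⁻¹ C, mul_assoc, hc C]
            _ = A⁻¹ * C * (D⁻¹ * B) := (mul_assoc _ _ _).symm
        simp only [map_mul, map_inv, hsq]
        rw [e, h1, mul_inv_cancel]
      have h3 := hYfpf _ ((QuotientGroup.eq_one_iff _).mp h2)
      exact (QuotientGroup.eq.mpr h3).symm
    obtain ⟨a, ha⟩ := Finite.injective_iff_surjective.mp hinj ⟨q g, g, hg, rfl⟩
    obtain ⟨b, hb, hb'⟩ := a.2
    have h1 : q (b⁻¹ * σ b) = q g := by
      rw [← show (a : R ⧸ Y)⁻¹ * s a = q g from congrArg Subtype.val ha, ← hb']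
      rfl
    have hy : (b⁻¹ * σ b)⁻¹ * g ∈ Y := QuotientGroup.eq.mp h1
    have key : ∀ ξ : R → E, (∀ g ∈ Rd, ∀ k ∈ Rd, ξ (g * k) = ξ g * ξ k) → (∀ y ∈ Y, ξ y = χ y) →
        (∀ g ∈ Rd, ξ (σ g) = ξ g) → ξ g = χ ((b⁻¹ * σ b)⁻¹ * g) := by
      intro ξ h1 h2 h3
      have hb1 := Rd.inv_mem hb
      have hb2 := hRdσ b hb
      conv_lhs => rw [← mul_inv_cancel_left (b⁻¹ * σ b) g]
      rw [h1 _ (Rd.mul_mem hb1 hb2) _ (hYRd hy), h2 _ hy, h1 _ hb1 _ hb2, h3 b hb, ← h1 _ hb1 _ hb,
        inv_mul_cancel, h2 1 Y.one_mem, hP.one, one_mul]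
    rw [key ψ' hmul' hY' hσ', key ψ hψmul hψY hψσ]
  have hUS : ∀ v ∈ U, SE v ∈ U := fun v hv => by
    obtain ⟨h1, h2⟩ := (hU v).mp hv
    refine (hU _).mpr ⟨(hUχ _).mpr fun y hy => ?_, fun g hg => ?_⟩
    · obtain ⟨y', hy', rfl⟩ : ∃ y' ∈ Y, σ y' = y := by
        obtain ⟨y', h⟩ := (subAut σ Y hYσ).surjective ⟨y, hy⟩
        exact ⟨y', y'.2, congrArg Subtype.val h⟩
      rw [← Module.End.mul_apply, ← hactE.rel, Module.End.mul_apply, (hUχ v).mp h1 y' hy', map_smul, hσχ y' hy']
    · obtain ⟨g', hg', rfl⟩ : ∃ g' ∈ Rd, σ g' = g := by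
        obtain ⟨g', h⟩ := (subAut σ Rd hRdσ).surjective ⟨g, hg⟩
        exact ⟨g', g'.2, congrArg Subtype.val h⟩
      rw [← Module.End.mul_apply, ← hactE.rel, Module.End.mul_apply, h2 g' hg', map_smul, hψσ g' hg']
  let τ := res ρE U hUρ
  letI : AddCommGroup U := U.addCommGroup
  have hactU := hactE.res hUρ hUS
  haveI : Nontrivial U := Submodule.nontrivial_iff_ne_bot.mpr hUne
  have hscal : ∀ g, g ∈ scal (W := U) τ ↔ g ∈ Rd := by
    intro g
    constructor
    · rintro ⟨e, he⟩ k
      obtain ⟨u, hu⟩ := exists_ne (0 : U)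
      have h1 := hswap g k u ((hU _).mp u.2).1
      have h2 : ρE g (u : E ⊗[F] M) = e • (u : E ⊗[F] M) := congrArg Subtype.val (LinearMap.congr_fun he u)
      have h3 : ρE g (ρE k (u : E ⊗[F] M)) = e • ρE k (u : E ⊗[F] M) :=
        congrArg Subtype.val (LinearMap.congr_fun he ⟨_, hUρ k u u.2⟩)
      rw [h2, h3, map_smul, smul_smul] at h1
      have hne : ρE k (u : E ⊗[F] M) ≠ 0 := fun h0 => hu (Subtype.ext (by
        have h4 : ρE k⁻¹ (ρE k (u : E ⊗[F] M)) = u := by
          rw [← Module.End.mul_apply, rho_cancel', Module.End.one_apply]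
        rw [h0, map_zero] at h4
        exact h4.symm))
      have he0 : e ≠ 0 := fun h0 => rho_ne_zero τ g (by rw [he, h0, zero_smul])
      exact mul_right_cancel₀ he0 ((smul_left_injective E hne h1).symm.trans (one_mul e).symm)
    · intro hg
      exact ⟨ψ g, LinearMap.ext fun u => Subtype.ext (((hU _).mp u.2).2 g hg)⟩
  have hn : Nondeg τ := by
    refine ⟨fun g k => ⟨χ ⁅g, k⁆, LinearMap.ext fun u => Subtype.ext (hswap g k u ((hU _).mp u.2).1)⟩,
      fun g hg => (hscal g).mpr fun k => ?_⟩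
    obtain ⟨u, hu⟩ := exists_ne (0 : U)
    have h1 := hswap g k u ((hU _).mp u.2).1
    have h2 : ρE g (ρE k (u : E ⊗[F] M)) = ρE k (ρE g (u : E ⊗[F] M)) :=
      congrArg Subtype.val (LinearMap.congr_fun (hg k).eq u)
    have hne : ρE k (ρE g (u : E ⊗[F] M)) ≠ 0 := fun h0 => hu (Subtype.ext (by
      have h4 : ρE (k * g)⁻¹ (ρE (k * g) (u : E ⊗[F] M)) = u := by
        rw [← Module.End.mul_apply, rho_cancel', Module.End.one_apply]
      rw [map_mul ρE k g, Module.End.mul_apply, h0, map_zero] at h4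
      exact h4.symm))
    rw [h2] at h1
    exact (smul_left_injective E hne (h1.symm.trans (one_smul E _).symm))
  have hnt : scal τ ≠ ⊤ := by
    intro htop
    refine hUne (act_fixed_of_moved hactE hfE (fun g => ?_) hUS)
    exact ⟨ψ g, fun u hu => ((hU u).mp hu).2 g ((hscal g).mp (htop ▸ Subgroup.mem_top g))⟩
  have hUx : ∀ (x : Module.End E (E ⊗[F] M)) (φ : MulAut R), (∀ g, x * ρE g = ρE (φ g) * x) →
      (∀ g, φ (σ g) = σ (φ g)) → (∀ y ∈ Y, φ y ∈ Y) → (∀ y ∈ Y, χ (φ y) = χ y) → ∀ v ∈ U, x v ∈ U := by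
    intro x φ hx hφσ hφY hφχ v hv
    obtain ⟨h1, h2⟩ := (hU v).mp hv
    have hψφ : ∀ g ∈ Rd, ψ (φ g) = ψ g := hψuniq (fun g => ψ (φ g))
      (fun g hg k hk => by rw [map_mul]; exact hψmul _ (hRdmove φ hφχ g hg) _ (hRdmove φ hφχ k hk))
      (fun y hy => by rw [hψY _ (hφY y hy), hφχ y hy])
      (fun g hg => by rw [hφσ, hψσ _ (hRdmove φ hφχ g hg)])
    refine (hU _).mpr ⟨(hUχ _).mpr fun y hy => ?_, fun g hg => ?_⟩
    · obtain ⟨y', hy', rfl⟩ : ∃ y' ∈ Y, φ y' = y := by
        obtain ⟨y', h⟩ := (subAut φ Y hφY).surjective ⟨y, hy⟩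
        exact ⟨y', y'.2, congrArg Subtype.val h⟩
      rw [← Module.End.mul_apply, ← hx, Module.End.mul_apply, (hUχ v).mp h1 y' hy', map_smul, hφχ y' hy']
    · obtain ⟨g', hg', rfl⟩ : ∃ g' ∈ Rd, φ g' = g := by
        obtain ⟨g', h⟩ := (subAut φ Rd (hRdmove φ hφχ)).surjective ⟨g, hg⟩
        exact ⟨g', g'.2, congrArg Subtype.val h⟩
      rw [← Module.End.mul_apply, ← hx, Module.End.mul_apply, h2 g' hg', map_smul, hψφ g' hg']
  have hLE : ∀ l g, bcH E (χL l) * ρE g = ρE (φL l g) * bcH E (χL l) := fun l g => by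
    change bcH E (χL l) * bcH E (ρ g) = bcH E (ρ (φL l g)) * bcH E (χL l)
    rw [← map_mul, ← map_mul, hL.rel]
  have hQE : ∀ l g, bcH E (χQ l) * ρE g = ρE (φQ l g) * bcH E (χQ l) := fun l g => by
    change bcH E (χQ l) * bcH E (ρ g) = bcH E (ρ (φQ l g)) * bcH E (χQ l)
    rw [← map_mul, ← map_mul, hQ.rel]
  have hUL : ∀ l, ∀ v ∈ U, bcH E (χL l) v ∈ U := fun l => hUx _ (φL l) (hLE l) (hL.sig l) (hL.hY l) (hφY l)
  have hLsurj : ∀ l, ∀ v ∈ U, ∃ w ∈ U, bcH E (χL l) w = v := fun l v hv =>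
    ⟨bcH E (χL l⁻¹) v, hUL l⁻¹ v hv, by
      rw [← Module.End.mul_apply, ← map_mul, ← map_mul, mul_inv_cancel, map_one, map_one]; rfl⟩
  -- the exceptional case
  by_cases hexc : t = 2 ∧ Nat.card (R ⧸ scal τ) = (r - 1) ^ 2
  · obtain ⟨ht2, hcard⟩ := hexc
    subst ht2
    have hRdeq : scal τ = Rd := Subgroup.ext hscal
    rw [hRdeq] at hcard
    obtain ⟨X, _, _, _, π, β, hπs, hπm, hπ0, hβ, hnd, hfun⟩ := hP.exists_quot (by exact_mod_cast htE) hpow
    obtain ⟨fS, hfS, hfSβ⟩ := hfun σ hσχ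
    choose fL hfL hfLβ using fun l => hfun (φL l) (hφY l)
    have hX : Nat.card X = (r - 1) ^ 2 := by
      rw [← hcard]
      refine (Nat.card_congr (Equiv.ofBijective (Quotient.lift π fun a b hab => ?_) ⟨?_, ?_⟩)).symm
      · have h1 : a⁻¹ * b ∈ Rd := (QuotientGroup.leftRel_apply).mp hab
        rw [show b = a * (a⁻¹ * b) from (mul_inv_cancel_left _ _).symm, hπm, (hπ0 _).mpr h1, add_zero]
      · intro a b
        refine Quotient.inductionOn₂ a b fun a b hab => Quotient.sound ?_
        refine (QuotientGroup.leftRel_apply).mpr ((hπ0 _).mp ?_)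
        have h1 : π (a⁻¹ * b) + π a = π b := by rw [add_comm, ← hπm, mul_inv_cancel_left]
        change π a = π b at hab
        rw [← hab] at h1
        exact add_eq_right.mp h1
      · intro x
        obtain ⟨g, hg⟩ := hπs x
        exact ⟨Quotient.mk _ g, hg⟩
    haveI : Fintype X := Fintype.ofFinite X
    have hXd : (r - 1) ^ 2 = 2 ^ Module.finrank (ZMod 2) X := by
      rw [← hX, Nat.card_eq_fintype_card, Module.card_eq_pow_finrank (K := ZMod 2), ZMod.card]
    obtain ⟨m, -, hm⟩ := (Nat.dvd_prime_pow Nat.prime_two).mp (Dvd.intro _ ((sq (r - 1)).symm.trans hXd))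
    have hrm : r = 2 ^ m + 1 := by have := hr.two_le; omega
    have hdim : Module.finrank (ZMod 2) X = 2 * m := by
      rw [hm, ← pow_mul] at hXd
      rw [← Nat.pow_right_injective le_rfl hXd, mul_comm]
    have hSp : ∀ (n : ℕ) g, (fS ^ n) (π g) = π (σ^[n] g) := by
      intro n
      induction n with
      | zero => intro g; simp
      | succ n ih => intro g; rw [pow_succ', Module.End.mul_apply, ih, hfS, Function.iterate_succ_apply']
    have hSr : fS ^ r = 1 := LinearMap.ext fun x => by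
      obtain ⟨g, rfl⟩ := hπs x
      rw [hSp, Module.End.one_apply]
      have h1 : g⁻¹ * σ^[r] g ∈ Rd := (hscal _).mp ⟨1, by
        rw [one_smul]
        refine LinearMap.ext fun u => Subtype.ext ?_
        rw [res_apply, map_mul, rho_iterate_r hactE.rel hactE.pow, rho_cancel']
        rfl⟩
      rw [show σ^[r] g = g * (g⁻¹ * σ^[r] g) from (mul_inv_cancel_left _ _).symm, hπm, (hπ0 _).mpr h1, add_zero]
    have hfpf : ∀ x, fS x = x → x = 0 := fun x hx => by
      obtain ⟨g, rfl⟩ := hπs x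
      rw [hfS] at hx
      refine (hπ0 g).mpr ((hscal g).mp ((QuotientGroup.eq_one_iff g).mp (hactU.bar_fpf hn ?_)))
      rw [hactU.bar_mk]
      refine (QuotientGroup.eq.mpr ((hscal _).mpr ((hπ0 _).mp ?_))).symm
      have h1 : π (g⁻¹ * σ g) + π g = π (σ g) := by rw [add_comm, ← hπm, mul_inv_cancel_left]
      rw [hx] at h1
      exact add_eq_right.mp h1
    have hflip : ∀ y, (∀ x, β x y = 0) → y = 0 := fun y hy => by
      obtain ⟨k, rfl⟩ := hπs y
      refine (hπ0 k).mpr fun g => ?_
      have h1 := (hβ g k).mp (hy (π g))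
      have h2 := hP.swap g k
      rwa [h1, mul_one] at h2
    have htriv : ∀ l g, π (φL l g) = π g := by
      intro l g
      have hpw : ∀ (n : ℕ) g, (fL l ^ n) (π g) = π ((φL l ^ n) g) := by
        intro n
        induction n with
        | zero => intro g; simp
        | succ n ih => intro g; rw [pow_succ', Module.End.mul_apply, ih, hfL, pow_succ', MulAut.mul_apply]
      obtain ⟨e, he⟩ := hL.isP l
      have h1 := exclude_easy hrm hr hdim fS hSr hfpf β hflip hfSβ (fL l) (hfLβ l)
        (LinearMap.ext fun x => by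
          obtain ⟨g, rfl⟩ := hπs x
          rw [Module.End.mul_apply, Module.End.mul_apply, hfS, hfL, hfL, hfS, hL.sig])
        hL.prime hL.ne (e := e) (LinearMap.ext fun x => by
          obtain ⟨g, rfl⟩ := hπs x
          rw [hpw, ← map_pow, he, map_one]
          rfl)
      rw [← hfL, h1, Module.End.one_apply]
    refine hnt (top_le_iff.mp ?_)
    rw [← hgenR, Subgroup.closure_le]
    rintro z (⟨l, g, rfl⟩ | hz)
    · refine (hscal _).mpr ((hπ0 _).mp ?_)
      have h1 : π (g⁻¹ * φL l g) + π g = π (φL l g) := by rw [add_comm, ← hπm, mul_inv_cancel_left]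
      rw [htriv] at h1
      exact add_eq_right.mp h1
    · refine ⟨1, LinearMap.ext fun u => Subtype.ext ?_⟩
      rw [res_apply, show ρE z = 1 by change bcH E (ρ z) = 1; rw [show ρ z = 1 from hz, map_one]]
      simp
  -- a fixed vector
  obtain ⟨f, hfU, hSf, hf0'⟩ : ∃ f ∈ U, SE f = f ∧ f ≠ 0 := by
    by_contra hno
    push Not at hno
    exact one_ne_zero (hn.full hR htE hrE hactU hnt hexc 1 (fun g => Commute.one_left _) (Commute.one_left _)
      (fun u hu => Subtype.ext (by
        simpa using hno (u : E ⊗[F] M) u.2 (congrArg Subtype.val hu))))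
  have hkill : ∀ (p e : ℕ) (x : Module.End F M) (φ : MulAut R), p.Prime → p ≠ r → p ≠ 2 → (p = t → r ≠ 2) →
      (∀ g, x * ρ g = ρ (φ g) * x) → (∀ g, φ (σ g) = σ (φ g)) → Commute x S → (∀ y ∈ Y, φ y ∈ Y) →
      (∀ v, S v = v → x v = v) → (∀ y ∈ Y, χ (φ y) = χ y) → x ^ p ^ e = 1 →
      ∀ g, ∀ v ∈ U, bcH E x (ρE g v) = ρE g (bcH E x v) := by
    intro p e x φ hp hpr hp2 hpt hx hsig hxS hY' hfixx hχx hxp g v hv
    have hrel : ∀ g, bcH E x * ρE g = ρE (φ g) * bcH E x := fun g => by
      change bcH E x * bcH E (ρ g) = bcH E (ρ (φ g)) * bcH E x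
      rw [← map_mul, ← map_mul, hx]
    have hxU : ∀ v ∈ U, bcH E x v ∈ U := hUx _ φ hrel hsig hY' hχx
    have h1 := hn.no_odd hR htE hrE hactU hexc hp (by have := hp.two_le; omega) hpr hpt e
      ((bcH E x).restrict hxU) φ
      (fun g => LinearMap.ext fun u => Subtype.ext (LinearMap.congr_fun (hrel g) (u : E ⊗[F] M)))
      (LinearMap.ext fun u => Subtype.ext (LinearMap.congr_fun (hxS.map (bcH E)).eq (u : E ⊗[F] M)))
      (fun u hu => Subtype.ext (hfixE x hfixx u (congrArg Subtype.val hu)))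
      (by
        rw [Module.End.pow_restrict (p ^ e)]
        refine LinearMap.ext fun u => Subtype.ext ?_
        rw [LinearMap.coe_restrict_apply, ← map_pow, hxp, map_one]
        rfl) g
    exact congrArg Subtype.val (LinearMap.congr_fun h1.eq ⟨v, hv⟩)
  by_cases hp2 : pL = 2
  · have hQodd : pQ ≠ 2 := fun h => hLQ (hp2.trans h.symm)
    have hQχ : ∀ y, ∀ z ∈ Y, χ (φQ y z) = χ z := by
      intro y z hz
      rcases hQalt hp2 with hpush | ⟨-, -, hdec, hcent, -⟩
      · have hxf := hfixE (χQ y) (hfixQ hpush y) f hSf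
        refine smul_left_injective E hf0' ?_
        change χ (φQ y z) • f = χ z • f
        have h1 := (hU f).mp hfU |>.1
        rw [← (hUχ f).mp h1 _ (hQ.hY y z hz), ← (hUχ f).mp h1 z hz]
        conv_lhs => rw [← hxf]
        rw [← Module.End.mul_apply, ← hQE, Module.End.mul_apply, (hUχ f).mp h1 z hz, map_smul, hxf]
      · obtain ⟨c, hcY', hσc, hca⟩ := hdec z hz
        set a := c⁻¹ * z with ha
        have haY : a ∈ Y := Y.mul_mem (Y.inv_mem hcY') hz
        have hρa : ρ (φQ y a) = 1 := by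
          have h1 := hQ.rel y a
          rw [hA1 a hca, mul_one] at h1
          calc ρ (φQ y a) = ρ (φQ y a) * (χQ y * χQ y⁻¹) := by rw [← map_mul χQ, mul_inv_cancel, map_one, mul_one]
            _ = 1 := by rw [← mul_assoc, ← h1, ← map_mul χQ, mul_inv_cancel, map_one]
        have hchi : ∀ b ∈ Y, ρ b = 1 → χ b = 1 := fun b hb h1 => huniq b hb 1 (by
          change bcH E (ρ b) v₀ = (1 : E) • v₀
          rw [h1, map_one, one_smul]
          rfl)
        set w := φQ y c * c⁻¹ with hw
        have hwY : w ∈ Y := Y.mul_mem (hQ.hY y c hcY') (Y.inv_mem hcY')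
        have hσw : σ w = w := by rw [hw, map_mul, map_inv, ← hQ.sig, hσc]
        have hwfix : ∀ v, S v = v → ρ w v = v := fun v hv => sub_eq_zero.mp (hB0 _ (by
          rw [map_sub, hv, ← Module.End.mul_apply S, hact.rel, hσw, Module.End.mul_apply, hv])
          (hcent y c hcY' hσc v hv))
        have hχw : χ w = 1 := by
          refine smul_left_injective E hf0' ?_
          change χ w • f = (1 : E) • f
          rw [one_smul, ← (hUχ f).mp ((hU f).mp hfU).1 w hwY]
          exact hfixE (ρ w) hwfix f hSf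
        have hχc : χ (φQ y c) = χ c := by
          rw [show φQ y c = w * c by rw [hw, inv_mul_cancel_right], hP.mul w hwY c hcY', hχw, one_mul]
        rw [show z = c * a from (mul_inv_cancel_left _ _).symm, map_mul, hP.mul _ (hQ.hY y c hcY') _ (hQ.hY y a haY),
          hP.mul c hcY' a haY, hχc, hchi a haY (hA1 a hca), hchi _ (hQ.hY y a haY) hρa]
    have hUQ : ∀ y, ∀ v ∈ U, bcH E (χQ y) v ∈ U := fun y => hUx _ (φQ y) (hQE y) (hQ.sig y) (hQ.hY y) (hQχ y)
    rcases hQalt hp2 with hpush | ⟨h2F, ht2, -, -, hψex⟩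
    rotate_left
    · -- operators through a cyclic group
      have h2E : (2 : E) ≠ 0 := by
        have h1 : algebraMap F E (2 : F) ≠ 0 := (map_ne_zero _).mpr h2F
        rwa [map_ofNat] at h1
      have hr2' : r ≠ 2 := fun h => hr2 h hp2
      obtain ⟨eQ, heQ⟩ := IsPGroup.iff_card.mp hQ.isP
      let χU : L →* Module.End E U :=
        { toFun := fun l => (bcH E (χL l)).restrict (hUL l)
          map_one' := LinearMap.ext fun u => Subtype.ext (by
            rw [LinearMap.coe_restrict_apply, map_one, map_one]; rfl)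
          map_mul' := fun a b => LinearMap.ext fun u => Subtype.ext (by
            rw [LinearMap.coe_restrict_apply, map_mul, map_mul]; rfl) }
      have hcU : ∀ l g, Commute (χU l) (τ g) ↔
          ∀ v ∈ U, bcH E (χL l) (ρE g v) = ρE g (bcH E (χL l) v) := fun l g =>
        ⟨fun h v hv => congrArg Subtype.val (LinearMap.congr_fun h.eq ⟨v, hv⟩),
          fun h => LinearMap.ext fun u => Subtype.ext (h u u.2)⟩
      have hψcomm : ∀ y l g, ∀ ψ : L →* L, (∀ l, χL (ψ l) = χQ y * χL l * χQ y⁻¹) →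
          (∀ l, ψ^[Nat.card Q] l = l) → Commute (χU (l⁻¹ * ψ l)) (τ g) := by
        intro y l g ψ hψ hψn
        refine hn.no_even hR htE hrE hactU ht2 h2E hr2' (hp2 ▸ hL.isP) χU (fun l g => φL l g)
          (fun l g => LinearMap.ext fun u => Subtype.ext (LinearMap.congr_fun (hLE l g) (u : E ⊗[F] M)))
          (fun l => LinearMap.ext fun u => Subtype.ext
            (LinearMap.congr_fun ((hL.comm l).map (bcH E)).eq (u : E ⊗[F] M)))
          (fun l u hu => Subtype.ext (hfixE (χL l) (hfixL l) u (congrArg Subtype.val hu)))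
          hQ.prime hQodd ψ (e := eQ) (fun l => heQ ▸ hψn l) (fun l hl g => (hcU _ g).mpr fun v hv => ?_) l g
        have e1 : bcH E (χL (ψ l)) = bcH E (χQ y) * bcH E (χL l) * bcH E (χQ y⁻¹) := by
          rw [hψ, map_mul, map_mul]
        rw [e1]
        simp only [Module.End.mul_apply]
        rw [← Module.End.mul_apply (bcH E (χQ y⁻¹)), hQE, Module.End.mul_apply,
          (hcU l _).mp (hl _) _ (hUQ y⁻¹ v hv), ← Module.End.mul_apply (bcH E (χQ y)), hQE, Module.End.mul_apply,
          ← MulAut.mul_apply, ← map_mul, mul_inv_cancel, map_one, MulAut.one_apply]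
      let KL : Subgroup L :=
        { carrier := {l | ∀ g, Commute (χU l) (τ g)}
          one_mem' := fun g => by rw [map_one]; exact Commute.one_left _
          mul_mem' := fun {a b} ha hb g => by rw [map_mul]; exact (ha g).mul_left (hb g)
          inv_mem' := fun {a} ha g => by
            calc χU a⁻¹ * τ g = χU a⁻¹ * (τ g * χU a) * χU a⁻¹ := by
                  rw [mul_assoc, mul_assoc (τ g), ← map_mul, mul_inv_cancel, map_one, mul_one]
              _ = τ g * χU a⁻¹ := by
                  rw [← (ha g).eq, ← mul_assoc (χU a⁻¹), ← map_mul, inv_mul_cancel, map_one, one_mul] }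
      have hKL : (⊤ : Subgroup L) ≤ KL := by
        rw [← hgenL, Subgroup.closure_le]
        rintro z (⟨l, y, hz⟩ | hz) g
        · obtain ⟨ψ, hψ, hψn⟩ := hψex y
          have h1 : (ψ l * l⁻¹)⁻¹ ∈ KL := fun g' => by
            have h5 := hψcomm y l⁻¹ g' ψ hψ hψn
            rw [inv_inv, map_inv ψ] at h5
            rw [mul_inv_rev, inv_inv]
            exact h5
          have h3 : ∀ g', Commute (χU (ψ l * l⁻¹)) (τ g') := inv_mem_iff.mp h1
          refine (hcU z g).mpr fun v hv => ?_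
          have h4 := (hcU _ g).mp (h3 g) v hv
          rwa [map_mul χL, hψ, ← hz] at h4
        · refine (hcU z g).mpr fun v hv => ?_
          rw [← Module.End.mul_apply, hLE, Module.End.mul_apply]
          change bcH E (ρ (φL z g)) _ = bcH E (ρ g) _
          rw [hz g]
      exact hkillR U hUne hUρ (fun l g => (hcU l g).mp (hKL (Subgroup.mem_top l) g)) hLsurj
    have hQcomm : ∀ y g, ∀ v ∈ U, bcH E (χQ y) (ρE g v) = ρE g (bcH E (χQ y) v) := fun y => by
      obtain ⟨e, he⟩ := hQ.isP y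
      exact hkill pQ e (χQ y) (φQ y) hQ.prime hQ.ne hQodd (fun _ h2 => hr2 h2 hp2) (hQ.rel y) (hQ.sig y) (hQ.comm y)
        (hQ.hY y) (hfixQ hpush y) (hQχ y) (by rw [← map_pow, he, map_one])
    -- the elements centralising the operators on the part
    let c : L → R → E ⊗[F] M → E ⊗[F] M := fun l g v => ρE (φL l g) v
    let KL : Subgroup L :=
      { carrier := {l | ∀ g, ∀ v ∈ U, ρE (φL l g) v = ρE g v}
        one_mem' := fun g v _ => by simp
        mul_mem' := fun {a b} ha hb g v hv => by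
          rw [map_mul, MulAut.mul_apply, ha _ v hv, hb g v hv]
        inv_mem' := fun {a} ha g v hv => by
          have h1 := ha (φL a⁻¹ g) v hv
          rw [← MulAut.mul_apply, ← map_mul, mul_inv_cancel, map_one] at h1
          exact h1.symm }
    have hKL : (⊤ : Subgroup L) ≤ KL := by
      rw [← hgenL, Subgroup.closure_le]
      rintro z (⟨l, y, hz⟩ | hz) g v hv
      · -- a commutator with an element that centralises
        obtain ⟨v', hv', rfl⟩ := hLsurj z v hv
        rw [← Module.End.mul_apply, ← hLE, Module.End.mul_apply]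
        have hzE : bcH E (χL z) = bcH E (χQ y) * bcH E (χL l) * bcH E (χQ y⁻¹) * bcH E (χL l⁻¹) := by
          rw [hz, map_mul, map_mul, map_mul]
        have hlinv : ∀ g, ∀ w ∈ U, bcH E (χL l⁻¹) (ρE g w) = ρE (φL l⁻¹ g) (bcH E (χL l⁻¹) w) := fun g w _ =>
          LinearMap.congr_fun (hLE l⁻¹ g) w
        have hl : ∀ g, ∀ w, bcH E (χL l) (ρE g w) = ρE (φL l g) (bcH E (χL l) w) := fun g w =>
          LinearMap.congr_fun (hLE l g) w
        simp only [hzE, Module.End.mul_apply]
        rw [hlinv g v' hv', hQcomm y⁻¹ _ _ (hUL l⁻¹ v' hv'), hl, ← MulAut.mul_apply, ← map_mul, mul_inv_cancel,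
          map_one, MulAut.one_apply, hQcomm y g _ (hUL l _ (hUQ y⁻¹ _ (hUL l⁻¹ v' hv')))]
      · change bcH E (ρ (φL z g)) v = bcH E (ρ g) v
        rw [hz g]
    exact hkillR U hUne hUρ (fun l g v hv => by
      rw [← Module.End.mul_apply, hLE, Module.End.mul_apply,
        hKL (Subgroup.mem_top l) g _ (hUL l v hv)]) hLsurj
  · refine hkillR U hUne hUρ (fun l => ?_) hLsurj
    obtain ⟨e, he⟩ := hL.isP l
    exact hkill pL e (χL l) (φL l) hL.prime hL.ne hp2 (fun h => absurd h hLt) (hL.rel l) (hL.sig l) (hL.comm l)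
      (hL.hY l) (hfixL l) (hφY l) (by rw [← map_pow, he, map_one])

end Cfsg.Agent.Turull
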