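import Cfsg.Agent.Turull.Prop
import Cfsg.Agent.Turull.Junction

/-!
A long tower gives a long series in the fixed points.
-/

set_option autoImplicit false
set_option maxHeartbeats 1000000

open Subgroup
open scoped commutatorElement

namespace Cfsg.Agent.Turull

open CoprimeFitting (ser nres)

universe u

variable {Γ : Type u} [Group Γ] [Finite Γ]

/-- Commutators with an element of a term lie in the next term, if the orders are coprime. -/
theorem commutator_le_ser {C Q : Subgroup Γ} {x : Γ} {j : ℕ} (hQC : Q ≤ C) (hx : x ∈ ser C j)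
    (hn : x ∈ normalizer (Q : Set Γ)) (hcop : (Nat.card (zpowers x)).Coprime (Nat.card Q)) :
    ⁅Q, zpowers x⁆ ≤ ser C (j + 1) := by
  have hnQ := mem_normalizer_iff_le.mp hn
  have hxT : zpowers x ≤ ser C j := zpowers_le.mpr hx
  have hQT : Q ≤ normalizer (ser C j : Set Γ) :=
    hQC.trans (CoprimeFitting.le_normalizer_ser Subgroup.le_normalizer j)
  set Q0 := ⁅Q, zpowers x⁆
  have hidem : ⁅Q0, zpowers x⁆ = Q0 :=
    Coprime.commutator_commutator_eq hnQ hcop (Or.inl (Tw.solvable_zpowers x))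
  have h0 : Q0 ≤ ser C j := by
    refine (commutator_mono le_rfl hxT).trans ?_
    rw [commutator_comm]
    exact Coprime.commutator_le_of_le_normalizer hQT
  refine le_iInf fun i => ?_
  induction i with
  | zero => exact h0
  | succ i ih =>
    rw [Subgroup.lowerCentralSeries_succ]
    exact hidem.ge.trans (commutator_mono ih hxT)

variable {s : Γ} {r : ℕ} {G₀ : Subgroup Γ} {m : ℕ} {P D Y : ℕ → Subgroup Γ} {q : ℕ → ℕ} {k : ℕ}

theorem Tw.fixC_le_fixed (w : Tw s r G₀ m P D Y q k) {i : ℕ} (hi : i ≤ m) :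
    fixC s P i ≤ G₀ ⊓ centralizer {s} := inf_le_inf_right _ (w.sub i hi)

theorem Tw.normalizer_fixC (w : Tw s r G₀ m P D Y q k) {i j : ℕ} (hi : i ≤ m) (hj : j < i) {x : Γ}
    (hx : x ∈ P j) (hxs : x ∈ centralizer {s}) : x ∈ normalizer (fixC s P i : Set Γ) :=
  Subgroup.inf_normalizer_le_normalizer_inf ⟨(w.lay.invP i hi).2 j hj hx, Subgroup.le_normalizer hxs⟩

/-- The layers below the first moved one go deep into the series of the fixed points. -/
theorem Tw.le_ser (w : Tw s r G₀ m P D Y q k) :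
    ∀ j ≤ m, j < k → P j ≤ ser (G₀ ⊓ centralizer {s}) j := by
  intro j
  induction j with
  | zero => exact fun h0 hk => le_inf (w.sub 0 h0) (w.below 0 h0 hk)
  | succ j ih =>
    intro hj hjk
    have ih' := ih (by omega) (by omega)
    refine (w.lay.gen j hj).ge.trans (commutator_le.mpr fun y hy x hx => ?_)
    refine commutator_le_ser (Q := P (j + 1)) (le_inf (w.sub _ hj) (w.below _ hj hjk)) (ih' hx)
      ((w.lay.invP (j + 1) hj).2 j (by omega) hx)
      (w.coprime_le (i := j) (by omega) hj (w.lay.ne j hj) (zpowers_le.mpr hx) le_rfl) ?_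
    exact commutator_mem_commutator hy (mem_zpowers x)

/-- The junction in a tower. -/
theorem Tw.exists_junction (w : Tw s r G₀ m P D Y q k) {a : ℕ} (hk : k = a + 2) (hm : k < m) :
    ∃ z ∈ fixC s P (k + 1), z ∈ ser (G₀ ⊓ centralizer {s}) (a + 1) ∧ ¬ Good s m P Y (k + 1) z := by
  classical
  by_contra hno
  push Not at hno
  subst hk
  set Cg := G₀ ⊓ centralizer {s} with hCg
  have hCn : Cg ≤ normalizer (ser Cg (a + 1) : Set Γ) := CoprimeFitting.le_normalizer_ser Subgroup.le_normalizer _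
  have hbs : P (a + 1) ≤ centralizer {s} := w.below (a + 1) (by omega) (by omega)
  have has : P a ≤ centralizer {s} := w.below a (by omega) (by omega)
  have hserb := w.le_ser (a + 1) (by omega) (by omega)
  have hsera := w.le_ser a (by omega) (by omega)
  have hclose : ∀ {i j : ℕ}, i ≤ m → j < i → ∀ {x c : Γ}, x ∈ P j → x ∈ centralizer {s} → c ∈ fixC s P i →
      ⁅x, c⁆ ∈ fixC s P i := fun {i j} hi hj {x c} hx hxs hc => by
    rw [commutatorElement_def]
    exact mul_mem ((Subgroup.mem_normalizer_iff.mp (w.normalizer_fixC hi hj hx hxs) c).mp hc) (inv_mem hc)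
  have hserN : ∀ {z y : Γ}, z ∈ ser Cg (a + 1) → y ∈ Cg → ⁅z, y⁆ ∈ ser Cg (a + 1) := fun {z y} hz hy => by
    have e : ⁅z, y⁆ = z * (y * z⁻¹ * y⁻¹) := by rw [commutatorElement_def]; group
    rw [e]
    exact mul_mem hz ((Subgroup.mem_normalizer_iff.mp (hCn hy) _).mp (inv_mem hz))
  -- the lower of the two layers
  have hA : ∀ x ∈ P (a + 1), ∀ y ∈ fixC s P (a + 2 + 1), Good s m P Y (a + 2 + 1) ⁅x, y⁆ := fun x hx y hy =>
    hno _ (hclose hm (by omega) hx (hbs hx) hy) (hserN (hserb hx) (w.fixC_le_fixed hm hy))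
  have hstep : ∀ {i : ℕ}, i ≤ m → a < i → q a ≠ q i → ∀ x ∈ P a, ∀ c ∈ fixC s P i, ⁅x, c⁆ ∈ ser Cg (a + 1) :=
    fun {i} hi hai hne x hx c hc => by
      rw [← commutatorElement_inv]
      refine inv_mem (commutator_le_ser (w.fixC_le_fixed hi) (hsera hx) (w.normalizer_fixC hi hai hx (has hx))
        (w.coprime_le (by omega) hi hne (zpowers_le.mpr hx) inf_le_left) ?_)
      exact commutator_mem_commutator hc (mem_zpowers x)
  have hB : q a ≠ q (a + 2 + 1) → ∀ x ∈ P a, ∀ y ∈ fixC s P (a + 2 + 1), Good s m P Y (a + 2 + 1) ⁅x, y⁆ :=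
    fun hne x hx y hy => hno _ (hclose hm (by omega) hx (has hx) hy) (hstep hm (by omega) hne x hx y hy)
  have hC : q a = q (a + 2 + 1) → ∀ x ∈ P a, ∀ c ∈ fixC s P (a + 2), ∀ y ∈ fixC s P (a + 2 + 1),
      Good s m P Y (a + 2 + 1) ⁅⁅x, c⁆, y⁆ := fun he x hx c hc y hy => by
    have h1 : ⁅x, c⁆ ∈ fixC s P (a + 2) := hclose hm.le (by omega) hx (has hx) hc
    refine hno _ (hclose hm (by omega) h1.1 h1.2 hy)
      (hserN (hstep hm.le (by omega) (fun h => w.lay.ne (a + 2) hm (h.symm.trans he)) x hx c hc)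
        (w.fixC_le_fixed hm hy))
  -- the modules
  haveI := w.fact (i := a + 2 + 1) hm
  haveI := w.fact (i := a + 2) hm.le
  obtain ⟨M, _, _, _, ⟨ξ⟩⟩ := exists_secRep (w.lay.normY (a + 2 + 1) hm) (w.lay.comm (a + 2 + 1) hm)
    (w.lay.pow (a + 2 + 1) hm)
  haveI : Nontrivial M := by
    obtain ⟨y, hy, hyY⟩ := SetLike.not_le_iff_exists.mp (w.lay.le (a + 2 + 1) hm).2.2
    exact nontrivial_of_ne (ξ.π ⟨y, hy⟩) 0 fun h => hyY ((ξ.ker _).mp h)
  obtain ⟨𝒦, hcl, hinter, hmov⟩ := w.exists_family hm ξ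
  have hrq : (r : ZMod (q (a + 2 + 1))) ≠ 0 := by
    rw [Ne, ZMod.natCast_eq_zero_iff]
    exact fun hd => w.q_ne_r hm ((Nat.prime_dvd_prime_iff_eq (w.lay.prime _ hm) w.ctx.prime).mp hd)
  have hsP : s ∈ normalizer (P (a + 2) : Set Γ) := (w.lay.invP _ hm.le).1
  set σ := conjOn (P (a + 2)) hsP with hσ
  have htop : movedSub σ ⊤ = ⊤ := by
    apply Subgroup.map_injective (P (a + 2)).subtype_injective
    rw [w.movedSub_top_map hm.le, w.commutator_eq hm.le, ← MonoidHom.range_eq_map, Subgroup.range_subtype]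
  let φ : ∀ j, j < a + 2 → P j →* MulAut (P (a + 2)) := fun j hj =>
    MonoidHom.mk' (fun l => conjOn (P (a + 2)) ((w.lay.invP _ hm.le).2 j hj l.2))
      (fun x y => MulEquiv.ext fun g => Subtype.ext (by simp [conjOn_apply, mul_assoc]))
  have hφ : ∀ j hj (l : P j) (g : P (a + 2)), ((φ j hj l g : P (a + 2)) : Γ) = l * g * (l : Γ)⁻¹ :=
    fun j hj l g => rfl
  let χ : ∀ j, j < a + 2 → P j →* Module.End (ZMod (q (a + 2 + 1))) M := fun j hj =>
    ξ.rep.comp (Subgroup.inclusion (w.le_nrm hm (by omega)))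
  have hop : ∀ j (hj : j < a + 2), Oper (w.act hm ξ) σ (ξ.rep ⟨s, w.s_mem_nrm hm⟩)
      ((Y (a + 2)).subgroupOf (P (a + 2))) r (q j) (χ j hj) (φ j hj) := fun j hj => by
    have hls : ∀ l : P j, s * (l : Γ) = l * s := fun l =>
      (mem_centralizer_singleton_iff.mp (w.below j (by omega) hj l.2)).symm
    refine ⟨w.lay.pgrp j (by omega), w.lay.prime j (by omega), w.q_ne_r (by omega), fun l g => ?_, fun l g => ?_,
      fun l => ?_, fun l y hy => ?_⟩
    · change ξ.rep _ * ξ.rep _ = ξ.rep _ * ξ.rep _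
      rw [← map_mul, ← map_mul]
      exact congrArg ξ.rep (Subtype.ext (by simp [hφ, mul_assoc]))
    · refine Subtype.ext ?_
      rw [hσ, hφ j hj, conjOn_apply, conjOn_apply, hφ j hj]
      calc (l : Γ) * (s * g * s⁻¹) * (l : Γ)⁻¹ = (l * s) * g * ((l : Γ) * s)⁻¹ := by group
        _ = s * (l * g * (l : Γ)⁻¹) * s⁻¹ := by rw [← hls l]; group
    · change ξ.rep _ * ξ.rep _ = ξ.rep _ * ξ.rep _
      rw [← map_mul, ← map_mul]
      exact congrArg ξ.rep (Subtype.ext (hls l).symm)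
    · exact (Subgroup.mem_normalizer_iff.mp ((w.lay.invY _ hm.le).2 j hj l.2) _).mp hy
  have hpush : ∀ {g : Γ} (hg : g ∈ nrm P Y (a + 2 + 1)) (hgs : g ∈ centralizer {s})
      (_ : ∀ y ∈ fixC s P (a + 2 + 1), Good s m P Y (a + 2 + 1) ⁅g, y⁆),
      ∀ v, ξ.rep ⟨s, w.s_mem_nrm hm⟩ v = v → ∀ K ∈ 𝒦,
        ¬ LinearMap.range (ξ.rep ⟨s, w.s_mem_nrm hm⟩ - 1) ≤ K → ξ.rep ⟨g, hg⟩ v - v ∈ K := by
    intro g hg hgs hgood v hv K hK hK'
    obtain ⟨c, hc, rfl⟩ := w.fixed_vec hm ξ hv
    rw [ξ.sub_eq]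
    refine hmov _ ?_ (hgood c ⟨c.2, hc⟩) K hK hK'
    change ⁅g, (c : Γ)⁆ ∈ centralizer {s}
    rw [commutatorElement_def]
    exact mul_mem (mul_mem (mul_mem hgs hc) (inv_mem hgs)) (inv_mem hc)
  have hgenR : Subgroup.closure ({z | ∃ l g, z = g⁻¹ * φ (a + 1) (by omega) l g} ∪
      {g | w.act hm ξ g = 1}) = ⊤ := by
    apply Subgroup.map_injective (P (a + 2)).subtype_injective
    rw [← MonoidHom.range_eq_map, Subgroup.range_subtype]
    refine le_antisymm (map_subtype_le _)
      ((w.lay.gen (a + 1) (by omega)).ge.trans (commutator_le.mpr fun z hz l hl => ?_))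
    refine ⟨(⟨z, hz⟩ : P (a + 2))⁻¹⁻¹ * φ (a + 1) (by omega) ⟨l, hl⟩ (⟨z, hz⟩ : P (a + 2))⁻¹,
      subset_closure (Or.inl ⟨_, _, rfl⟩), ?_⟩
    simp [hφ, commutatorElement_def, mul_assoc]
  have hgenL : Subgroup.closure ({z | ∃ l y, χ (a + 1) (by omega) z =
        χ a (by omega) y * χ (a + 1) (by omega) l * χ a (by omega) y⁻¹ * χ (a + 1) (by omega) l⁻¹} ∪
      {l | ∀ g, w.act hm ξ (φ (a + 1) (by omega) l g) = w.act hm ξ g}) = ⊤ := by
    apply Subgroup.map_injective (P (a + 1)).subtype_injective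
    rw [← MonoidHom.range_eq_map, Subgroup.range_subtype]
    refine le_antisymm (map_subtype_le _)
      ((w.lay.gen a (by omega)).ge.trans (commutator_le.mpr fun l hl y hy => ?_))
    have hc : ⁅y, l⁆ ∈ P (a + 1) := by
      rw [← commutatorElement_inv]
      exact inv_mem ((w.lay.gen a (by omega)).le (commutator_mem_commutator hl hy))
    rw [← commutatorElement_inv]
    refine inv_mem ⟨⟨_, hc⟩, subset_closure (Or.inl ⟨⟨l, hl⟩, ⟨y, hy⟩, ?_⟩), rfl⟩
    change ξ.rep _ = ξ.rep _ * ξ.rep _ * ξ.rep _ * ξ.rep _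
    rw [← map_mul, ← map_mul, ← map_mul]
    exact congrArg ξ.rep (Subtype.ext (by simp [commutatorElement_def]))
  refine junction (w.lay.pgrp _ hm.le) (w.cast_ne hm.le hm (w.lay.ne _ hm)) w.ctx.prime hrq (w.q_ne_r hm.le)
    (w.act hm ξ) σ (ξ.rep ⟨s, w.s_mem_nrm hm⟩)
    ⟨w.act_rel hm ξ, w.ctx.prime, w.s_pow hm ξ, by rw [← Set.image_univ, ← Subgroup.coe_top]; exact htop⟩
    (fun v hv => ?_) ((Y (a + 2)).subgroupOf (P (a + 2)))
    (fun y hy => (Subgroup.mem_normalizer_iff.mp (w.lay.invY _ hm.le).1 _).mp hy) (w.moved_Y_idem hm.le)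
    (fun g l => w.lay.comm _ hm.le (commutator_mem_commutator g.2 l.2))
    (fun y hy g => w.act_cent hm ξ hy g) (fun g => w.lay.pow _ hm.le g g.2)
    (fun g hg => w.fpf hm.le g.2 hg) 𝒦 (fun K hK g => hcl K hK (a + 2) le_rfl g g.2) hinter
    (χ (a + 1) (by omega)) (φ (a + 1) (by omega)) ⟨hop (a + 1) (by omega), fun l v hv K hK hK' => ?_⟩
    (χ a (by omega)) (φ a (by omega)) (hop a (by omega)) (Ne.symm (w.lay.ne a (by omega)))
    (w.lay.ne (a + 1) (by omega)) (fun h2 h3 => w.q_ne_r (i := a + 1) (by omega) (h3.trans h2.symm))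
    (fun l y hy => ?_) hgenR hgenL (fun h2 => ?_)
  · obtain ⟨y, rfl⟩ := ξ.surj v
    refine (ξ.ker y).mpr (w.lay.fixY (a + 2) hm y y.2 fun g hg => ?_)
    rw [← commutatorElement_inv]
    exact inv_mem ((ξ.fix_iff _ y).mp (hv ⟨g, hg⟩))
  · exact hpush _ (hbs l.2) (hA l l.2) v hv K hK hK'
  · have hd : ⁅((l : P (a + 1)) : Γ), ((y : P (a + 2)) : Γ)⁆ ∈ D (a + 2) := by
      rw [← commutatorElement_inv]
      exact inv_mem (w.lay.actY (a + 1) (by omega) (commutator_mem_commutator hy l.2))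
    have hdP := (w.lay.le _ hm.le).2.1 ((w.lay.le _ hm.le).1 hd)
    rw [show φ (a + 1) (by omega) l y = ⟨_, hdP⟩ * y from
      Subtype.ext (by simp [hφ, commutatorElement_def, mul_assoc]), map_mul, w.act_D hm ξ ⟨_, hdP⟩ hd, one_mul]
  · by_cases he : q a = q (a + 2 + 1)
    · refine Or.inr ⟨?_, ?_, fun z hz => ?_, fun y z hz hσz v hv K hK hK' => ?_, fun y => ?_⟩
      · have := w.cast_ne (i := a + 1) (by omega) hm (fun h => w.lay.ne a (by omega) (he.trans h.symm))
        rwa [h2, Nat.cast_ofNat] at this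
      · exact fun h => w.lay.ne (a + 1) (by omega) (h2.trans h.symm)
      · have hYP := (w.lay.le (a + 2) hm.le).2.1
        have hsY : zpowers s ≤ normalizer (Y (a + 2) : Set Γ) := le_zpowers_normalizer (w.lay.invY _ hm.le).1
        have h1 := (Coprime.commutator_sup_centralizer hsY (w.coprime_s hm.le hYP)
          (Or.inl (Tw.solvable_zpowers s))).ge hz
        have hCn' : Y (a + 2) ⊓ centralizer (zpowers s : Set Γ) ≤
            normalizer ((⁅Y (a + 2), zpowers s⁆ : Subgroup Γ) : Set Γ) :=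
          inf_le_left.trans (le_sup_left.trans Coprime.le_normalizer_commutator)
        obtain ⟨a₁, ha₁, c, hc, hac⟩ := (Coprime.mem_sup_of_le_normalizer hCn').mp h1
        refine ⟨⟨c, hYP hc.1⟩, hc.1, ?_, ?_⟩
        · refine Subtype.ext ?_
          rw [conjOn_apply]
          change s * c * s⁻¹ = c
          rw [← (mem_centralizer_singleton_iff.mp (mem_centralizer_zpowers_iff.mp hc.2)), mul_inv_cancel_right]
        · have h3 : c⁻¹ * a₁ * c ∈ ⁅Y (a + 2), zpowers s⁆ :=
            (Subgroup.mem_normalizer_iff''.mp (hCn' hc) a₁).mp ha₁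
          have hY' : ((Y (a + 2)).subgroupOf (P (a + 2))).map (P (a + 2)).subtype = Y (a + 2) :=
            map_subgroupOf_eq_of_le hYP
          refine (Subgroup.mem_map_iff_mem (P (a + 2)).subtype_injective).mp ?_
          rw [map_movedSub hsP _ (by rw [hY']; exact (w.lay.invY _ hm.le).1), hY']
          change c⁻¹ * (z : Γ) ∈ _
          have hac' : a₁ * c = (z : Γ) := hac
          rw [← hac', ← mul_assoc]
          exact h3
      · have hzs : (z : Γ) ∈ centralizer {s} := by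
          have h1 := congrArg Subtype.val hσz
          rw [conjOn_apply] at h1
          rw [mem_centralizer_singleton_iff]
          conv_lhs => rw [← h1]
          group
        have e : φ a (by omega) y z * z⁻¹ = (⟨⁅(y : Γ), (z : Γ)⁆, (hclose hm.le (by omega) y.2 (has y.2)
            ⟨z.2, hzs⟩).1⟩ : P (a + 2)) := Subtype.ext (by simp [hφ, commutatorElement_def])
        rw [e]
        exact hpush _ (hclose hm.le (by omega) y.2 (has y.2) ⟨z.2, hzs⟩).2
          (hC he y y.2 z ⟨z.2, hzs⟩) v hv K hK hK'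
      · refine ⟨(conjOn (P (a + 1)) ((w.lay.invP (a + 1) (by omega)).2 a (by omega) y.2)).toMonoidHom,
          fun l => ?_, fun l => Subtype.ext ?_⟩
        · change ξ.rep _ = ξ.rep _ * ξ.rep _ * ξ.rep _
          rw [← map_mul, ← map_mul]
          exact congrArg ξ.rep (Subtype.ext (by simp [conjOn_apply]))
        · rw [show ⇑(conjOn (P (a + 1)) ((w.lay.invP (a + 1) (by omega)).2 a (by omega) y.2)).toMonoidHom =
            ⇑(conjOn (P (a + 1)) ((w.lay.invP (a + 1) (by omega)).2 a (by omega) y.2)) from rfl, conjOn_iterate,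
            show ((y : P a) : Γ) ^ Nat.card (P a) = 1 from congrArg Subtype.val (pow_card_eq_one' (x := y))]
          simp
    · exact Or.inl fun y v hv K hK hK' => hpush _ (has y.2) (hB he y y.2) v hv K hK hK'

/-- Bad fixed elements move up the tower and the series. -/
theorem Tw.climb (w : Tw s r G₀ m P D Y q k) {i e : ℕ} (hi1 : 1 ≤ i) (him : i ≤ m) {x : Γ}
    (hx : x ∈ fixC s P i) (hxe : x ∈ ser (G₀ ⊓ centralizer {s}) e) (hbad : ¬ Good s m P Y i x) :
    ser (G₀ ⊓ centralizer {s}) (e + (m - i)) ≠ ⊥ := by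
  induction hd : m - i generalizing i e x with
  | zero =>
    intro h
    rw [Nat.add_zero] at h
    rw [Good, if_neg (by omega)] at hbad
    have h1 : x = 1 := by rw [h] at hxe; exact hxe
    exact hbad (h1 ▸ one_mem _)
  | succ d ih =>
    have hi : i < m := by omega
    obtain ⟨y, hy, hbad'⟩ : ∃ y ∈ fixC s P (i + 1), ¬ Good s m P Y (i + 1) ⁅x, y⁆ := by
      by_contra hall
      push Not at hall
      exact hbad (w.propagate hi1 hi hx hall)
    have hn := w.normalizer_fixC hi (Nat.lt_succ_self i) hx.1 hx.2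
    have h1 : ⁅x, y⁆ ∈ fixC s P (i + 1) := by
      rw [commutatorElement_def]
      exact mul_mem ((Subgroup.mem_normalizer_iff.mp hn y).mp hy) (inv_mem hy)
    have h2 : ⁅x, y⁆ ∈ ser (G₀ ⊓ centralizer {s}) (e + 1) := by
      rw [← commutatorElement_inv]
      exact inv_mem (commutator_le_ser (w.fixC_le_fixed hi) hxe hn
        (w.coprime_le hi.le hi (w.lay.ne i hi) (zpowers_le.mpr hx.1) inf_le_left)
        (commutator_mem_commutator hy (mem_zpowers x)))
    have h3 := ih (i := i + 1) (e := e + 1) (by omega) (by omega) h1 h2 hbad' (by omega)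
    rwa [show e + (d + 1) = e + 1 + d by omega]

/-- A tower of length `n + 3` gives a series of length `n + 1` in the fixed points. -/
theorem Tw.ser_ne_bot (w : Tw s r G₀ m P D Y q k) {n : ℕ} (hm : m = n + 2) :
    ser (G₀ ⊓ centralizer {s}) n ≠ ⊥ := by
  by_cases hk : n < k
  · exact fun h => w.ne_bot (by omega) (le_bot_iff.mp ((w.le_ser n (by omega) hk).trans h.le))
  by_cases hk1 : k ≤ 1
  · obtain ⟨x, hx, hbad⟩ := w.exists_bad (j := 1) le_rfl (by omega) (w.moved_first (by omega) hk1)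
    have h := w.climb (i := 2) (e := 0) (by omega) (by omega) hx (w.fixC_le_fixed (i := 2) (by omega) hx) hbad
    rwa [show 0 + (m - 2) = n by omega] at h
  · obtain ⟨z, hz, hze, hbad⟩ := w.exists_junction (a := k - 2) (by omega) (by omega)
    have h := w.climb (i := k + 1) (e := k - 2 + 1) (by omega) (by omega) hz hze hbad
    rwa [show k - 2 + 1 + (m - (k + 1)) = n by omega] at h

end Cfsg.Agent.Turull
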