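import Cfsg.Agent.Turull.Orbit

/-!
An operator commuting with a group of class two and with an operator of prime order normalising it
vanishes if it kills the fixed points, unless an exceptional component occurs.
-/

set_option autoImplicit false
set_option maxHeartbeats 1000000

namespace Cfsg.Agent.Turull

open Module
open scoped commutatorElement

variable {E : Type*} [Field E] {W : Type*} [AddCommGroup W] [Module E W] {N : Type*} [Group N]
variable {ρ : N →* Module.End E W} {σ : N ≃* N} {S T : Module.End E W} {r : ℕ}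

theorem Act.res (h : Act ρ σ S r) {U : Submodule E W} (hU : ∀ g, ∀ v ∈ U, ρ g v ∈ U)
    (hS : ∀ v ∈ U, S v ∈ U) : Act (Turull.res ρ U hU) σ (S.restrict hS) r := by
  refine ⟨fun g => LinearMap.ext fun v => Subtype.ext (LinearMap.congr_fun (h.rel g) (v : W)), h.prime,
    ?_, h.gen⟩
  rw [Module.End.pow_restrict r]
  refine LinearMap.ext fun v => Subtype.ext ?_
  rw [LinearMap.coe_restrict_apply, h.pow]
  rfl

theorem act_fixed_of_moved (h : Act ρ σ S r) (hf : ∀ v, (∀ g, ρ g v = v) → v = 0) {U : Submodule E W}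
    (hsc : ∀ g, ∃ c : E, ∀ u ∈ U, ρ g u = c • u) (hU : ∀ u ∈ U, S u ∈ U) : U = ⊥ := by
  refine (Submodule.eq_bot_iff U).mpr fun u hu => hf u fun g => ?_
  let K : Subgroup N :=
    { carrier := {g | ρ g u = u}
      one_mem' := by simp
      mul_mem' := fun {a b} ha hb => by
        change ρ (a * b) u = u
        rw [map_mul, Module.End.mul_apply, hb, ha]
      inv_mem' := fun {a} ha => by
        change ρ a⁻¹ u = u
        conv_lhs => rw [← show ρ a u = u from ha]
        rw [← Module.End.mul_apply, rho_cancel', Module.End.one_apply] }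
  suffices hK : Subgroup.closure (Set.range fun g : N => g⁻¹ * σ g) ≤ K by
    exact hK (h.gen.symm ▸ Subgroup.mem_top g)
  rw [Subgroup.closure_le]
  rintro _ ⟨k, rfl⟩
  obtain ⟨c, hc⟩ := hsc k
  have hu' : (S ^ (r - 1)) u ∈ U := by
    generalize r - 1 = m
    induction m with
    | zero => simpa using hu
    | succ m ih => rw [pow_succ', Module.End.mul_apply]; exact hU _ ih
  have e1 : ρ (σ k) u = c • u := by
    have e2 := LinearMap.congr_fun (h.rel k) ((S ^ (r - 1)) u)
    rw [Module.End.mul_apply, Module.End.mul_apply, hc _ hu', map_smul, ← Module.End.mul_apply S,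
      h.cancel, Module.End.one_apply] at e2
    exact e2.symm
  change ρ (k⁻¹ * σ k) u = u
  rw [map_mul, Module.End.mul_apply, e1, ← hc u hu, ← Module.End.mul_apply, rho_cancel', Module.End.one_apply]

theorem classTwo_kill [IsAlgClosed E] [FiniteDimensional E W] [Finite N] {t : ℕ} [Fact t.Prime]
    (hN : IsPGroup t N) (ht : (t : E) ≠ 0) (hr : (r : E) ≠ 0) (h : Act ρ σ S r)
    (hclass : ∀ g k l : N, Commute (ρ ⁅g, k⁆) (ρ l))
    {L : Type*} (Z : L → Module.End E W) (hZo : ∀ l, ∃ o : ℕ, (o : E) ≠ 0 ∧ Z l ^ o = 1)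
    (hZρ : ∀ l g, Commute (Z l) (ρ g)) (hZS : ∀ l, Commute (Z l) S) (hZT : ∀ l, Commute (Z l) T)
    (hZZ : ∀ l l', Commute (Z l) (Z l'))
    (hT : ∀ g, Commute T (ρ g)) (hTS : Commute T S) (hfix : ∀ v, S v = v → T v = 0)
    (hf : ∀ v, (∀ g, ρ g v = v) → v = 0)
    (hexc : ∀ (U : Submodule E W) (hU : ∀ g, ∀ v ∈ U, ρ g v ∈ U), U ≠ ⊥ → (∀ v ∈ U, S v ∈ U) →
      (∀ l, ∃ c : E, ∀ u ∈ U, Z l u = c • u) → Nondeg (res ρ U hU) →
      ¬ (t = 2 ∧ Nat.card (N ⧸ scal (res ρ U hU)) = (r - 1) ^ 2)) : T = 0 := by
  classical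
  suffices main : ∀ (n : ℕ) (U : Submodule E W), Module.finrank E U ≤ n → (∀ g, ∀ v ∈ U, ρ g v ∈ U) →
      (∀ v ∈ U, S v ∈ U) → (∀ v ∈ U, T v ∈ U) → (∀ l, ∀ v ∈ U, Z l v ∈ U) → ∀ v ∈ U, T v = 0 by
    exact LinearMap.ext fun v => main _ ⊤ le_rfl (by simp) (by simp) (by simp) (by simp) v trivial
  intro n
  induction n with
  | zero =>
    intro U hU _ _ _ _ v hv
    have hbot : U = ⊥ := Submodule.finrank_eq_zero.mp (Nat.le_zero.mp hU)
    rw [hbot, Submodule.mem_bot] at hv
    rw [hv, map_zero]
  | succ n ih =>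
    intro U hn hρU hSU hTU hZU
    -- splitting along an operator
    have split : ∀ f : Module.End E W, (∃ o : ℕ, (o : E) ≠ 0 ∧ ∀ u ∈ U, (f ^ o) u = u) →
        (∀ u ∈ U, f u ∈ U) → (∀ g, ∀ u ∈ U, f (ρ g u) = ρ g (f u)) → (∀ u ∈ U, f (S u) = S (f u)) →
        (∀ u ∈ U, f (T u) = T (f u)) → (∀ l, ∀ u ∈ U, f (Z l u) = Z l (f u)) →
        (¬ ∃ c : E, ∀ u ∈ U, f u = c • u) → ∀ v ∈ U, T v = 0 := by
      intro f ⟨o, ho, hfo⟩ hfU hfρ hfS hfT hfZ hns v hv
      let f' : Module.End E U := f.restrict hfU
      have hf' : f' ^ o = (1 : E) • 1 := by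
        rw [Module.End.pow_restrict o, one_smul]
        exact LinearMap.ext fun u => Subtype.ext (hfo u u.2)
      refine eigen_induction (f := f') (P := fun u : U => T u = 0) ho one_ne_zero hf'
        (map_zero T) (fun x y hx hy => by rw [Submodule.coe_add, map_add, hx, hy, add_zero])
        (fun μ u _ hu => ?_) ⟨v, hv⟩
      let U' : Submodule E W := U ⊓ Module.End.eigenspace f μ
      have hlt : U' < U := by
        refine lt_of_le_of_ne inf_le_left fun he => hns ⟨μ, fun w hw => ?_⟩
        rw [← he] at hw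
        exact Module.End.mem_eigenspace_iff.mp hw.2
      have hn' : Module.finrank E U' ≤ n := by
        have := Submodule.finrank_lt_finrank_of_lt hlt
        omega
      have hinv : ∀ F : Module.End E W, (∀ w ∈ U, F w ∈ U) → (∀ w ∈ U, f (F w) = F (f w)) →
          ∀ w ∈ U', F w ∈ U' := fun F hFU hFc w hw => ⟨hFU w hw.1, by
        have hw2 := Module.End.mem_eigenspace_iff.mp hw.2
        exact Module.End.mem_eigenspace_iff.mpr (by rw [hFc w hw.1, hw2, map_smul])⟩
      exact ih U' hn' (fun g => hinv _ (hρU g) (hfρ g)) (hinv S hSU hfS) (hinv T hTU hfT)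
        (fun l => hinv _ (hZU l) (hfZ l)) (u : W)
        ⟨u.2, Module.End.mem_eigenspace_iff.mpr (congrArg Subtype.val hu)⟩
    by_cases hU0 : U = ⊥
    · intro v hv
      rw [hU0, Submodule.mem_bot] at hv
      rw [hv, map_zero]
    let τ := res ρ U hρU
    let A : Subgroup N :=
      { carrier := {a | ∀ g, ∀ u ∈ U, ρ a (ρ g u) = ρ g (ρ a u)}
        one_mem' := fun g u _ => by simp
        mul_mem' := fun {a b} ha hb g u hu => by
          rw [map_mul, Module.End.mul_apply, Module.End.mul_apply, hb g u hu, ha g _ (hρU b u hu)]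
        inv_mem' := fun {a} ha g u hu => by
          have h1 := ha g (ρ a⁻¹ u) (hρU _ u hu)
          rw [← Module.End.mul_apply (ρ a) (ρ a⁻¹), rho_cancel, Module.End.one_apply] at h1
          conv_lhs => rw [← h1, ← Module.End.mul_apply, rho_cancel', Module.End.one_apply] }
    have hSinv : ∀ u ∈ U, (S ^ (r - 1)) u ∈ U := by
      intro u hu
      generalize r - 1 = m
      induction m with
      | zero => simpa using hu
      | succ m ih => rw [pow_succ', Module.End.mul_apply]; exact hSU _ ih
    have hS' : S ^ (r - 1) * S = 1 := by rw [← pow_succ, Nat.sub_add_cancel h.prime.one_le, h.pow]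
    have hσρ : ∀ g, ∀ u, ρ (σ g) u = S (ρ g ((S ^ (r - 1)) u)) := fun g u => by
      rw [← Module.End.mul_apply S, h.rel, Module.End.mul_apply, ← Module.End.mul_apply S, h.cancel,
        Module.End.one_apply]
    have hAσ : ∀ a ∈ A, σ a ∈ A := by
      intro a ha g u hu
      obtain ⟨g', rfl⟩ := σ.surjective g
      rw [hσρ, hσρ g', ← Module.End.mul_apply (S ^ (r - 1)) S, hS', Module.End.one_apply,
        ha _ _ (hSinv u hu), hσρ g', hσρ a u, ← Module.End.mul_apply (S ^ (r - 1)) S, hS',
        Module.End.one_apply]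
    by_cases hmov : ∃ a ∈ A, ∃ u ∈ U, ρ (σ a) u ≠ ρ a u
    · -- moved central operators
      let A' : Subgroup N := Subgroup.closure ((fun a => a⁻¹ * σ a) '' (A : Set N))
      have hA'A : A' ≤ A := by
        rw [Subgroup.closure_le]
        rintro _ ⟨a, ha, rfl⟩
        exact A.mul_mem (A.inv_mem ha) (hAσ a ha)
      have hA'σ : ∀ a ∈ A', σ a ∈ A' := by
        intro a ha
        have : A' ≤ A'.comap σ.toMonoidHom := by
          rw [Subgroup.closure_le]
          rintro _ ⟨b, hb, rfl⟩
          refine Subgroup.subset_closure ⟨σ b, hAσ b hb, ?_⟩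
          change (σ b)⁻¹ * σ (σ b) = σ (b⁻¹ * σ b)
          rw [map_mul, map_inv]
        exact this ha
      haveI : Fintype A' := Fintype.ofFinite A'
      have hcard : (Fintype.card A' : E) ≠ 0 := by
        obtain ⟨m, hm⟩ := IsPGroup.iff_card.mp (hN.to_subgroup A')
        rw [← Nat.card_eq_fintype_card, hm, Nat.cast_pow]
        exact pow_ne_zero _ ht
      let P : Module.End E W := (Fintype.card A' : E)⁻¹ • ∑ a : A', ρ a
      have hPa : ∀ a : A', P * ρ a = P := by
        intro a
        simp only [P, smul_mul_assoc, Finset.sum_mul, ← map_mul]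
        congr 1
        exact Fintype.sum_equiv (Equiv.mulRight a) _ _ fun b => rfl
      have hPfix : ∀ u, (∀ a : A', ρ a u = u) → P u = u := by
        intro u hu
        simp only [P, LinearMap.smul_apply, LinearMap.sum_apply, hu, Finset.sum_const, Finset.card_univ,
          ← Nat.cast_smul_eq_nsmul E, smul_smul, inv_mul_cancel₀ hcard, one_smul]
      have hP2 : P * P = P := by
        nth_rw 2 [show P = (Fintype.card A' : E)⁻¹ • ∑ a : A', ρ a from rfl]
        simp only [mul_smul_comm, Finset.mul_sum, hPa, Finset.sum_const, Finset.card_univ,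
          ← Nat.cast_smul_eq_nsmul E, smul_smul, inv_mul_cancel₀ hcard, one_smul]
      have hPU : ∀ u ∈ U, P u ∈ U := by
        intro u hu
        simp only [P, LinearMap.smul_apply, LinearMap.sum_apply]
        exact U.smul_mem _ (U.sum_mem fun a _ => hρU _ u hu)
      have hPcomm : ∀ F : Module.End E W, (∀ a : A', ∀ u ∈ U, ρ a (F u) = F (ρ a u)) →
          ∀ u ∈ U, P (F u) = F (P u) := by
        intro F hF u hu
        simp only [P, LinearMap.smul_apply, LinearMap.sum_apply, map_smul, map_sum]
        rw [Finset.sum_congr rfl fun a _ => hF a u hu]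
      have hPρ : ∀ g, ∀ u ∈ U, P (ρ g u) = ρ g (P u) := fun g =>
        hPcomm _ fun a u hu => hA'A a.2 g u hu
      have hPS : ∀ u ∈ U, P (S u) = S (P u) := by
        intro u hu
        simp only [P, LinearMap.smul_apply, LinearMap.sum_apply, map_smul, map_sum]
        congr 1
        let e : A' ≃ A' := Equiv.ofBijective (fun a => ⟨σ a, hA'σ a a.2⟩)
          (Finite.injective_iff_bijective.mp fun a b hab => Subtype.ext (σ.injective (congrArg Subtype.val hab)))
        refine (Fintype.sum_equiv e _ _ fun a => ?_).symm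
        exact LinearMap.congr_fun (h.rel a) u
      have hPT : ∀ u ∈ U, P (T u) = T (P u) := hPcomm _ fun a u _ => LinearMap.congr_fun (hT a).eq.symm u
      have hPZ : ∀ l, ∀ u ∈ U, P (Z l u) = Z l (P u) := fun l =>
        hPcomm _ fun a u _ => LinearMap.congr_fun (hZρ l a).eq.symm u
      let U0 : Submodule E W := U ⊓ LinearMap.ker (P - 1)
      let U1 : Submodule E W := U ⊓ LinearMap.ker P
      have hU0 : ∀ F : Module.End E W, (∀ w ∈ U, F w ∈ U) → (∀ w ∈ U, P (F w) = F (P w)) →
          (∀ w ∈ U0, F w ∈ U0) ∧ ∀ w ∈ U1, F w ∈ U1 := by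
        intro F hFU hFc
        refine ⟨fun w hw => ⟨hFU w hw.1, ?_⟩, fun w hw => ⟨hFU w hw.1, ?_⟩⟩
        · have h2 : P w = w := sub_eq_zero.mp hw.2
          rw [SetLike.mem_coe, LinearMap.mem_ker, LinearMap.sub_apply, Module.End.one_apply, hFc w hw.1, h2, sub_self]
        · have h2 : P w = 0 := hw.2
          rw [SetLike.mem_coe, LinearMap.mem_ker, hFc w hw.1, h2, map_zero]
      have hfixA : ∀ u ∈ U0, ∀ a : A', ρ a u = u := by
        intro u hu a
        have h2 : P u = u := sub_eq_zero.mp hu.2
        have h3 : ρ a (P u) = P u := by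
          rw [← hPρ a u hu.1, ← Module.End.mul_apply, hPa]
        rw [h2] at h3
        exact h3
      have hT0 : ∀ u ∈ U0, T u = 0 := by
        have hlt : U0 < U := by
          refine lt_of_le_of_ne inf_le_left fun he => ?_
          obtain ⟨a, ha, u, hu, hne⟩ := hmov
          apply hne
          have hfa := hfixA u (he.symm ▸ hu) ⟨a⁻¹ * σ a, Subgroup.subset_closure ⟨a, ha, rfl⟩⟩
          calc ρ (σ a) u = ρ a (ρ (a⁻¹ * σ a) u) := by
                rw [← Module.End.mul_apply, ← map_mul, mul_inv_cancel_left]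
            _ = ρ a u := by rw [hfa]
        have hn' : Module.finrank E U0 ≤ n := by
          have := Submodule.finrank_lt_finrank_of_lt hlt
          omega
        exact ih U0 hn' (fun g => (hU0 _ (hρU g) (hPρ g)).1) (hU0 S hSU hPS).1 (hU0 T hTU hPT).1
          (fun l => (hU0 _ (hZU l) (hPZ l)).1)
      have hT1 : ∀ u ∈ U1, T u = 0 := fun u hu => orbit_kill h.prime h.pow h.rel (A := A) hAσ
        (fun a _ => (hU0 _ (hρU a) (hPρ a)).2) (hU0 S hSU hPS).2 (hU0 T hTU hPT).2
        (fun a _ w _ => LinearMap.congr_fun (hT a).eq w) (fun w _ => LinearMap.congr_fun hTS.eq w)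
        (fun a ha b _ w hw => ha b w hw.1)
        (fun w hw hwA => by
          have hA'fix : ∀ a : A', ρ a w = w := by
            intro a
            let K : Subgroup N :=
              { carrier := {g | ρ g w = w}
                one_mem' := by simp
                mul_mem' := fun {a b} ha hb => by
                  change ρ (a * b) w = w
                  rw [map_mul, Module.End.mul_apply, hb, ha]
                inv_mem' := fun {a} ha => by
                  change ρ a⁻¹ w = w
                  conv_lhs => rw [← show ρ a w = w from ha]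
                  rw [← Module.End.mul_apply, rho_cancel', Module.End.one_apply] }
            have hle : A' ≤ K := by
              rw [Subgroup.closure_le]
              rintro _ ⟨b, hb, rfl⟩
              change ρ (b⁻¹ * σ b) w = w
              rw [map_mul, Module.End.mul_apply, hwA b hb, ← Module.End.mul_apply, rho_cancel',
                Module.End.one_apply]
            exact hle a.2
          have h2 : P w = 0 := hw.2
          rwa [hPfix w hA'fix] at h2)
        (fun w _ hSw => hfix w hSw) hu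
      intro v hv
      have e1 : T (P v) = 0 := hT0 _ ⟨hPU v hv, by
        rw [SetLike.mem_coe, LinearMap.mem_ker, LinearMap.sub_apply, Module.End.one_apply, ← Module.End.mul_apply, hP2,
          sub_self]⟩
      have e2 : T (v - P v) = 0 := hT1 _ ⟨U.sub_mem hv (hPU v hv), by
        rw [SetLike.mem_coe, LinearMap.mem_ker, map_sub, ← Module.End.mul_apply P P, hP2, sub_self]⟩
      rw [map_sub, e1, sub_zero] at e2
      exact e2
    push Not at hmov
    by_cases hZsc : ∀ l, ∃ c : E, ∀ u ∈ U, Z l u = c • u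
    swap
    · push Not at hZsc
      obtain ⟨l, hl⟩ := hZsc
      obtain ⟨o, ho, hpow⟩ := hZo l
      exact split (Z l) ⟨o, ho, fun u _ => by rw [hpow]; rfl⟩ (hZU l)
        (fun g u _ => LinearMap.congr_fun (hZρ l g).eq u) (fun u _ => LinearMap.congr_fun (hZS l).eq u)
        (fun u _ => LinearMap.congr_fun (hZT l).eq u) (fun l' u _ => LinearMap.congr_fun (hZZ l l').eq u)
        (fun ⟨c, hc⟩ => by obtain ⟨u, hu, hne⟩ := hl c; exact hne (hc u hu))
    by_cases hAsc : ∀ a ∈ A, ∃ c : E, ∀ u ∈ U, ρ a u = c • u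
    swap
    · push Not at hAsc
      obtain ⟨a, ha, hl⟩ := hAsc
      obtain ⟨k, hk⟩ := hN a
      refine split (ρ a) ⟨t ^ k, by rw [Nat.cast_pow]; exact pow_ne_zero _ ht, fun u _ => by
        rw [← map_pow, hk, map_one, Module.End.one_apply]⟩ (hρU a)
        (fun g u hu => ha g u hu) (fun u hu => ?_) (fun u _ => LinearMap.congr_fun (hT a).eq.symm u)
        (fun l u _ => LinearMap.congr_fun (hZρ l a).eq.symm u)
        (fun ⟨c, hc⟩ => by obtain ⟨u, hu, hne⟩ := hl c; exact hne (hc u hu))
      rw [← Module.End.mul_apply S, h.rel, Module.End.mul_apply, hmov a ha _ (hSU u hu)]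
    -- all central operators are scalars
    have hsc_iff : ∀ g, (∀ k, Commute (τ g) (τ k)) → g ∈ A := fun g hg k u hu =>
      congrArg Subtype.val (LinearMap.congr_fun (hg k).eq ⟨u, hu⟩)
    have hn' : Nondeg τ := by
      refine ⟨fun g k => ?_, fun g hg => ?_⟩
      · obtain ⟨c, hc⟩ := hAsc ⁅g, k⁆ (fun l u _ => LinearMap.congr_fun (hclass g k l).eq u)
        refine ⟨c, LinearMap.ext fun u => Subtype.ext ?_⟩
        change ρ g (ρ k (u : W)) = c • ρ k (ρ g (u : W))
        rw [← hc _ (hρU k _ (hρU g _ u.2)), commutatorElement_def, ← Module.End.mul_apply (ρ k),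
          ← map_mul, ← Module.End.mul_apply, ← map_mul, ← Module.End.mul_apply, ← map_mul]
        congr 2
        group
      · obtain ⟨c, hc⟩ := hAsc g (hsc_iff g hg)
        exact ⟨c, LinearMap.ext fun u => Subtype.ext (hc u u.2)⟩
    haveI : Nontrivial U := Submodule.nontrivial_iff_ne_bot.mpr hU0
    have hnt : scal τ ≠ ⊤ := by
      intro htop
      refine hU0 (act_fixed_of_moved h hf (fun g => ?_) hSU)
      obtain ⟨c, hc⟩ : g ∈ scal τ := htop ▸ Subgroup.mem_top g
      exact ⟨c, fun u hu => congrArg Subtype.val (LinearMap.congr_fun hc ⟨u, hu⟩)⟩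
    have hres := hn'.full hN ht hr (h.res hρU hSU) hnt (hexc U hρU hU0 hSU hZsc hn') (T.restrict hTU)
      (fun g => LinearMap.ext fun u => Subtype.ext (LinearMap.congr_fun (hT g).eq (u : W)))
      (LinearMap.ext fun u => Subtype.ext (LinearMap.congr_fun hTS.eq (u : W)))
      (fun u hu => Subtype.ext (hfix (u : W) (congrArg Subtype.val hu)))
    exact fun v hv => congrArg Subtype.val (LinearMap.congr_fun hres ⟨v, hv⟩)

end Cfsg.Agent.Turull
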