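import Cfsg.Agent.Turull.Monomial

/-!
Counting with monomial operators, and the arithmetic of columns.
-/

set_option autoImplicit false

namespace Cfsg.Agent.Turull

open Module

variable {E : Type*} [Field E] {V : Type*} [AddCommGroup V] [Module E V] {ι : Type*}
  {b : Basis ι E V} {f C : Module.End E V} {π : Equiv.Perm ι} {c e : ι → E} {o : ℕ}

theorem diag_eigenspace [Fintype ι] [DecidableEq E] (he : ∀ i, C (b i) = e i • b i) (ω : E) :
    Module.End.eigenspace C ω = Submodule.span E (Set.range fun i : {i // e i = ω} => b i) := by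
  refine le_antisymm (fun v hv => ?_) (Submodule.span_le.mpr ?_)
  · rw [Module.End.mem_eigenspace_iff] at hv
    rw [← b.sum_repr v]
    refine Submodule.sum_mem _ fun i _ => ?_
    by_cases hi : e i = ω
    · exact Submodule.smul_mem _ _ (Submodule.subset_span ⟨⟨i, hi⟩, rfl⟩)
    · have h1 : (e i - ω) * b.repr v i = 0 := by
        have h2 : C v = ∑ j, (b.repr v j * e j) • b j := by
          conv_lhs => rw [← b.sum_repr v]
          rw [map_sum]
          exact Finset.sum_congr rfl fun j _ => by rw [map_smul, he, smul_smul]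
        rw [hv] at h2
        have h3 : b.repr (ω • v) i = b.repr v i * e i := by rw [h2, b.repr_sum_self]
        rw [map_smul, Finsupp.smul_apply, smul_eq_mul] at h3
        rw [sub_mul, h3, mul_comm, sub_self]
      rw [(mul_eq_zero.mp h1).resolve_left (sub_ne_zero.mpr hi), zero_smul]
      exact Submodule.zero_mem _
  · rintro _ ⟨i, rfl⟩
    rw [SetLike.mem_coe, Module.End.mem_eigenspace_iff, he, i.2]

/-- The dimension of a joint eigenspace with a diagonal operator. -/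
theorem Mono.finrank_inf [Fintype ι] [DecidableEq ι] [DecidableEq E] [FiniteDimensional E V]
    (h : Mono b f π c o) (he : ∀ i, C (b i) = e i • b i) (hπ : ∀ i, e (π i) = e i) (ω : E) {ζ : E}
    (hζ : ζ ^ o = 1) :
    o * Module.finrank E (Module.End.eigenspace C ω ⊓ Module.End.eigenspace f ζ : Submodule E V) =
      (Finset.univ.filter fun i => e i = ω ∧ π i ≠ i).card +
        o * (Finset.univ.filter fun i => e i = ω ∧ π i = i ∧ c i = ζ).card := by
  classical
  set U := Submodule.span E (Set.range fun i : {i // e i = ω} => b i) with hU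
  let bU : Basis {i // e i = ω} E U :=
    Basis.span (b.linearIndependent.comp (fun i : {i // e i = ω} => (i : ι)) Subtype.val_injective)
  have hbU : ∀ i, (bU i : V) = b i := fun i => congrArg Subtype.val (Basis.span_apply _ i) |>.trans rfl
  have hfU : ∀ v ∈ U, f v ∈ U := by
    intro v hv
    induction hv using Submodule.span_induction with
    | mem x hx =>
      obtain ⟨i, rfl⟩ := hx
      rw [h.map]
      exact Submodule.smul_mem _ _ (Submodule.subset_span ⟨⟨π i, (hπ i).trans i.2⟩, rfl⟩)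
    | zero => simp
    | add x y _ _ hx hy => rw [map_add]; exact U.add_mem hx hy
    | smul a x _ hx => rw [map_smul]; exact U.smul_mem a hx
  let π' : Equiv.Perm {i // e i = ω} := π.subtypePerm fun i => by rw [hπ]
  have hM : Mono bU (f.restrict hfU) π' (fun i => c i) o := by
    refine ⟨fun i => Subtype.ext ?_, h.prime, ?_⟩
    · rw [LinearMap.coe_restrict_apply, hbU, Submodule.coe_smul, hbU, h.map]
      rfl
    · rw [Module.End.pow_restrict o]
      refine LinearMap.ext fun v => Subtype.ext ?_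
      rw [LinearMap.coe_restrict_apply, h.pow]
      rfl
  have h1 := hM.finrank_eigen hζ
  have h2 : Module.finrank E (Module.End.eigenspace (f.restrict hfU) ζ) =
      Module.finrank E (Module.End.eigenspace C ω ⊓ Module.End.eigenspace f ζ : Submodule E V) := by
    rw [diag_eigenspace he, ← hU, ← Submodule.finrank_map_subtype_eq]
    refine congrArg (fun S : Submodule E V => Module.finrank E S) ?_
    ext v
    rw [Submodule.mem_map, Submodule.mem_inf, Module.End.mem_eigenspace_iff]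
    constructor
    · rintro ⟨x, hx, rfl⟩
      rw [Module.End.mem_eigenspace_iff] at hx
      exact ⟨x.2, congrArg Subtype.val hx⟩
    · rintro ⟨hv, hv'⟩
      exact ⟨⟨v, hv⟩, Module.End.mem_eigenspace_iff.mpr (Subtype.ext hv'), rfl⟩
  rw [h2] at h1
  have hc1 : (Finset.univ.filter fun i : {i // e i = ω} => π' i ≠ i).card =
      (Finset.univ.filter fun i => e i = ω ∧ π i ≠ i).card :=
    Finset.card_bij (fun i _ => (i : ι))
      (fun i hi => Finset.mem_filter.mpr ⟨Finset.mem_univ _, i.2, fun he' =>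
        (Finset.mem_filter.mp hi).2 (Subtype.ext he')⟩)
      (fun i _ j _ hij => Subtype.ext hij)
      (fun i hi => ⟨⟨i, (Finset.mem_filter.mp hi).2.1⟩, Finset.mem_filter.mpr ⟨Finset.mem_univ _, fun he' =>
        (Finset.mem_filter.mp hi).2.2 (congrArg Subtype.val he')⟩, rfl⟩)
  have hc2 : (Finset.univ.filter fun i : {i // e i = ω} => π' i = i ∧ c i = ζ).card =
      (Finset.univ.filter fun i => e i = ω ∧ π i = i ∧ c i = ζ).card :=
    Finset.card_bij (fun i _ => (i : ι))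
      (fun i hi => Finset.mem_filter.mpr ⟨Finset.mem_univ _, i.2,
        congrArg Subtype.val (Finset.mem_filter.mp hi).2.1, (Finset.mem_filter.mp hi).2.2⟩)
      (fun i _ j _ hij => Subtype.ext hij)
      (fun i hi => ⟨⟨i, (Finset.mem_filter.mp hi).2.1⟩, Finset.mem_filter.mpr ⟨Finset.mem_univ _,
        Subtype.ext (Finset.mem_filter.mp hi).2.2.1, (Finset.mem_filter.mp hi).2.2.2⟩, rfl⟩)
  rw [hc1, hc2] at h1
  exact h1

theorem pairs_count {κ : Type*} [DecidableEq κ] (s : Finset ι) [DecidableEq ι] (key : ι → κ) (Λ : Finset κ)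
    (hΛ : ∀ p ∈ s, key p ∈ Λ) :
    ((s ×ˢ s).filter fun pq => key pq.1 = key pq.2).card =
      ∑ x ∈ Λ, (s.filter fun p => key p = x).card ^ 2 := by
  rw [Finset.card_eq_sum_card_fiberwise (f := fun pq : ι × ι => key pq.1) (t := Λ) fun pq hpq =>
    hΛ _ (Finset.mem_product.mp (Finset.mem_filter.mp hpq).1).1]
  refine Finset.sum_congr rfl fun x _ => ?_
  rw [sq, ← Finset.card_product]
  congr 1
  ext ⟨p, q⟩
  simp only [Finset.mem_filter, Finset.mem_product]
  exact ⟨fun h => ⟨⟨h.1.1.1, h.2⟩, h.1.1.2, h.1.2 ▸ h.2⟩,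
    fun h => ⟨⟨⟨h.1.1, h.2.1⟩, h.1.2.trans h.2.2.symm⟩, h.1.2⟩⟩

/-- A nonzero column vanishing somewhere has a defect. -/
theorem column {κ : Type*} [DecidableEq κ] (Λ : Finset κ) (v : κ → ℕ) {x₀ : κ} (hx₀ : x₀ ∈ Λ)
    (h0 : v x₀ = 0) (hne : ∃ x ∈ Λ, v x ≠ 0) :
    (∑ x ∈ Λ, v x) ^ 2 + (Λ.card - 1) ≤ Λ.card * ∑ x ∈ Λ, v x ^ 2 := by
  obtain ⟨x, hx, hx'⟩ := hne
  have hsum : ∑ y ∈ Λ, v y = ∑ y ∈ Λ.erase x₀, v y := by
    rw [← Finset.add_sum_erase Λ _ hx₀, h0, zero_add]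
  have hsq : ∑ y ∈ Λ, v y ^ 2 = ∑ y ∈ Λ.erase x₀, v y ^ 2 := by
    rw [← Finset.add_sum_erase Λ _ hx₀, h0, zero_pow two_ne_zero, zero_add]
  have hcs : (∑ y ∈ Λ.erase x₀, v y) ^ 2 ≤ (Λ.erase x₀).card * ∑ y ∈ Λ.erase x₀, v y ^ 2 :=
    sq_sum_le_card_mul_sum_sq
  have hne' : x ≠ x₀ := fun he => hx' (he ▸ h0)
  have hone : v x ^ 2 ≤ ∑ y ∈ Λ.erase x₀, v y ^ 2 :=
    Finset.single_le_sum (f := fun y => v y ^ 2) (fun _ _ => Nat.zero_le _) (Finset.mem_erase.mpr ⟨hne', hx⟩)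
  rw [Finset.card_erase_of_mem hx₀] at hcs
  rw [hsum, hsq]
  obtain ⟨d, hd⟩ := Nat.exists_eq_add_of_le (Finset.card_pos.mpr ⟨x₀, hx₀⟩ : 1 ≤ Λ.card)
  rw [hd, Nat.add_sub_cancel_left] at hcs ⊢
  -- the entry at `x` pays for the defect
  have hsupp : (∑ y ∈ Λ.erase x₀, v y) ^ 2 ≤
      ((Λ.erase x₀).filter fun y => v y ≠ 0).card * ∑ y ∈ Λ.erase x₀, v y ^ 2 := by
    rw [← Finset.sum_filter_ne_zero (Λ.erase x₀) (f := v)]
    refine sq_sum_le_card_mul_sum_sq.trans (Nat.mul_le_mul_left _ ?_)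
    exact Finset.sum_le_sum_of_subset (Finset.filter_subset _ _)
  have hK : ((Λ.erase x₀).filter fun y => v y ≠ 0).card ≤ ∑ y ∈ Λ.erase x₀, v y ^ 2 := by
    refine le_trans ?_ (Finset.sum_le_sum_of_subset (f := fun y => v y ^ 2) (Finset.filter_subset (fun y => v y ≠ 0) _))
    simpa using Finset.card_nsmul_le_sum _ (fun y => v y ^ 2) 1
      (fun y hy => Nat.one_le_pow _ _ (Nat.pos_of_ne_zero (Finset.mem_filter.mp hy).2))
  have hK1 : 1 ≤ ((Λ.erase x₀).filter fun y => v y ≠ 0).card :=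
    Finset.card_pos.mpr ⟨x, Finset.mem_filter.mpr ⟨Finset.mem_erase.mpr ⟨hne', hx⟩, hx'⟩⟩
  have hKd : ((Λ.erase x₀).filter fun y => v y ≠ 0).card ≤ d := by
    refine (Finset.card_filter_le _ _).trans ?_
    rw [Finset.card_erase_of_mem hx₀, hd, Nat.add_sub_cancel_left]
  generalize ((Λ.erase x₀).filter fun y => v y ≠ 0).card = K at hsupp hK hK1 hKd
  generalize ∑ y ∈ Λ.erase x₀, v y ^ 2 = Q at hsupp hK ⊢
  obtain ⟨e, rfl⟩ := Nat.exists_eq_add_of_le hKd
  nlinarith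

/-- Columns with little defect are nearly constant. -/
theorem spread {κ : Type*} (Λ : Finset κ) (v : κ → ℕ)
    (h : Λ.card * ∑ x ∈ Λ, v x ^ 2 ≤ (∑ x ∈ Λ, v x) ^ 2 + (Λ.card - 1)) {x y : κ} (hx : x ∈ Λ) (hy : y ∈ Λ) :
    v x ≤ v y + 1 := by
  by_contra hlt
  push Not at hlt
  have hge : ∀ k, (2 : ℤ) ≤ ((v x : ℤ) - v k) ^ 2 + ((v y : ℤ) - v k) ^ 2 := by
    intro k
    have h1 : (2 : ℤ) ≤ (v x : ℤ) - v y := by omega
    nlinarith [sq_nonneg ((v x : ℤ) + v y - 2 * v k)]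
  have hsum : ∑ j ∈ Λ, ∑ k ∈ Λ, ((v j : ℤ) - v k) ^ 2 =
      2 * ((Λ.card : ℤ) * ∑ k ∈ Λ, (v k : ℤ) ^ 2 - (∑ k ∈ Λ, (v k : ℤ)) ^ 2) := by
    simp only [sub_sq, Finset.sum_add_distrib, Finset.sum_sub_distrib, ← Finset.mul_sum,
      ← Finset.sum_mul, Finset.sum_const, nsmul_eq_mul]
    ring
  have hne : x ≠ y := fun he => by subst he; omega
  classical
  have hsub : ∑ j ∈ ({x, y} : Finset κ), ∑ k ∈ Λ, ((v j : ℤ) - v k) ^ 2 ≤
      ∑ j ∈ Λ, ∑ k ∈ Λ, ((v j : ℤ) - v k) ^ 2 := by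
    refine Finset.sum_le_sum_of_subset_of_nonneg ?_ fun j _ _ => Finset.sum_nonneg fun k _ => sq_nonneg _
    simp [Finset.insert_subset_iff, hx, hy]
  rw [Finset.sum_pair hne, ← Finset.sum_add_distrib] at hsub
  have hlow := Finset.card_nsmul_le_sum Λ (fun k => ((v x : ℤ) - v k) ^ 2 + ((v y : ℤ) - v k) ^ 2) 2
    (fun k _ => hge k)
  rw [nsmul_eq_mul] at hlow
  have h1 : 1 ≤ Λ.card := Finset.card_pos.mpr ⟨x, hx⟩
  have h' : (Λ.card : ℤ) * ∑ k ∈ Λ, (v k : ℤ) ^ 2 ≤ (∑ k ∈ Λ, (v k : ℤ)) ^ 2 + ((Λ.card : ℤ) - 1) := by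
    have := Int.ofNat_le.mpr h
    push_cast [Nat.cast_sub h1] at this
    exact this
  linarith

end Cfsg.Agent.Turull
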