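import Cfsg.Agent.Turull.Monomial

/-!
Operators with trivial and free orbits only: a permutation basis of eigenvectors.
-/

set_option autoImplicit false

namespace Cfsg.Agent.Turull

open Module

variable {E : Type*} [Field E] {V : Type*} [AddCommGroup V] [Module E V]

/-- The projection to an eigenspace of an operator of finite order modulo scalars. -/
noncomputable def eigProj (a : Module.End E V) (r : ℕ) (μ : E) : Module.End E V :=
  (r : E)⁻¹ • ∑ i ∈ Finset.range r, μ⁻¹ ^ i • a ^ i

theorem eigProj_apply_eigen {a : Module.End E V} {r : ℕ} (hr : (r : E) ≠ 0) {μ : E} (hμ : μ ≠ 0) {v : V}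
    (hv : a v = μ • v) : eigProj a r μ v = v := by
  have h1 : ∀ i : ℕ, (a ^ i) v = μ ^ i • v := by
    intro i
    induction i with
    | zero => simp
    | succ i ih => rw [pow_succ', Module.End.mul_apply, ih, map_smul, hv, smul_smul, pow_succ]
  have h2 : ∀ i : ℕ, μ⁻¹ ^ i • (a ^ i) v = v := fun i => by
    rw [h1, smul_smul, ← mul_pow, inv_mul_cancel₀ hμ, one_pow, one_smul]
  simp only [eigProj, LinearMap.smul_apply, LinearMap.sum_apply, h2, Finset.sum_const, Finset.card_range,
    ← Nat.cast_smul_eq_nsmul E, smul_smul, inv_mul_cancel₀ hr, one_smul]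

theorem apply_eigProj {a : Module.End E V} {r : ℕ} {c : E} (ha : a ^ r = c • 1) {μ : E} (hμ : μ ≠ 0)
    (hμr : μ ^ r = c) (v : V) : a (eigProj a r μ v) = μ • eigProj a r μ v := by
  simp only [eigProj, LinearMap.smul_apply, LinearMap.sum_apply, map_smul, map_sum, Finset.smul_sum,
    smul_smul]
  have h2 : ∀ i : ℕ, ((r : E)⁻¹ * μ⁻¹ ^ i) • a ((a ^ i) v) =
      (μ * ((r : E)⁻¹ * μ⁻¹ ^ (i + 1))) • (a ^ (i + 1)) v := fun i => by
    rw [pow_succ' a, Module.End.mul_apply, pow_succ' μ⁻¹]
    congr 1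
    field_simp
  rw [Finset.sum_congr rfl fun i _ => h2 i]
  have h3 := Finset.sum_range_succ' (fun i => (μ * ((r : E)⁻¹ * μ⁻¹ ^ i)) • (a ^ i) v) r
  rw [Finset.sum_range_succ] at h3
  have h5 : (μ * ((r : E)⁻¹ * μ⁻¹ ^ r)) • (a ^ r) v = (μ * ((r : E)⁻¹ * μ⁻¹ ^ 0)) • (a ^ 0) v := by
    have hc : c ≠ 0 := fun h => pow_ne_zero r hμ (hμr.trans h)
    rw [ha, LinearMap.smul_apply, smul_smul, inv_pow, hμr, pow_zero, pow_zero, mul_one]
    congr 1
    field_simp
  rw [h5] at h3
  exact (add_right_cancel h3).symm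

theorem eigProj_comm {a β : Module.End E V} (h : Commute β a) (r : ℕ) (μ : E) :
    Commute β (eigProj a r μ) := by
  unfold eigProj
  exact (Commute.sum_right _ _ _ fun i _ => (h.pow_right i).smul_right _).smul_right _

universe v

/-- A permutation basis of eigenvectors. -/
theorem exists_perm_basis {V : Type v} [AddCommGroup V] [Module E V] [Nontrivial V] [IsAlgClosed E]
    [FiniteDimensional E V] {a β : Module.End E V} {r o : ℕ} {c : E} (hr : (r : E) ≠ 0) (hc : c ≠ 0)
    (hr0 : r ≠ 0) (ha : a ^ r = c • 1) (hcomm : Commute β a) [CharP E o] [ho : Fact o.Prime] (hβ : β ^ o = 1)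
    (hP : ∀ v, (β - 1) v = 0 → (∃ w, (β - 1) w = v) → ∃ z, ((β - 1) ^ (o - 1)) z = v) :
    ∃ (ι : Type v) (_ : Fintype ι) (b : Basis ι E V) (lam : ι → E) (π : Equiv.Perm ι),
      (∀ p, a (b p) = lam p • b p) ∧ (∀ p, lam p ^ r = c) ∧ (∀ p, β (b p) = b (π p)) := by
  classical
  set T : Module.End E V := β - 1 with hT
  obtain ⟨n, hn⟩ : ∃ n, o = n + 1 := ⟨o - 1, by have := ho.out.two_le; omega⟩
  have hn1 : 1 ≤ n := by have := ho.out.two_le; omega
  rw [show o - 1 = n from by omega] at hP
  haveI : CharP (Module.End E V) o :=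
    charP_of_injective_algebraMap (algebraMap E (Module.End E V)).injective o
  have hTo : T ^ o = 0 := by
    rw [hT, sub_pow_char_of_commute o (Commute.one_right β), hβ, one_pow, sub_self]
  have hTa : Commute T a := hcomm.sub_left (Commute.one_left a)
  have hμ0 : ∀ μ : E, μ ^ r = c → μ ≠ 0 := fun μ h h0 => hc (by rw [← h, h0, zero_pow hr0])
  -- eigenvectors span invariant subspaces
  have hspan : ∀ U : Submodule E V, (∀ u ∈ U, a u ∈ U) →
      U ≤ Submodule.span E {v | v ∈ U ∧ ∃ μ : E, μ ^ r = c ∧ a v = μ • v} := by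
    intro U hU u hu
    let a' : Module.End E U := a.restrict hU
    have ha' : a' ^ r = c • 1 := by
      rw [Module.End.pow_restrict r]
      refine LinearMap.ext fun x => Subtype.ext ?_
      rw [LinearMap.coe_restrict_apply, ha]
      rfl
    exact eigen_induction (f := a') (P := fun x : U => (x : V) ∈ Submodule.span E {v | v ∈ U ∧ ∃ μ : E, μ ^ r = c ∧ a v = μ • v}) hr hc ha'
      (Submodule.zero_mem _) (fun x y hx hy => Submodule.add_mem _ hx hy)
      (fun μ x hμ hx => Submodule.subset_span ⟨x.2, μ, hμ, congrArg Subtype.val hx⟩) ⟨u, hu⟩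
  let Im := LinearMap.range (T ^ n)
  obtain ⟨W, hWs, hWspan, hWind⟩ := exists_linearIndependent E
    {v | v ∈ Im ∧ ∃ μ : E, μ ^ r = c ∧ a v = μ • v}
  have hImspan : Submodule.span E W = Im := le_antisymm (Submodule.span_le.mpr fun w hw => (hWs hw).1)
    ((hspan Im (by
      rintro _ ⟨u, rfl⟩
      exact ⟨a u, by rw [← Module.End.mul_apply, (hTa.pow_left n).eq, Module.End.mul_apply]⟩)).trans
      hWspan.ge)
  have hWker : W ⊆ {v | v ∈ LinearMap.ker T ∧ ∃ μ : E, μ ^ r = c ∧ a v = μ • v} := by
    intro w hw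
    obtain ⟨⟨u, hu⟩, hμ⟩ := hWs hw
    refine ⟨?_, hμ⟩
    rw [LinearMap.mem_ker, ← hu, ← Module.End.mul_apply, ← pow_succ', ← hn, hTo, LinearMap.zero_apply]
  have hWind' : LinearIndepOn E id W := hWind
  set K0 := hWind'.extend hWker with hK0
  have hK0t : K0 ⊆ {v | v ∈ LinearMap.ker T ∧ ∃ μ : E, μ ^ r = c ∧ a v = μ • v} := hWind'.extend_subset hWker
  have hWK : W ⊆ K0 := hWind'.subset_extend hWker
  have hK0ind : LinearIndepOn E id K0 := hWind'.linearIndepOn_extend hWker
  have hK0span : Submodule.span E K0 = LinearMap.ker T := by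
    refine le_antisymm (Submodule.span_le.mpr fun v hv => (hK0t hv).1) ?_
    refine (hspan (LinearMap.ker T) (fun u hu => ?_)).trans ?_
    · rw [LinearMap.mem_ker] at hu ⊢
      rw [← Module.End.mul_apply, hTa.eq, Module.End.mul_apply, hu, map_zero]
    · exact Submodule.span_le.mpr (hWind'.subset_span_extend hWker)
  have hz : ∀ w : W, ∃ z : V, ∃ μ : E, μ ^ r = c ∧ a z = μ • z ∧ (T ^ n) z = w := by
    rintro ⟨w, hw⟩
    obtain ⟨⟨u, hu⟩, μ, hμ, hw'⟩ := hWs hw
    refine ⟨eigProj a r μ u, μ, hμ, apply_eigProj ha (hμ0 μ hμ) hμ u, ?_⟩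
    have h1 : Commute (T ^ n) (eigProj a r μ) := (eigProj_comm hTa r μ).pow_left n
    rw [← Module.End.mul_apply, h1.eq, Module.End.mul_apply, hu, eigProj_apply_eigen hr (hμ0 μ hμ) hw']
  choose z μz hμz haz hTz using hz
  haveI : Fintype W := hWind'.setFinite.fintype
  haveI : Fintype (K0 \ W : Set V) := (hK0ind.setFinite.subset Set.sdiff_subset).fintype
  haveI : Fintype K0 := hK0ind.setFinite.fintype
  haveI : NeZero o := ⟨ho.out.ne_zero⟩
  have hpick : ∀ u : (K0 \ W : Set V), ∃ μ : E, μ ^ r = c ∧ a u = μ • (u : V) := fun u => (hK0t u.2.1).2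
  choose μu hμu hau using hpick
  let F : (W × Fin o) ⊕ (K0 \ W : Set V) → V :=
    Sum.elim (fun wk => (β ^ (wk.2 : ℕ)) (z wk.1)) (fun u => (u : V))
  have hβk : ∀ (w : W) (k : ℕ), (β ^ k) (z w) ∈ Submodule.span E (Set.range F) := by
    intro w k
    rw [← Nat.mod_add_div k o, pow_add, pow_mul, hβ, one_pow, mul_one]
    exact Submodule.subset_span ⟨Sum.inl (w, ⟨k % o, Nat.mod_lt _ ho.out.pos⟩), rfl⟩
  have hTk : ∀ (j : ℕ) (w : W), (T ^ j) (z w) ∈ Submodule.span E (Set.range F) := by
    intro j w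
    have : ∀ (j k : ℕ), (T ^ j) ((β ^ k) (z w)) ∈ Submodule.span E (Set.range F) := by
      intro j
      induction j with
      | zero => intro k; simpa using hβk w k
      | succ j ih =>
        intro k
        rw [pow_succ, Module.End.mul_apply]
        have e : T ((β ^ k) (z w)) = (β ^ (k + 1)) (z w) - (β ^ k) (z w) := by
          rw [hT, LinearMap.sub_apply, pow_succ', Module.End.mul_apply, Module.End.one_apply]
        rw [e, map_sub]
        exact Submodule.sub_mem _ (ih _) (ih _)
    simpa using this j 0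
  have hker : ∀ j : ℕ, j ≤ n → LinearMap.ker (T ^ (j + 1)) ≤ Submodule.span E (Set.range F) := by
    intro j
    induction j with
    | zero =>
      intro _
      rw [pow_one, ← hK0span, Submodule.span_le]
      intro u hu
      by_cases huW : u ∈ W
      · have := hTk n ⟨u, huW⟩
        rwa [hTz] at this
      · exact Submodule.subset_span ⟨Sum.inr ⟨u, hu, huW⟩, rfl⟩
    | succ j ih =>
      intro hj v hv
      rw [LinearMap.mem_ker, pow_succ' T, Module.End.mul_apply] at hv
      obtain ⟨u, hu⟩ := hP _ hv ⟨(T ^ j) v, by rw [pow_succ', Module.End.mul_apply]⟩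
      have h1 : (T ^ (j + 1)) v ∈ Submodule.span E (Set.range fun w : W => (T ^ n) (z w)) := by
        rw [show (fun w : W => (T ^ n) (z w)) = fun w : W => (w : V) from funext hTz,
          Subtype.range_coe, hImspan]
        exact ⟨u, hu⟩
      obtain ⟨cw, hcw⟩ := (Submodule.mem_span_range_iff_exists_fun E).mp h1
      obtain ⟨d, hd⟩ := Nat.exists_eq_add_of_le hj
      let v' : V := ∑ w, cw w • (T ^ d) (z w)
      have hv' : v' ∈ Submodule.span E (Set.range F) :=
        Submodule.sum_mem _ fun w _ => Submodule.smul_mem _ _ (hTk _ _)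
      have h2 : v - v' ∈ Submodule.span E (Set.range F) := by
        refine ih (by omega) ?_
        rw [LinearMap.mem_ker, map_sub, ← hcw]
        simp only [v', map_sum, map_smul, ← Module.End.mul_apply, ← pow_add, ← hd, sub_self]
      have := Submodule.add_mem _ h2 hv'
      rwa [sub_add_cancel] at this
  have hle : ⊤ ≤ Submodule.span E (Set.range F) := by
    intro v _
    refine hker n le_rfl ?_
    rw [← hn, hTo, LinearMap.ker_zero]
    trivial
  -- ranks
  have hWcard : Module.finrank E Im = Fintype.card W := by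
    rw [← hImspan, finrank_span_set_eq_card hWind', Set.toFinset_card]
  have hkcard : Module.finrank E (LinearMap.ker T) = Fintype.card K0 := by
    rw [← hK0span, finrank_span_set_eq_card hK0ind, Set.toFinset_card]
  have hstep : ∀ j, 1 ≤ j → j ≤ n →
      Module.finrank E (LinearMap.range (T ^ j)) = Module.finrank E (LinearMap.range (T ^ (j + 1))) + Fintype.card W := by
    intro j hj hjn
    let g : LinearMap.range (T ^ j) →ₗ[E] V := T.comp (LinearMap.range (T ^ j)).subtype
    have hr1 : LinearMap.range g = LinearMap.range (T ^ (j + 1)) := by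
      rw [LinearMap.range_comp, Submodule.range_subtype, ← LinearMap.range_comp, pow_succ', Module.End.mul_eq_comp]
    have hk1 : Submodule.map (LinearMap.range (T ^ j)).subtype (LinearMap.ker g) = Im := by
      refine le_antisymm ?_ ?_
      · rintro _ ⟨⟨v, u, rfl⟩, hv, rfl⟩
        obtain ⟨i, rfl⟩ := Nat.exists_eq_add_of_le hj
        exact hP _ hv ⟨(T ^ i) u, by rw [← Module.End.mul_apply, ← pow_succ', add_comm i 1]; rfl⟩
      · rintro _ ⟨u, rfl⟩
        obtain ⟨d, hd⟩ := Nat.exists_eq_add_of_le hjn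
        refine ⟨⟨(T ^ n) u, ⟨(T ^ d) u, by rw [hd, ← Module.End.mul_apply, ← pow_add]⟩⟩, ?_, rfl⟩
        change T ((T ^ n) u) = 0
        rw [← Module.End.mul_apply, ← pow_succ', ← hn, hTo, LinearMap.zero_apply]
    have h1 := g.finrank_range_add_finrank_ker
    rw [hr1, ← Submodule.finrank_map_subtype_eq, hk1, hWcard] at h1
    exact h1.symm
  have hrange : ∀ i, i ≤ n → Module.finrank E (LinearMap.range (T ^ (o - i))) = i * Fintype.card W := by
    intro i
    induction i with
    | zero =>
      intro _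
      rw [Nat.sub_zero, hTo, LinearMap.range_zero, finrank_bot, zero_mul]
    | succ i ih =>
      intro hi
      rw [hstep (o - (i + 1)) (by omega) (by omega), show o - (i + 1) + 1 = o - i by omega, ih (by omega)]
      ring
  have hcard : Fintype.card ((W × Fin o) ⊕ (K0 \ W : Set V)) = Module.finrank E V := by
    have h1 := T.finrank_range_add_finrank_ker
    have h2 := hrange n le_rfl
    rw [show o - n = 1 by omega, pow_one] at h2
    rw [hkcard, h2] at h1
    have h3 : Fintype.card (K0 \ W : Set V) + Fintype.card W = Fintype.card K0 := by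
      rw [← Set.toFinset_card, ← Set.toFinset_card, ← Set.toFinset_card, Set.toFinset_diff,
        Finset.card_sdiff_add_card_eq_card (Set.toFinset_subset_toFinset.mpr hWK)]
    rw [Fintype.card_sum, Fintype.card_prod, Fintype.card_fin, ← h1, hn, ← h3]
    ring
  let b := basisOfTopLeSpanOfCardEqFinrank F hle hcard
  have hb : ∀ p, b p = F p := fun p => by
    rw [show b p = F p from congrFun (coe_basisOfTopLeSpanOfCardEqFinrank F hle hcard) p]
  refine ⟨_, inferInstance, b, Sum.elim (fun wk => μz wk.1) μu,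
    Equiv.sumCongr (Equiv.prodCongr (Equiv.refl W) (Equiv.addRight (1 : Fin o))) (Equiv.refl _), ?_, ?_, ?_⟩
  · rintro (⟨w, k⟩ | u)
    · rw [hb]
      change a ((β ^ (k : ℕ)) (z w)) = μz w • (β ^ (k : ℕ)) (z w)
      rw [← Module.End.mul_apply, ((hcomm.pow_left _).eq).symm, Module.End.mul_apply, haz, map_smul]
    · rw [hb]; exact hau u
  · rintro (⟨w, k⟩ | u)
    · exact hμz w
    · exact hμu u
  · rintro (⟨w, k⟩ | u)
    · rw [hb, hb]
      change β ((β ^ (k : ℕ)) (z w)) = (β ^ ((k + 1 : Fin o) : ℕ)) (z w)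
      rw [← Module.End.mul_apply, ← pow_succ', pow_eq_pow_mod _ hβ, Fin.val_add, Fin.val_one',
        Nat.add_mod_mod]
    · rw [hb, hb]
      change β (u : V) = (u : V)
      have h1 : T (u : V) = 0 := LinearMap.mem_ker.mp (hK0t u.2.1).1
      rw [hT, LinearMap.sub_apply, Module.End.one_apply, sub_eq_zero] at h1
      exact h1

end Cfsg.Agent.Turull
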