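import Cfsg.Agent.Turull.Monomial

/-!
Two commuting operators of coprime order permuting the lines of a basis: all nontrivial eigenspaces
of the first look alike for the second.
-/

set_option autoImplicit false

namespace Cfsg.Agent.Turull

open Module

variable {E : Type*} [Field E] {V : Type*} [AddCommGroup V] [Module E V] {ι : Type*}

theorem perm_periodic {b : Basis ι E V} {f : Module.End E V} {π : Equiv.Perm ι} {c : ι → E} {o : ℕ}
    (hmap : ∀ i, f (b i) = c i • b (π i)) (hpow : f ^ o = 1) (i : ι) : (π ^ o) i = i := by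
  classical
  have key : ∀ k : ℕ, ∃ d : E, (f ^ k) (b i) = d • b ((π ^ k) i) := by
    intro k
    induction k with
    | zero => exact ⟨1, by simp⟩
    | succ k ih =>
      obtain ⟨d, hd⟩ := ih
      exact ⟨d * c ((π ^ k) i), by
        rw [pow_succ', Module.End.mul_apply, hd, map_smul, hmap, smul_smul, pow_succ', Equiv.Perm.mul_apply]⟩
  obtain ⟨d, hd⟩ := key o
  rw [hpow, Module.End.one_apply] at hd
  by_contra hne
  have h1 := congrArg (fun v => b.repr v i) hd
  simp [hne] at h1

/-- Two commuting monomial operators of coprime orders, the first fixing only one line. -/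
structure Pair (b : Basis ι E V) (C B : Module.End E V) (π πB : Equiv.Perm ι) (c d : ι → E)
    (r o : ℕ) (i₁ : ι) : Prop where
  prime : r.Prime
  cop : Nat.Coprime r o
  mapC : ∀ i, C (b i) = c i • b (π i)
  mapB : ∀ i, B (b i) = d i • b (πB i)
  powC : C ^ r = 1
  powB : B ^ o = 1
  comm : ∀ i, πB (π i) = π (πB i)
  fix : ∀ i, π i = i ↔ i = i₁
  fixB : πB i₁ = i₁
  c₁ : c i₁ = 1
  d₁ : d i₁ = 1

variable {b : Basis ι E V} {C B : Module.End E V} {π πB : Equiv.Perm ι} {c d : ι → E} {r o : ℕ}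
  {i₁ : ι}

theorem Pair.moved (h : Pair b C B π πB c d r o i₁) {i : ι} (hi : i ≠ i₁) (k : ℕ)
    (hk : ((πB * π) ^ k) i = i) : r ∣ k := by
  by_contra hr
  have hcomm : Commute πB π := Equiv.ext fun j => h.comm j
  have h2 : (π ^ (k * o)) i = i := by
    have hfix : (((πB * π) ^ k) ^ o) i = i := by
      generalize o = n
      induction n with
      | zero => simp
      | succ n ih => rw [pow_succ, Equiv.Perm.mul_apply, hk, ih]
    rw [← pow_mul, hcomm.mul_pow, Equiv.Perm.mul_apply] at hfix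
    have hB : ∀ j, (πB ^ (k * o)) j = j := by
      intro j
      rw [mul_comm, pow_mul]
      have h1 : πB ^ o = 1 := Equiv.ext fun l => perm_periodic h.mapB h.powB l
      rw [h1, one_pow, Equiv.Perm.one_apply]
    rwa [hB] at hfix
  apply hi
  rw [← h.fix]
  have hr1 : (π ^ r) i = i := perm_periodic h.mapC h.powC i
  have hcop : Nat.Coprime (k * o) r :=
    Nat.Coprime.mul_left ((h.prime.coprime_iff_not_dvd.mpr hr).symm) h.cop.symm
  rw [← Equiv.Perm.iterate_eq_pow] at h2 hr1
  have hp1 : Function.IsPeriodicPt π (k * o) i := h2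
  have hp2 : Function.IsPeriodicPt π r i := hr1
  have hp := hp1.gcd hp2
  rw [hcop] at hp
  exact hp

theorem Pair.exists_weight [Fintype ι] [DecidableEq ι] (h : Pair b C B π πB c d r o i₁) {ω : E}
    (hω : ω ^ r = 1) :
    ∃ χ : ι → E, χ i₁ = 0 ∧ (∀ i, i ≠ i₁ → χ i ≠ 0) ∧ (∀ i, χ (π i) = ω⁻¹ * χ i) ∧
      ∀ i, χ (πB i) = χ i := by
  classical
  have hω0 : ω ≠ 0 := fun h0 => by simp [h0, h.prime.ne_zero] at hω
  set τ : Equiv.Perm ι := πB * π with hτ
  have hcomm : Commute πB π := Equiv.ext fun j => h.comm j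
  let s : Setoid ι := Equiv.Perm.SameCycle.setoid τ
  let rep : ι → ι := fun i => (Quotient.mk s i).out
  have hsc : ∀ i, τ.SameCycle (rep i) i := fun i => Quotient.mk_out (s := s) i
  have hk : ∀ i, ∃ k : ℕ, (τ ^ k) (rep i) = i := fun i =>
    (hsc i).exists_pow_eq''.elim fun k hk => ⟨k, hk.2.2⟩
  choose kk hkk using hk
  have hτ₁ : τ i₁ = i₁ := by
    rw [hτ, Equiv.Perm.mul_apply, (h.fix i₁).mpr rfl, h.fixB]
  have hne : ∀ i, i ≠ i₁ → rep i ≠ i₁ := by
    intro i hi he
    apply hi
    have h1 := hkk i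
    rw [he, Equiv.Perm.pow_apply_eq_self_of_apply_eq_self hτ₁] at h1
    exact h1.symm
  let χ : ι → E := fun i => if i = i₁ then 0 else ω⁻¹ ^ (kk i)
  have key : ∀ i, i ≠ i₁ → ∀ e : ℕ, χ ((τ ^ e) i) = ω⁻¹ ^ e * χ i := by
    intro i hi e
    have hj : (τ ^ e) i ≠ i₁ := by
      intro he
      apply hi
      refine (τ ^ e).injective ?_
      rw [he, Equiv.Perm.pow_apply_eq_self_of_apply_eq_self hτ₁]
    have hrep : rep ((τ ^ e) i) = rep i := by
      have h2 : Quotient.mk s ((τ ^ e) i) = Quotient.mk s i :=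
        Quotient.sound (Equiv.Perm.sameCycle_pow_left.mpr (Equiv.Perm.SameCycle.refl τ i))
      exact congrArg Quotient.out h2
    have h1 := hkk ((τ ^ e) i)
    rw [hrep] at h1
    have h2 : (τ ^ (e + kk i)) (rep i) = (τ ^ e) i := by
      rw [pow_add, Equiv.Perm.mul_apply, hkk]
    have h3 : ω⁻¹ ^ kk ((τ ^ e) i) = ω⁻¹ ^ (e + kk i) := by
      have hωr : ω⁻¹ ^ r = 1 := by rw [inv_pow, hω, inv_one]
      have hmod : ∀ p q : ℕ, p ≤ q → (τ ^ p) (rep i) = (τ ^ q) (rep i) → ω⁻¹ ^ p = ω⁻¹ ^ q := by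
        intro p q hpq he
        obtain ⟨n, rfl⟩ := Nat.exists_eq_add_of_le hpq
        rw [pow_add, Equiv.Perm.mul_apply] at he
        obtain ⟨m, rfl⟩ := h.moved (hne i hi) n ((τ ^ p).injective he).symm
        rw [pow_add, pow_mul, hωr, one_pow, mul_one]
      rcases le_total (kk ((τ ^ e) i)) (e + kk i) with hle | hle
      · exact hmod _ _ hle (h1.trans h2.symm)
      · exact (hmod _ _ hle (h2.trans h1.symm)).symm
    simp only [χ, if_neg hj, if_neg hi]
    rw [h3, pow_add]
  have hr1 : π ^ r = 1 := Equiv.ext fun j => perm_periodic h.mapC h.powC j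
  have ho1 : πB ^ o = 1 := Equiv.ext fun j => perm_periodic h.mapB h.powB j
  obtain ⟨e, he1, he2⟩ := Nat.chineseRemainder h.cop 1 0
  obtain ⟨e', he1', he2'⟩ := Nat.chineseRemainder h.cop 0 1
  have hωpow : ∀ n m : ℕ, n ≡ m [MOD r] → ω⁻¹ ^ n = ω⁻¹ ^ m := fun n m hnm => by
    rw [pow_eq_pow_mod n (show ω⁻¹ ^ r = 1 by rw [inv_pow, hω, inv_one]), hnm,
      ← pow_eq_pow_mod m (show ω⁻¹ ^ r = 1 by rw [inv_pow, hω, inv_one])]
  have hπ : τ ^ e = π := by
    rw [hτ, hcomm.mul_pow, pow_eq_pow_mod e ho1, pow_eq_pow_mod e hr1, he1, he2,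
      ← pow_eq_pow_mod 0 ho1, ← pow_eq_pow_mod 1 hr1, pow_zero, one_mul, pow_one]
  have hπB : τ ^ e' = πB := by
    rw [hτ, hcomm.mul_pow, pow_eq_pow_mod e' ho1, pow_eq_pow_mod e' hr1, he1', he2',
      ← pow_eq_pow_mod 1 ho1, ← pow_eq_pow_mod 0 hr1, pow_zero, mul_one, pow_one]
  refine ⟨χ, if_pos rfl, fun i hi => ?_, fun i => ?_, fun i => ?_⟩
  · simp only [χ, if_neg hi]
    exact pow_ne_zero _ (inv_ne_zero hω0)
  · by_cases hi : i = i₁
    · subst hi
      rw [(h.fix i).mpr rfl]
      simp [χ]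
    · have h1 := key i hi e
      rw [hπ, hωpow e 1 he1, pow_one] at h1
      exact h1
  · by_cases hi : i = i₁
    · subst hi
      rw [h.fixB]
    · have h1 := key i hi e'
      rw [hπB, hωpow e' 0 he1', pow_zero, one_mul] at h1
      exact h1

/-- All nontrivial eigenspaces of the first operator look alike for the second. -/
theorem Pair.sector [Fintype ι] [DecidableEq ι] [FiniteDimensional E V] [DecidableEq E]
    (h : Pair b C B π πB c d r o i₁) {ω : E} (hω : ω ^ r = 1) (hω1 : ω ≠ 1) (ζ : E) :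
    Module.finrank E (Module.End.eigenspace C ω ⊓ Module.End.eigenspace B ζ : Submodule E V) +
        (if ζ = 1 then 1 else 0) =
      Module.finrank E (Module.End.eigenspace C 1 ⊓ Module.End.eigenspace B ζ : Submodule E V) := by
  classical
  obtain ⟨χ, hχ1, hχ0, hχπ, hχB⟩ := h.exists_weight hω
  let D : Module.End E V := b.constr E fun i => χ i • b i
  let D' : Module.End E V := b.constr E fun i => (χ i)⁻¹ • b i
  have hD : ∀ i, D (b i) = χ i • b i := fun i => b.constr_basis E _ i
  have hD' : ∀ i, D' (b i) = (χ i)⁻¹ • b i := fun i => b.constr_basis E _ i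
  have hω0 : ω ≠ 0 := fun h0 => by simp [h0, h.prime.ne_zero] at hω
  have hDC : C * D = ω • (D * C) := b.ext fun i => by
    rw [Module.End.mul_apply, LinearMap.smul_apply, Module.End.mul_apply, hD, map_smul, h.mapC, map_smul,
      hD, hχπ, smul_smul, smul_smul, smul_smul]
    congr 1
    field_simp
  have hDB : B * D = D * B := b.ext fun i => by
    rw [Module.End.mul_apply, Module.End.mul_apply, hD, map_smul, h.mapB, map_smul, hD, hχB, smul_smul,
      smul_smul, mul_comm]
  have hDC' : C * D' = ω⁻¹ • (D' * C) := b.ext fun i => by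
    rw [Module.End.mul_apply, LinearMap.smul_apply, Module.End.mul_apply, hD', map_smul, h.mapC, map_smul,
      hD', hχπ, smul_smul, smul_smul, smul_smul]
    congr 1
    rw [mul_inv_rev, inv_inv]
    field_simp
  have hDB' : B * D' = D' * B := b.ext fun i => by
    rw [Module.End.mul_apply, Module.End.mul_apply, hD', map_smul, h.mapB, map_smul, hD', hχB, smul_smul,
      smul_smul, mul_comm]
  have hDD' : ∀ v, b.repr v i₁ = 0 → D (D' v) = v := by
    intro v hv
    conv_rhs => rw [← b.sum_repr v]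
    conv_lhs => rw [← b.sum_repr v]
    rw [map_sum, map_sum]
    refine Finset.sum_congr rfl fun i _ => ?_
    rw [map_smul, hD', map_smul, map_smul, hD]
    by_cases hi : i = i₁
    · subst hi
      rw [hv]
      simp
    · rw [smul_smul (χ i)⁻¹, inv_mul_cancel₀ (hχ0 i hi), one_smul]
  set U := (Module.End.eigenspace C 1 ⊓ Module.End.eigenspace B ζ : Submodule E V) with hU
  set U' := (Module.End.eigenspace C ω ⊓ Module.End.eigenspace B ζ : Submodule E V) with hU'
  have hmaps : ∀ v ∈ U, D v ∈ U' := by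
    intro v hv
    obtain ⟨hv1, hv2⟩ := Submodule.mem_inf.mp hv
    rw [Module.End.mem_eigenspace_iff] at hv1 hv2
    refine Submodule.mem_inf.mpr ⟨?_, ?_⟩ <;> rw [Module.End.mem_eigenspace_iff]
    · rw [← Module.End.mul_apply, hDC, LinearMap.smul_apply, Module.End.mul_apply, hv1, one_smul]
    · rw [← Module.End.mul_apply, hDB, Module.End.mul_apply, hv2, map_smul]
  let Dr : U →ₗ[E] U' := D.restrict hmaps
  have hsurj : Function.Surjective Dr := by
    rintro ⟨w, hw⟩
    obtain ⟨hw1, hw2⟩ := Submodule.mem_inf.mp hw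
    rw [Module.End.mem_eigenspace_iff] at hw1 hw2
    have hz : b.repr w i₁ = 0 := by
      have h1 : b.repr (C w) i₁ = b.repr w i₁ := by
        conv_lhs => rw [← b.sum_repr w, map_sum, map_sum, Finset.sum_apply']
        rw [Finset.sum_eq_single i₁]
        · simp [h.mapC, (h.fix i₁).mpr rfl, h.c₁]
        · intro j _ hj
          have hne : π j ≠ i₁ := fun he => hj (π.injective (he.trans ((h.fix i₁).mpr rfl).symm))
          simp [h.mapC, hne]
        · intro hh; exact absurd (Finset.mem_univ _) hh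
      rw [hw1, map_smul, Finsupp.smul_apply, smul_eq_mul] at h1
      have h2 : (ω - 1) * b.repr w i₁ = 0 := by rw [sub_mul, one_mul, h1, sub_self]
      exact (mul_eq_zero.mp h2).resolve_left (sub_ne_zero.mpr hω1)
    refine ⟨⟨D' w, Submodule.mem_inf.mpr ⟨?_, ?_⟩⟩, Subtype.ext (hDD' w hz)⟩
    · rw [Module.End.mem_eigenspace_iff, ← Module.End.mul_apply, hDC', LinearMap.smul_apply,
        Module.End.mul_apply, hw1, map_smul, smul_smul, inv_mul_cancel₀ hω0]
    · rw [Module.End.mem_eigenspace_iff, ← Module.End.mul_apply, hDB', Module.End.mul_apply, hw2, map_smul]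
  have hsub : ∀ v : V, D v = 0 → v = b.repr v i₁ • b i₁ := by
    intro v hv
    conv_lhs => rw [← b.sum_repr v]
    refine Finset.sum_eq_single i₁ (fun i _ hi => ?_) (fun hh => absurd (Finset.mem_univ _) hh)
    have h1 : D v = ∑ j, (b.repr v j * χ j) • b j := by
      conv_lhs => rw [← b.sum_repr v]
      rw [map_sum]
      exact Finset.sum_congr rfl fun j _ => by rw [map_smul, hD, smul_smul]
    rw [hv] at h1
    have h2 := Fintype.linearIndependent_iff.mp b.linearIndependent _ h1.symm i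
    rw [(mul_eq_zero.mp h2).resolve_right (hχ0 i hi), zero_smul]
  have hker : Module.finrank E (LinearMap.ker Dr) = if ζ = 1 then 1 else 0 := by
    split_ifs with hζ
    · subst hζ
      have hmem : b i₁ ∈ U := by
        refine Submodule.mem_inf.mpr ⟨?_, ?_⟩ <;> rw [Module.End.mem_eigenspace_iff]
        · rw [h.mapC, (h.fix i₁).mpr rfl, h.c₁]
        · rw [h.mapB, h.fixB, h.d₁]
      refine finrank_eq_one (⟨⟨b i₁, hmem⟩, Subtype.ext (by
        change D (b i₁) = 0
        rw [hD, hχ1, zero_smul])⟩ : LinearMap.ker Dr) ?_ ?_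
      · intro h0
        exact b.ne_zero i₁ (congrArg (fun x : LinearMap.ker Dr => ((x : U) : V)) h0)
      · intro x
        refine ⟨b.repr ((x : U) : V) i₁, Subtype.ext (Subtype.ext ?_)⟩
        exact (hsub _ (congrArg Subtype.val (LinearMap.mem_ker.mp x.2))).symm
    · rw [Submodule.finrank_eq_zero, LinearMap.ker_eq_bot']
      rintro ⟨v, hv⟩ hv0
      have h1 := hsub v (congrArg Subtype.val hv0)
      have h2 := Module.End.mem_eigenspace_iff.mp (Submodule.mem_inf.mp hv).2
      rw [h1, map_smul, h.mapB, h.fixB, h.d₁, one_smul] at h2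
      have h3 : ((ζ - 1) * b.repr v i₁) • b i₁ = 0 := by
        rw [sub_mul, one_mul, sub_smul, ← smul_smul, ← h2, sub_self]
      refine Subtype.ext ?_
      change v = 0
      rw [h1, (mul_eq_zero.mp ((smul_eq_zero.mp h3).resolve_right (b.ne_zero i₁))).resolve_left
        (sub_ne_zero.mpr hζ), zero_smul]
  have hrn := Dr.finrank_range_add_finrank_ker
  rw [LinearMap.range_eq_top.mpr hsurj, finrank_top, hker] at hrn
  exact hrn

end Cfsg.Agent.Turull
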