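import Cfsg.Agent.Turull.Dichotomy
import Cfsg.Agent.Turull.Sector
import Cfsg.Agent.Turull.PermBasis
import Cfsg.Agent.Turull.Counts

/-!
An operator of odd prime order that commutes with the intertwiner and is trivial on one of its
eigenspaces moves few lines.
-/

set_option autoImplicit false
set_option maxHeartbeats 1000000

namespace Cfsg.Agent.Turull

open Module

variable {E : Type*} [Field E] {V : Type*} [AddCommGroup V] [Module E V] {ι : Type*}

/-- Conjugation by an operator with given inverse. -/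
noncomputable def conjBy (a a' : Module.End E V) : Module.End E (Module.End E V) :=
  (LinearMap.mulLeft E a).comp (LinearMap.mulRight E a')

theorem conjBy_apply (a a' X : Module.End E V) : conjBy a a' X = a * X * a' := by
  simp [conjBy, mul_assoc]

/-- The basis of matrix units. -/
noncomputable def unitBasis [Fintype ι] [DecidableEq ι] (e : Basis ι E V) :
    Basis (ι × ι) E (Module.End E V) :=
  Basis.mk (unitE_indep e) (by
    intro X _
    have : X = ∑ pq : ι × ι, e.repr (X (e pq.2)) pq.1 • unitE e pq := by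
      refine e.ext fun k => ?_
      rw [LinearMap.sum_apply, Fintype.sum_prod_type]
      simp only [LinearMap.smul_apply, unitE_apply, smul_ite, smul_zero, Finset.sum_ite_eq,
        Finset.mem_univ, if_true]
      rw [e.sum_repr]
    rw [this]
    exact Submodule.sum_mem _ fun pq _ => Submodule.smul_mem _ _ (Submodule.subset_span ⟨pq, rfl⟩))

theorem unitBasis_apply [Fintype ι] [DecidableEq ι] (e : Basis ι E V) (pq : ι × ι) :
    unitBasis e pq = unitE e pq := by rw [unitBasis, Basis.mk_apply]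

theorem conjBy_unit [Fintype ι] [DecidableEq ι] {e : Basis ι E V} {f f' : Module.End E V}
    {d : ι → E} {π : Equiv.Perm ι} (hf : ∀ i, f (e i) = d i • e (π i)) (hff : f * f' = 1)
    (hff' : f' * f = 1) (hd : ∀ i, d i ≠ 0) (pq : ι × ι) :
    conjBy f f' (unitBasis e pq) = (d pq.1 * (d pq.2)⁻¹) • unitBasis e (π pq.1, π pq.2) := by
  obtain ⟨p, q⟩ := pq
  rw [conjBy_apply, unitBasis_apply, unitBasis_apply]
  refine e.ext fun k => ?_
  obtain ⟨j, rfl⟩ := π.surjective k
  have hj : f' (e (π j)) = (d j)⁻¹ • e j := by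
    have h1 := congrArg f' (hf j)
    rw [← Module.End.mul_apply, hff', Module.End.one_apply, map_smul] at h1
    rw [h1, smul_smul, inv_mul_cancel₀ (hd j), one_smul]
  rw [Module.End.mul_apply, Module.End.mul_apply, hj, map_smul, LinearMap.smul_apply, unitE_apply,
    unitE_apply]
  by_cases hjq : j = q
  · subst hjq
    rw [if_pos rfl, if_pos rfl, map_smul, hf, smul_smul, mul_comm]
  · rw [if_neg hjq, if_neg (fun h => hjq (π.injective h))]
    simp

/-- The data of a commuting pair on a space and on its operators. -/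
structure Classy {Q : Type*} (bb : Basis Q E (Module.End E V)) (a a' b b' : Module.End E V) (c : E)
    (π πB : Equiv.Perm Q) (cQ dQ : Q → E) (r o : ℕ) (i₁ : Q) : Prop where
  inv : a * a' = 1
  inv' : a' * a = 1
  apow : a ^ r = c • (1 : Module.End E V)
  cne : c ≠ 0
  binv : b * b' = 1
  binv' : b' * b = 1
  bpow : b ^ o = 1
  comm : Commute b a
  pair : Pair bb (conjBy a a') (conjBy b b') π πB cQ dQ r o i₁
  oprime : o.Prime
  rne : (r : E) ≠ 0

variable {Q : Type*} {bb : Basis Q E (Module.End E V)} {a a' b b' : Module.End E V} {c : E}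
  {π πB : Equiv.Perm Q} {cQ dQ : Q → E} {r o : ℕ} {i₁ : Q}

namespace Classy

theorem monoC (h : Classy bb a a' b b' c π πB cQ dQ r o i₁) : Mono bb (conjBy a a') π cQ r :=
  ⟨h.pair.mapC, h.pair.prime, h.pair.powC⟩

theorem monoB (h : Classy bb a a' b b' c π πB cQ dQ r o i₁) : Mono bb (conjBy b b') πB dQ o :=
  ⟨h.pair.mapB, h.oprime, h.pair.powB⟩

theorem lam_ne (h : Classy bb a a' b b' c π πB cQ dQ r o i₁) {e : Basis ι E V} {lam : ι → E}
    (he : ∀ i, a (e i) = lam i • e i) (i : ι) : lam i ≠ 0 := fun h0 => by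
  have h1 := congrArg a' (he i)
  rw [h0, zero_smul, map_zero, ← Module.End.mul_apply, h.inv'] at h1
  exact e.ne_zero i h1

theorem d_ne (h : Classy bb a a' b b' c π πB cQ dQ r o i₁) {e : Basis ι E V} {d : ι → E}
    {p : Equiv.Perm ι} (hb : ∀ i, b (e i) = d i • e (p i)) (i : ι) : d i ≠ 0 := fun h0 => by
  have h1 := congrArg b' (hb i)
  rw [h0, zero_smul, map_zero, ← Module.End.mul_apply, h.binv'] at h1
  exact e.ne_zero i h1

theorem lam_pow (h : Classy bb a a' b b' c π πB cQ dQ r o i₁) {e : Basis ι E V} {lam : ι → E}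
    (he : ∀ i, a (e i) = lam i • e i) (i : ι) : lam i ^ r = c := by
  have h1 : ∀ k : ℕ, (a ^ k) (e i) = lam i ^ k • e i := by
    intro k
    induction k with
    | zero => simp
    | succ k ih => rw [pow_succ', Module.End.mul_apply, ih, map_smul, he, smul_smul, pow_succ]
  have h2 := h1 r
  rw [h.apow] at h2
  exact (smul_left_injective E (e.ne_zero i) h2).symm

section key

variable [Fintype Q] [DecidableEq Q] [Fintype ι] [DecidableEq ι] [DecidableEq E] [IsAlgClosed E]
  [FiniteDimensional E V] (h : Classy bb a a' b b' c π πB cQ dQ r o i₁) {e : Basis ι E V} {lam : ι → E}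
  (he : ∀ i, a (e i) = lam i • e i)

include h he

theorem conjA (pq : ι × ι) :
    conjBy a a' (unitBasis e pq) = (lam pq.1 * (lam pq.2)⁻¹) • unitBasis e pq :=
  conjBy_unit (π := Equiv.refl ι) he h.inv h.inv' (h.lam_ne he) pq

theorem card_pairs :
    Fintype.card ι ^ 2 + (r - 1) =
      r * (Finset.univ.filter fun pq : ι × ι => lam pq.1 = lam pq.2).card := by
  have e1 := h.monoC.finrank_eigen (ζ := (1 : E)) (one_pow r)
  have hM : Mono (unitBasis e) (conjBy a a') (Equiv.refl _) (fun pq => lam pq.1 * (lam pq.2)⁻¹) r :=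
    ⟨h.conjA he, h.pair.prime, h.pair.powC⟩
  have e2 := hM.finrank_eigen (ζ := (1 : E)) (one_pow r)
  have hs1 : (Finset.univ.filter fun q => π q ≠ q) = Finset.univ.erase i₁ := by
    ext q
    simp [h.pair.fix]
  have hs2 : (Finset.univ.filter fun q => π q = q ∧ cQ q = 1) = {i₁} := by
    ext q
    simp only [Finset.mem_filter, Finset.mem_univ, true_and, Finset.mem_singleton, h.pair.fix]
    exact ⟨fun hq => hq.1, fun hq => ⟨hq, hq ▸ h.pair.c₁⟩⟩
  have hs3 : (Finset.univ.filter fun pq : ι × ι => (Equiv.refl _) pq ≠ pq) = ∅ := by simp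
  have hs4 : (Finset.univ.filter fun pq : ι × ι => (Equiv.refl _) pq = pq ∧ lam pq.1 * (lam pq.2)⁻¹ = 1) =
      Finset.univ.filter fun pq : ι × ι => lam pq.1 = lam pq.2 := by
    ext pq
    simp [mul_inv_eq_one₀ (h.lam_ne he pq.2)]
  rw [hs3, hs4, Finset.card_empty, zero_add, e1, hs1, hs2, Finset.card_singleton,
    Finset.card_erase_of_mem (Finset.mem_univ _), Finset.card_univ] at e2
  have hQ : Fintype.card Q = Fintype.card ι ^ 2 := by
    rw [← Module.finrank_eq_card_basis bb, Module.finrank_eq_card_basis (unitBasis e), Fintype.card_prod, sq]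
  have hpos : 0 < Fintype.card Q := Fintype.card_pos_iff.mpr ⟨i₁⟩
  have := h.pair.prime.one_le
  rw [← hQ, ← e2]
  omega

/-- The equation between the trivial sector and the others. -/
theorem key {d : ι → E} {p : Equiv.Perm ι} (hb : ∀ i, b (e i) = d i • e (p i))
    (hlam : ∀ i, lam (p i) = lam i) :
    (r - 1) * o + ((Finset.univ.filter fun pq : ι × ι => ¬ (p pq.1 = pq.1 ∧ p pq.2 = pq.2)).card +
        o * (Finset.univ.filter fun pq : ι × ι => (p pq.1 = pq.1 ∧ p pq.2 = pq.2) ∧ d pq.1 = d pq.2).card) =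
      r * ((Finset.univ.filter fun pq : ι × ι =>
          lam pq.1 = lam pq.2 ∧ ¬ (p pq.1 = pq.1 ∧ p pq.2 = pq.2)).card +
        o * (Finset.univ.filter fun pq : ι × ι =>
          lam pq.1 = lam pq.2 ∧ (p pq.1 = pq.1 ∧ p pq.2 = pq.2) ∧ d pq.1 = d pq.2).card) := by
  classical
  haveI : NeZero (r : E) := ⟨h.rne⟩
  obtain ⟨ω₀, hω₀⟩ := HasEnoughRootsOfUnity.exists_primitiveRoot E r
  set Ω := Polynomial.nthRootsFinset r (1 : E) with hΩ
  have hΩc : Ω.card = r := hω₀.card_nthRootsFinset
  have hr0 : 0 < r := h.pair.prime.pos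
  have h1Ω : (1 : E) ∈ Ω := (Polynomial.mem_nthRootsFinset hr0 (1 : E)).mpr (one_pow r)
  let R : ι × ι → E := fun pq => lam pq.1 * (lam pq.2)⁻¹
  have hR : ∀ pq, R pq ∈ Ω := fun pq => by
    rw [hΩ, Polynomial.mem_nthRootsFinset hr0]
    rw [mul_pow, inv_pow, h.lam_pow he, h.lam_pow he, mul_inv_cancel₀ h.cne]
  have hR1 : ∀ pq, R pq = 1 ↔ lam pq.1 = lam pq.2 := fun pq => mul_inv_eq_one₀ (h.lam_ne he pq.2)
  let P : Equiv.Perm (ι × ι) := Equiv.prodCongr p p
  let dd : ι × ι → E := fun pq => d pq.1 * (d pq.2)⁻¹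
  have hdd : ∀ pq, dd pq = 1 ↔ d pq.1 = d pq.2 := fun pq => mul_inv_eq_one₀ (h.d_ne hb pq.2)
  have hM : Mono (unitBasis e) (conjBy b b') P dd o :=
    ⟨conjBy_unit hb h.binv h.binv' (h.d_ne hb), h.oprime, h.pair.powB⟩
  have hRP : ∀ pq, R (P pq) = R pq := fun pq => by
    simp only [R, P, Equiv.prodCongr_apply, Prod.map_fst, Prod.map_snd, hlam]
  let g : E → ℕ := fun ω =>
    (Finset.univ.filter fun pq : ι × ι => R pq = ω ∧ P pq ≠ pq).card +
      o * (Finset.univ.filter fun pq : ι × ι => R pq = ω ∧ P pq = pq ∧ dd pq = 1).card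
  have hg : ∀ ω ∈ Ω, ω ≠ 1 → g ω + o = g 1 := by
    intro ω hω hω1
    have h1 := h.pair.sector ((Polynomial.mem_nthRootsFinset hr0 (1 : E)).mp hω) hω1 (1 : E)
    rw [if_pos rfl] at h1
    simp only [g]
    rw [← hM.finrank_inf (h.conjA he) hRP ω (one_pow o), ← hM.finrank_inf (h.conjA he) hRP 1 (one_pow o), ← h1]
    ring
  have hsum : ∑ ω ∈ Ω, g ω + (r - 1) * o = r * g 1 := by
    rw [← Finset.add_sum_erase Ω _ h1Ω, add_assoc, ← hΩc, ← Finset.card_erase_of_mem h1Ω]
    have h2 : ∑ ω ∈ Ω.erase 1, g ω + (Ω.erase 1).card * o = (Ω.erase 1).card * g 1 := by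
      rw [← smul_eq_mul, ← Finset.sum_const, ← Finset.sum_add_distrib,
        Finset.sum_congr rfl fun ω hω => hg ω (Finset.mem_of_mem_erase hω) (Finset.ne_of_mem_erase hω),
        Finset.sum_const, smul_eq_mul]
    rw [h2, Finset.card_erase_of_mem h1Ω]
    obtain ⟨j, hj⟩ := Nat.exists_eq_add_of_le (Nat.one_le_iff_ne_zero.mpr (hΩc.trans_ne hr0.ne'))
    rw [hj, Nat.add_sub_cancel_left]
    ring
  have hfib : ∀ q : ι × ι → Prop, ∀ [DecidablePred q],
      ∑ ω ∈ Ω, (Finset.univ.filter fun pq : ι × ι => R pq = ω ∧ q pq).card =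
        (Finset.univ.filter fun pq : ι × ι => q pq).card := by
    intro q _
    rw [Finset.card_eq_sum_card_fiberwise (f := R) (t := Ω) (fun pq _ => hR pq)]
    refine Finset.sum_congr rfl fun ω _ => ?_
    rw [Finset.filter_filter]
    congr 1
    exact Finset.filter_congr fun pq _ => and_comm
  simp only [g, Finset.sum_add_distrib, ← Finset.mul_sum, hfib] at hsum
  have hP : ∀ pq : ι × ι, P pq = pq ↔ p pq.1 = pq.1 ∧ p pq.2 = pq.2 := fun pq => by
    simp [P, Prod.ext_iff]
  simp only [ne_eq, hP, hdd, hR1] at hsum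
  rw [← hsum]
  ring

end key

theorem one_apply_fix (h : Classy bb a a' b b' c π πB cQ dQ r o i₁) {q : Q} (hb1 : b = 1) :
    πB q = q := by
  classical
  have hb' : b' = 1 := by rw [← one_mul b', ← hb1, h.binv, hb1]
  have h1 := h.pair.mapB q
  rw [conjBy_apply, hb1, hb', one_mul, mul_one] at h1
  by_contra hne
  have h2 := congrArg (fun v => bb.repr v q) h1
  simp [Finsupp.single_apply, hne] at h2

theorem exists_common_basis [IsAlgClosed E] [FiniteDimensional E V] (h : Classy bb a a' b b' c π πB cQ dQ r o i₁)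
    (ho : (o : E) ≠ 0) :
    ∃ (s : Set V) (_ : Fintype s) (e : Basis s E V) (lam d : s → E),
      (∀ i, a (e i) = lam i • e i) ∧ ∀ i, b (e i) = d i • e i := by
  classical
  have hcop := h.pair.cop
  obtain ⟨k, hk1, hk2⟩ := Nat.chineseRemainder hcop 1 0
  obtain ⟨l, hl1, hl2⟩ := Nat.chineseRemainder hcop 0 1
  have hab : (b * a) ^ (r * o) = c ^ o • (1 : Module.End E V) := by
    rw [h.comm.mul_pow, mul_comm r o, pow_mul, h.bpow, one_pow, one_mul, mul_comm o r, pow_mul, h.apow,
      smul_pow, one_pow]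
  have hak : ∀ n : ℕ, a ^ n = c ^ (n / r) • a ^ (n % r) := fun n => by
    conv_lhs => rw [← Nat.div_add_mod n r, pow_add, pow_mul, h.apow, smul_pow, one_pow, smul_mul_assoc, one_mul]
  have hbk : ∀ n : ℕ, b ^ n = b ^ (n % o) := fun n => pow_eq_pow_mod n h.bpow
  let s : Set V := {v | ∃ μ : E, μ ≠ 0 ∧ (b * a) v = μ • v}
  have hs : ⊤ ≤ Submodule.span E s := fun v _ =>
    eigen_induction (f := b * a) (P := fun w => w ∈ Submodule.span E s)
      (o := r * o) (by rw [Nat.cast_mul]; exact mul_ne_zero h.rne ho) (pow_ne_zero o h.cne) hab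
      (Submodule.zero_mem _) (fun x y hx hy => Submodule.add_mem _ hx hy)
      (fun μ w hμ hw => Submodule.subset_span ⟨μ, fun h0 => pow_ne_zero o h.cne (by
        rw [← hμ, h0, zero_pow (Nat.mul_ne_zero h.pair.prime.ne_zero h.oprime.ne_zero)]), hw⟩) v
  let e := Basis.ofSpan hs
  haveI := FiniteDimensional.fintypeBasisIndex e
  have hmem : ∀ i, e i ∈ s := fun i => Basis.ofSpan_subset hs ⟨i, rfl⟩
  choose μ hμ0 hμ using hmem
  have hpow : ∀ n i, (b ^ n) ((a ^ n) (e i)) = μ i ^ n • e i := by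
    intro n i
    rw [← Module.End.mul_apply, ← h.comm.mul_pow]
    induction n with
    | zero => simp
    | succ n ih => rw [pow_succ', Module.End.mul_apply, ih, map_smul, hμ, smul_smul, pow_succ]
  have hr1 : k % r = 1 := by rw [hk1, Nat.one_mod_eq_one.mpr h.pair.prime.ne_one]
  have ho1 : l % o = 1 := by rw [hl2, Nat.one_mod_eq_one.mpr h.oprime.ne_one]
  refine ⟨_, inferInstance, e, fun i => (c ^ (k / r))⁻¹ * μ i ^ k, fun i => (c ^ (l / r))⁻¹ * μ i ^ l,
    fun i => ?_, fun i => ?_⟩
  · have h1 := hpow k i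
    rw [hak, hbk, hk2, Nat.zero_mod, pow_zero, Module.End.one_apply, hr1, pow_one, LinearMap.smul_apply] at h1
    rw [← smul_smul, ← h1, smul_smul, inv_mul_cancel₀ (pow_ne_zero _ h.cne), one_smul]
  · have h1 := hpow l i
    rw [hak, hbk, ho1, pow_one, hl1, Nat.zero_mod, pow_zero, LinearMap.smul_apply, Module.End.one_apply,
      map_smul] at h1
    rw [← smul_smul, ← h1, smul_smul, inv_mul_cancel₀ (pow_ne_zero _ h.cne), one_smul]

/-- The semisimple case. -/
theorem semisimple [Fintype Q] [DecidableEq Q] [IsAlgClosed E] [FiniteDimensional E V]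
    (h : Classy bb a a' b b' c π πB cQ dQ r o i₁) (ho : (o : E) ≠ 0)
    (hall : ∀ μ : E, μ ^ r = c → ∃ v, v ≠ 0 ∧ a v = μ • v) {l₀ : E} (hl₀ : l₀ ^ r = c)
    (hJ : ∀ v, a v = l₀ • v → b v = v) (hodd : 3 ≤ o) {q₀ : Q} (hq₀ : πB q₀ ≠ q₀) :
    o = 3 ∧ Fintype.card Q ≤ 4 * (Finset.univ.filter fun q => πB q = q).card := by
  classical
  obtain ⟨s, _, e, lam, d, he, hb⟩ := h.exists_common_basis ho
  have hall' : ∀ μ : E, μ ^ r = c → ∃ i, lam i = μ := by
    intro μ hμ
    obtain ⟨v, hv0, hv⟩ := hall μ hμ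
    by_contra hno
    push Not at hno
    refine hv0 (e.repr.injective (Finsupp.ext fun i => ?_))
    have h1 : a v = ∑ j, (e.repr v j * lam j) • e j := by
      conv_lhs => rw [← e.sum_repr v, map_sum]
      exact Finset.sum_congr rfl fun j _ => by rw [map_smul, he, smul_smul]
    have h2 : e.repr (a v) i = e.repr v i * lam i := by rw [h1, e.repr_sum_self]
    rw [hv, map_smul, Finsupp.smul_apply, smul_eq_mul] at h2
    have h3 : (lam i - μ) * e.repr v i = 0 := by rw [sub_mul, mul_comm, ← h2, sub_self]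
    rw [map_zero, Finsupp.zero_apply]
    exact (mul_eq_zero.mp h3).resolve_left (sub_ne_zero.mpr (hno i))
  have hd1 : ∀ i, lam i = l₀ → d i = 1 := by
    intro i hi
    have h1 := hJ (e i) (by rw [he, hi])
    rw [hb] at h1
    exact smul_left_injective E (e.ne_zero i) (h1.trans (one_smul E (e i)).symm)
  haveI : NeZero (r : E) := ⟨h.rne⟩
  obtain ⟨ω₀, hω₀⟩ := HasEnoughRootsOfUnity.exists_primitiveRoot E r
  let Λ := Finset.univ.image lam
  have hl₀ne : l₀ ≠ 0 := fun h0 => h.cne (by rw [← hl₀, h0, zero_pow h.pair.prime.ne_zero])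
  have hΛ : Λ.card = r := by
    rw [← hω₀.card_nthRootsFinset]
    symm
    refine Finset.card_bij (fun ω _ => ω * l₀) (fun ω hω => ?_) (fun _ _ _ _ h1 => mul_right_cancel₀ hl₀ne h1) ?_
    · rw [Polynomial.mem_nthRootsFinset h.pair.prime.pos] at hω
      obtain ⟨i, hi⟩ := hall' (ω * l₀) (by rw [mul_pow, hω, hl₀, one_mul])
      exact hi ▸ Finset.mem_image_of_mem _ (Finset.mem_univ i)
    · intro μ hμ
      obtain ⟨i, -, rfl⟩ := Finset.mem_image.mp hμ
      refine ⟨lam i * l₀⁻¹, ?_, inv_mul_cancel_right₀ hl₀ne _⟩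
      rw [Polynomial.mem_nthRootsFinset h.pair.prime.pos, mul_pow, inv_pow, h.lam_pow he, hl₀,
        mul_inv_cancel₀ h.cne]
  let H := Finset.univ.image d
  let n : E → E → ℕ := fun η μ => (Finset.univ.filter fun i => d i = η ∧ lam i = μ).card
  have hF : ∀ η, (Finset.univ.filter fun i => d i = η).card = ∑ μ ∈ Λ, n η μ := fun η => by
    rw [Finset.card_eq_sum_card_fiberwise (f := lam) (t := Λ)
      (fun i _ => Finset.mem_image_of_mem _ (Finset.mem_univ i))]
    exact Finset.sum_congr rfl fun μ _ => by rw [Finset.filter_filter]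
  have hkey := h.key he (d := d) (p := Equiv.refl _) hb (fun _ => rfl)
  simp only [Equiv.refl_apply, and_self, not_true_eq_false, Finset.filter_false, Finset.card_empty,
    zero_add, true_and, and_false] at hkey
  have htot : (Finset.univ.filter fun pq : s × s => d pq.1 = d pq.2).card = ∑ η ∈ H, (∑ μ ∈ Λ, n η μ) ^ 2 := by
    have := pairs_count (Finset.univ : Finset s) d H (fun i _ => Finset.mem_image_of_mem _ (Finset.mem_univ i))
    simp only [Finset.univ_product_univ, hF] at this
    exact this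
  have hone : (Finset.univ.filter fun pq : s × s => lam pq.1 = lam pq.2 ∧ d pq.1 = d pq.2).card =
      ∑ η ∈ H, ∑ μ ∈ Λ, n η μ ^ 2 := by
    have := pairs_count (Finset.univ : Finset s) (fun i => (d i, lam i)) (H ×ˢ Λ) (fun i _ =>
      Finset.mem_product.mpr ⟨Finset.mem_image_of_mem _ (Finset.mem_univ i),
        Finset.mem_image_of_mem _ (Finset.mem_univ i)⟩)
    simp only [Finset.univ_product_univ, Prod.ext_iff, Finset.sum_product] at this
    rw [← this]
    congr 1
    exact Finset.filter_congr fun pq _ => and_comm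
  rw [htot, hone, ← mul_assoc, mul_comm r o, mul_assoc, mul_comm (r - 1) o, ← mul_add,
    Nat.mul_left_cancel_iff h.oprime.pos] at hkey
  -- only one nontrivial eigenvalue
  have hone' : (H.erase 1).card ≤ 1 := by
    have h1 : ∀ η ∈ H, (∑ μ ∈ Λ, n η μ) ^ 2 + (if η = 1 then 0 else r - 1) ≤ r * ∑ μ ∈ Λ, n η μ ^ 2 := by
      intro η hη
      rw [← hΛ]
      split_ifs with h1
      · exact sq_sum_le_card_mul_sum_sq
      · obtain ⟨i, hi⟩ := hall' l₀ hl₀
        obtain ⟨j, -, hj⟩ := Finset.mem_image.mp hη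
        refine column Λ (n η) (x₀ := lam i) (Finset.mem_image_of_mem _ (Finset.mem_univ i)) ?_
          ⟨lam j, Finset.mem_image_of_mem _ (Finset.mem_univ j), ?_⟩
        · refine Finset.card_eq_zero.mpr (Finset.filter_eq_empty_iff.mpr fun x _ hx => h1 ?_)
          rw [← hx.1, hd1 x (hx.2.trans hi)]
        · exact Finset.card_ne_zero.mpr ⟨j, Finset.mem_filter.mpr ⟨Finset.mem_univ _, hj, rfl⟩⟩
    have h2 := Finset.sum_le_sum h1
    rw [Finset.sum_add_distrib, ← Finset.mul_sum, ← hkey, Finset.sum_ite, Finset.sum_const_zero, zero_add,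
      Finset.sum_const, smul_eq_mul, add_comm, Finset.filter_ne'] at h2
    have h3 : (H.erase 1).card * (r - 1) ≤ 1 * (r - 1) := by omega
    exact Nat.le_of_mul_le_mul_right h3 (by have := h.pair.prime.two_le; omega)
  obtain ⟨i₂, hi₂⟩ : ∃ i, d i ≠ 1 := by
    by_contra hno
    push Not at hno
    exact hq₀ (h.one_apply_fix (e.ext fun i => by rw [hb, hno, one_smul]; rfl))
  set η := d i₂ with hη
  have hdv : ∀ i, d i = 1 ∨ d i = η := fun i => or_iff_not_imp_left.mpr fun hi =>
    Finset.card_le_one.mp hone' _ (Finset.mem_erase.mpr ⟨hi, Finset.mem_image_of_mem _ (Finset.mem_univ i)⟩)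
      _ (Finset.mem_erase.mpr ⟨hi₂, Finset.mem_image_of_mem _ (Finset.mem_univ i₂)⟩)
  let hM : Mono (unitBasis e) (conjBy b b') (Equiv.refl _) (fun pq => d pq.1 * (d pq.2)⁻¹) o :=
    ⟨conjBy_unit (π := Equiv.refl _) hb h.binv h.binv' (h.d_ne (p := Equiv.refl _) hb), h.oprime, h.pair.powB⟩
  have hcount : ∀ ζ : E, ζ ^ o = 1 → (Finset.univ.filter fun q => πB q ≠ q).card ≤
      o * (Finset.univ.filter fun pq : s × s => d pq.1 * (d pq.2)⁻¹ = ζ).card := by
    intro ζ hζ
    have e1 := h.monoB.finrank_eigen hζ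
    have e2 := hM.finrank_eigen hζ
    simp only [Equiv.refl_apply, ne_eq, not_true_eq_false, Finset.filter_false, Finset.card_empty,
      zero_add, true_and] at e2
    rw [← e2, e1]
    exact Nat.le_add_right _ _
  have hmoved : 0 < (Finset.univ.filter fun q => πB q ≠ q).card :=
    Finset.card_pos.mpr ⟨q₀, Finset.mem_filter.mpr ⟨Finset.mem_univ _, hq₀⟩⟩
  have hdo : η ^ o = 1 := by
    have h1 : ∀ k : ℕ, (b ^ k) (e i₂) = η ^ k • e i₂ := by
      intro k
      induction k with
      | zero => simp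
      | succ k ih => rw [pow_succ', Module.End.mul_apply, ih, map_smul, hb, smul_smul, pow_succ]
    have h2 := h1 o
    rw [h.bpow, Module.End.one_apply] at h2
    exact (smul_left_injective E (e.ne_zero i₂) ((one_smul E _).trans h2)).symm
  have ho3 : o = 3 := by
    haveI : NeZero (o : E) := ⟨ho⟩
    obtain ⟨ζ₀, hζ₀⟩ := HasEnoughRootsOfUnity.exists_primitiveRoot E o
    have hsub : Polynomial.nthRootsFinset o (1 : E) ⊆ {1, η, η⁻¹} := by
      intro ζ hζ
      have h1 := hmoved.trans_le (hcount ζ ((Polynomial.mem_nthRootsFinset h.oprime.pos (1 : E)).mp hζ))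
      obtain ⟨pq, hpq⟩ := Finset.card_pos.mp (Nat.pos_of_mul_pos_left h1)
      rw [← (Finset.mem_filter.mp hpq).2]
      simp only [Finset.mem_insert, Finset.mem_singleton]
      rcases hdv pq.1 with h2 | h2 <;> rcases hdv pq.2 with h3 | h3 <;> rw [h2, h3]
      · exact Or.inl (by rw [inv_one, mul_one])
      · exact Or.inr (Or.inr (one_mul _))
      · exact Or.inr (Or.inl (by rw [inv_one, mul_one]))
      · exact Or.inl (mul_inv_cancel₀ (h.d_ne (p := Equiv.refl _) hb i₂))
    have h1 := (Finset.card_le_card hsub).trans Finset.card_le_three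
    rw [hζ₀.card_nthRootsFinset] at h1
    have := hodd
    omega
  refine ⟨ho3, ?_⟩
  have hηη : η⁻¹ ≠ η := by
    intro h1
    have h2 : η * η = 1 := by
      nth_rw 1 [← h1]
      exact inv_mul_cancel₀ (h.d_ne (p := Equiv.refl _) hb i₂)
    rw [ho3] at hdo
    exact hi₂ (by linear_combination (norm := ring_nf) hdo - η * h2)
  have hAB : (Finset.univ.filter fun pq : s × s => d pq.1 * (d pq.2)⁻¹ = η) =
      (Finset.univ.filter fun i => d i = η) ×ˢ (Finset.univ.filter fun i => ¬ d i = η) := by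
    ext ⟨i, j⟩
    simp only [Finset.mem_filter, Finset.mem_univ, true_and, Finset.mem_product]
    constructor
    · intro h1
      rcases hdv i with h2 | h2 <;> rcases hdv j with h3 | h3 <;> rw [h2, h3] at h1
      · simp at h1; exact absurd h1.symm hi₂
      · rw [one_mul] at h1; exact absurd h1 hηη
      · exact ⟨h2, by rw [h3]; exact fun h => hi₂ h.symm⟩
      · rw [mul_inv_cancel₀ (h.d_ne (p := Equiv.refl _) hb i₂)] at h1; exact absurd h1.symm hi₂
    · rintro ⟨h1, h2⟩
      rw [h1, (hdv j).resolve_right h2, inv_one, mul_one]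
  have h1 := hcount η hdo
  rw [hAB, Finset.card_product, ho3] at h1
  have hAB' := Finset.card_filter_add_card_filter_not (s := (Finset.univ : Finset s)) (fun i => d i = η)
  have hQ : Fintype.card Q = Fintype.card s ^ 2 := by
    rw [← Module.finrank_eq_card_basis bb, Module.finrank_eq_card_basis (unitBasis e), Fintype.card_prod, sq]
  have hFQ := Finset.card_filter_add_card_filter_not (s := (Finset.univ : Finset Q)) (fun q => πB q = q)
  rw [Finset.card_univ] at hAB' hFQ
  nlinarith [four_mul_le_pow_two_add (Finset.univ.filter fun i => d i = η).card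
    (Finset.univ.filter fun i => ¬ d i = η).card]

/-- Vectors fixed and hit by `b - 1` are hit by its top power. -/
theorem summand_property [Fintype Q] [DecidableEq Q] [IsAlgClosed E] [FiniteDimensional E V] [CharP E o]
    [Fact o.Prime] (h : Classy bb a a' b b' c π πB cQ dQ r o i₁) {l₀ : E} (hl₀ : l₀ ^ r = c) {v₀ : V}
    (hv₀ : v₀ ≠ 0) (hv₀a : a v₀ = l₀ • v₀) (hJ : ∀ v, a v = l₀ • v → b v = v) {v : V}
    (hv : (b - 1) v = 0) (hvw : ∃ w, (b - 1) w = v) : ∃ z, ((b - 1) ^ (o - 1)) z = v := by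
  classical
  obtain ⟨w, hw⟩ := hvw
  have hl₀ne : l₀ ≠ 0 := fun h0 => h.cne (by rw [← hl₀, h0, zero_pow h.pair.prime.ne_zero])
  obtain ⟨φ, hφ⟩ := Projective.exists_dual_eq_one E hv₀
  let P₀ := eigProj a r l₀
  let f : V →ₗ[E] E := φ.comp P₀
  have hf₀ : f v₀ = 1 := by
    change φ (P₀ v₀) = 1
    rw [eigProj_apply_eigen h.rne hl₀ne hv₀a, hφ]
  have hfb : ∀ x, f (b x) = f x := by
    intro x
    change φ (P₀ (b x)) = φ (P₀ x)
    rw [← Module.End.mul_apply P₀ b, ← (eigProj_comm h.comm r l₀).eq, Module.End.mul_apply,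
      hJ _ (apply_eigProj h.apow hl₀ne hl₀ x)]
  have hfb' : ∀ x, f (b' x) = f x := fun x => by
    rw [← hfb (b' x), ← Module.End.mul_apply b b', h.binv]; rfl
  set B := conjBy b b' with hB
  have hBf : ∀ x, B (f.smulRight x) = f.smulRight (b x) := fun x => by
    refine LinearMap.ext fun y => ?_
    rw [hB, conjBy_apply, Module.End.mul_apply, Module.End.mul_apply, LinearMap.smulRight_apply,
      LinearMap.smulRight_apply, map_smul, hfb']
  set X : Module.End E V := f.smulRight v with hX
  have hsub : ∀ x, (b - 1) x = b x - x := fun x => by rw [LinearMap.sub_apply, Module.End.one_apply]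
  rw [hsub, sub_eq_zero] at hv
  rw [hsub] at hw
  have hBX : B X = X := by rw [hX, hBf, hv]
  have hBY : X = B (f.smulRight w) - f.smulRight w := by
    rw [hBf, hX, ← hw]
    refine LinearMap.ext fun y => ?_
    simp [smul_sub]
  have hM := h.monoB
  have hcoef : ∀ (Y : Module.End E V) q, bb.repr (B Y) (πB q) = dQ q * bb.repr Y q := by
    intro Y q
    conv_lhs => rw [← bb.sum_repr Y, map_sum, map_sum, Finset.sum_apply']
    rw [Finset.sum_eq_single q]
    · simp [hB, h.pair.mapB, mul_comm]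
    · intro j _ hj
      simp [hB, h.pair.mapB, πB.injective.ne hj]
    · intro hj; exact absurd (Finset.mem_univ q) hj
  obtain ⟨T, hTm, hTc, hTi⟩ := hM.exists_transversal
  let Z := ∑ t ∈ T, bb.repr X t • bb t
  let S := ∑ k ∈ Finset.range o, B ^ k
  have hBS : ∀ Y, B (S Y) = S Y := by
    intro Y
    have h1 : B * S = S := by
      simp only [S, Finset.mul_sum, ← pow_succ']
      have h2 := Finset.sum_range_succ' (fun k => B ^ k) o
      rw [Finset.sum_range_succ, show B ^ o = 1 from hM.pow, pow_zero] at h2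
      exact (add_right_cancel h2).symm
    rw [← Module.End.mul_apply, h1]
  have hfixco : ∀ q, πB q = q → bb.repr X q = 0 := by
    intro q hq
    have hd1 : dQ q = 1 := by
      have h1 : ∀ k : ℕ, (B ^ k) (bb q) = dQ q ^ k • bb q := by
        intro k
        induction k with
        | zero => simp
        | succ k ih => rw [pow_succ', Module.End.mul_apply, ih, map_smul, hB, h.pair.mapB, hq, smul_smul, pow_succ]
      have h2 := h1 o
      rw [show B ^ o = 1 from hM.pow, Module.End.one_apply] at h2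
      have h3 : dQ q ^ o = 1 := (smul_left_injective E (bb.ne_zero q) ((one_smul E _).trans h2)).symm
      exact frobenius_inj E o (by rw [frobenius_def, frobenius_def, h3, one_pow])
    have h4 := hcoef (f.smulRight w) q
    rw [hq, hd1, one_mul] at h4
    rw [hBY, map_sub, Finsupp.sub_apply, h4, sub_self]
  have hXS : S Z = X := by
    refine bb.repr.injective (Finsupp.ext fun q => ?_)
    have hrep : ∀ t ∈ T, ∀ k < o, ∀ q', bb.repr ((B ^ k) (bb t)) q' ≠ 0 → q' = πB^[k] t := by
      intro t _ k _ q' hne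
      obtain ⟨d', hd'⟩ := hM.map_pow k t
      by_contra hq'
      rw [hd', map_smul, Finsupp.smul_apply, Basis.repr_self, Finsupp.single_apply, if_neg (Ne.symm hq'),
        smul_zero] at hne
      exact hne rfl
    have hT0 : ∀ t ∈ T, bb.repr (S Z) t = bb.repr X t := by
      intro t ht
      simp only [S, Z, LinearMap.sum_apply, map_sum, map_smul, Finset.sum_apply', Finsupp.smul_apply]
      simp only [Finset.smul_sum]
      rw [Finset.sum_comm, Finset.sum_eq_single 0, Finset.sum_eq_single t]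
      · simp
      · intro t' _ ht'
        simp [ht']
      · intro h1; exact absurd ht h1
      · intro k hk hk0
        refine Finset.sum_eq_zero fun t' ht' => ?_
        by_contra hne
        have h1 := hrep t' ht' k (Finset.mem_range.mp hk) t (fun h0 => hne (by rw [h0, smul_zero]))
        exact hk0 (hTi t ht t' ht' 0 h.oprime.pos k (Finset.mem_range.mp hk) h1).2.symm
      · intro h1; exact absurd (Finset.mem_range.mpr h.oprime.pos) h1
    have hF0 : ∀ i, πB i = i → bb.repr (S Z) i = 0 := by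
      intro i hi
      simp only [S, Z, LinearMap.sum_apply, map_sum, map_smul, Finset.sum_apply', Finsupp.smul_apply]
      simp only [Finset.smul_sum]
      refine Finset.sum_eq_zero fun t ht => Finset.sum_eq_zero fun k hk => ?_
      by_contra hne
      have h1 := hrep t ht k (Finset.mem_range.mp hk) i (fun h0 => hne (by rw [h0, smul_zero]))
      exact hM.iterate_ne (hTm t ht) k (h1 ▸ hi)
    by_cases hq : πB q = q
    · rw [hF0 q hq, hfixco q hq]
    · obtain ⟨t, ht, k, -, he⟩ := hTc q hq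
      rw [← he]
      clear he
      induction k with
      | zero => exact hT0 t ht
      | succ k ih =>
        have h1 := hcoef (S Z) (πB^[k] t)
        rw [hBS, ih, ← Function.iterate_succ_apply' πB k t] at h1
        have h2 := hcoef X (πB^[k] t)
        rw [hBX, ← Function.iterate_succ_apply' πB k t] at h2
        rw [h1, h2]
  refine ⟨Z v₀, ?_⟩
  have hv₀b' : b' v₀ = v₀ := by
    conv_lhs => rw [← hJ v₀ hv₀a]
    rw [← Module.End.mul_apply, h.binv']
    rfl
  have hBk : ∀ k : ℕ, ((B ^ k) Z) v₀ = (b ^ k) (Z v₀) := by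
    intro k
    induction k with
    | zero => simp
    | succ k ih =>
      rw [pow_succ', Module.End.mul_apply, hB, conjBy_apply, Module.End.mul_apply, Module.End.mul_apply,
        hv₀b', ih, pow_succ', Module.End.mul_apply]
  have h1 : (S Z) v₀ = v := by
    rw [hXS, hX, LinearMap.smulRight_apply, hf₀, one_smul]
  simp only [S, LinearMap.sum_apply, hBk] at h1
  haveI : CharP (Module.End E V) o :=
    haveI := nontrivial_of_ne v₀ 0 hv₀
    charP_of_injective_algebraMap (algebraMap E (Module.End E V)).injective o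
  have hpoly : ((Polynomial.X : Polynomial E) - 1) ^ (o - 1) = ∑ k ∈ Finset.range o, Polynomial.X ^ k := by
    refine mul_right_cancel₀ (b := (Polynomial.X : Polynomial E) - 1) ?_ ?_
    · rw [← Polynomial.C_1]
      exact Polynomial.X_sub_C_ne_zero 1
    · rw [← pow_succ, Nat.sub_add_cancel h.oprime.one_le, geom_sum_mul, sub_pow_char, one_pow]
  have h2 := congrArg (Polynomial.aeval b) hpoly
  simp only [map_pow, map_sub, Polynomial.aeval_X, map_one, map_sum] at h2
  rw [h2, LinearMap.sum_apply]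
  exact h1

/-- The unipotent case does not occur. -/
theorem unipotent [Fintype Q] [DecidableEq Q] [IsAlgClosed E] [FiniteDimensional E V] [CharP E o]
    (h : Classy bb a a' b b' c π πB cQ dQ r o i₁)
    (hall : ∀ μ : E, μ ^ r = c → ∃ v, v ≠ 0 ∧ a v = μ • v) {l₀ : E} (hl₀ : l₀ ^ r = c)
    (hJ : ∀ v, a v = l₀ • v → b v = v) (hodd : 3 ≤ o) (q₀ : Q) : πB q₀ = q₀ := by
  classical
  obtain ⟨v₀, hv₀, hv₀a⟩ := hall l₀ hl₀
  haveI := nontrivial_of_ne v₀ 0 hv₀
  haveI := Fact.mk h.oprime
  obtain ⟨κ, _, e, lam, p, he, hlr, hb⟩ := exists_perm_basis h.rne h.cne h.pair.prime.ne_zero h.apow h.comm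
    h.bpow (fun v hv hvw => h.summand_property hl₀ hv₀ hv₀a hJ hv hvw)
  have hlam : ∀ i, lam (p i) = lam i := by
    intro i
    have h1 : a (b (e i)) = lam i • b (e i) := by
      rw [← Module.End.mul_apply, ← h.comm.eq, Module.End.mul_apply, he, map_smul]
    rw [hb, he] at h1
    exact smul_left_injective E (e.ne_zero _) h1
  have hb1 : ∀ i, b (e i) = (1 : E) • e (p i) := fun i => by rw [one_smul, hb]
  have hp0 : ∀ i, lam i = l₀ → p i = i := by
    intro i hi
    have h1 := hJ (e i) (by rw [he, hi])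
    rw [hb] at h1
    exact e.injective h1
  have hall' : ∀ μ : E, μ ^ r = c → ∃ i, lam i = μ := by
    intro μ hμ
    obtain ⟨v, hv0, hv⟩ := hall μ hμ
    by_contra hno
    push Not at hno
    refine hv0 (e.repr.injective (Finsupp.ext fun i => ?_))
    have h1 : a v = ∑ j, (e.repr v j * lam j) • e j := by
      conv_lhs => rw [← e.sum_repr v, map_sum]
      exact Finset.sum_congr rfl fun j _ => by rw [map_smul, he, smul_smul]
    have h2 : e.repr (a v) i = e.repr v i * lam i := by rw [h1, e.repr_sum_self]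
    rw [hv, map_smul, Finsupp.smul_apply, smul_eq_mul] at h2
    have h3 : (lam i - μ) * e.repr v i = 0 := by rw [sub_mul, mul_comm, ← h2, sub_self]
    rw [map_zero, Finsupp.zero_apply]
    exact (mul_eq_zero.mp h3).resolve_left (sub_ne_zero.mpr (hno i))
  let Λ := Finset.univ.image lam
  haveI : NeZero (r : E) := ⟨h.rne⟩
  obtain ⟨ω₀, hω₀⟩ := HasEnoughRootsOfUnity.exists_primitiveRoot E r
  have hl₀ne : l₀ ≠ 0 := fun h0 => h.cne (by rw [← hl₀, h0, zero_pow h.pair.prime.ne_zero])
  have hΛ : Λ.card = r := by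
    rw [← hω₀.card_nthRootsFinset]
    symm
    refine Finset.card_bij (fun ω _ => ω * l₀) (fun ω hω => ?_) (fun _ _ _ _ h1 => mul_right_cancel₀ hl₀ne h1) ?_
    · rw [Polynomial.mem_nthRootsFinset h.pair.prime.pos] at hω
      obtain ⟨i, hi⟩ := hall' (ω * l₀) (by rw [mul_pow, hω, hl₀, one_mul])
      exact hi ▸ Finset.mem_image_of_mem _ (Finset.mem_univ i)
    · intro μ hμ
      obtain ⟨i, -, rfl⟩ := Finset.mem_image.mp hμ
      refine ⟨lam i * l₀⁻¹, ?_, inv_mul_cancel_right₀ hl₀ne _⟩
      rw [Polynomial.mem_nthRootsFinset h.pair.prime.pos, mul_pow, inv_pow, hlr, hl₀,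
        mul_inv_cancel₀ h.cne]
  let nn : E → ℕ := fun μ => (Finset.univ.filter fun i => lam i = μ).card
  let ff : E → ℕ := fun μ => ((Finset.univ.filter fun i => p i = i).filter fun i => lam i = μ).card
  have hmem : ∀ i, lam i ∈ Λ := fun i => Finset.mem_image_of_mem _ (Finset.mem_univ i)
  have hn : Fintype.card κ = ∑ μ ∈ Λ, nn μ :=
    Finset.card_eq_sum_card_fiberwise (f := lam) (t := Λ) fun i _ => hmem i
  have hf : (Finset.univ.filter fun i => p i = i).card = ∑ μ ∈ Λ, ff μ :=
    Finset.card_eq_sum_card_fiberwise (f := lam) (t := Λ) fun i _ => hmem i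
  have hN2 : (Finset.univ.filter fun pq : κ × κ => lam pq.1 = lam pq.2).card = ∑ μ ∈ Λ, nn μ ^ 2 := by
    have := pairs_count (Finset.univ : Finset κ) lam Λ (fun i _ => hmem i)
    simpa only [Finset.univ_product_univ] using this
  have hF2 : (Finset.univ.filter fun pq : κ × κ => lam pq.1 = lam pq.2 ∧ p pq.1 = pq.1 ∧ p pq.2 = pq.2).card =
      ∑ μ ∈ Λ, ff μ ^ 2 := by
    rw [← pairs_count (Finset.univ.filter fun i => p i = i) lam Λ (fun i _ => hmem i)]
    congr 1
    ext pq
    simp only [Finset.mem_filter, Finset.mem_univ, true_and, Finset.mem_product]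
    exact and_comm
  have hsq : (Finset.univ.filter fun pq : κ × κ => p pq.1 = pq.1 ∧ p pq.2 = pq.2).card =
      (Finset.univ.filter fun i => p i = i).card ^ 2 := by
    rw [sq, ← Finset.card_product]
    congr 1
    ext pq
    simp
  have hkey := h.key he (d := fun _ => (1 : E)) (p := p) hb1 hlam
  have hpairs := h.card_pairs he
  have h1 := Finset.card_filter_add_card_filter_not (s := (Finset.univ : Finset (κ × κ)))
    (fun pq => p pq.1 = pq.1 ∧ p pq.2 = pq.2)
  have h2 := Finset.card_filter_add_card_filter_not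
    (s := (Finset.univ.filter fun pq : κ × κ => lam pq.1 = lam pq.2)) (fun pq => p pq.1 = pq.1 ∧ p pq.2 = pq.2)
  rw [Finset.filter_filter, Finset.filter_filter, hF2, hN2] at h2
  rw [Finset.card_univ, Fintype.card_prod, ← sq, hsq] at h1
  simp only [and_true, hF2, hsq] at hkey
  rw [hN2] at hpairs
  generalize (Finset.univ.filter fun pq : κ × κ => ¬ (p pq.1 = pq.1 ∧ p pq.2 = pq.2)).card = M at h1 hkey
  generalize (Finset.univ.filter fun pq : κ × κ =>
    lam pq.1 = lam pq.2 ∧ ¬ (p pq.1 = pq.1 ∧ p pq.2 = pq.2)).card = M1 at h2 hkey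
  rw [hn] at hpairs h1
  rw [hf] at h1 hkey
  have hfeq : r * ∑ μ ∈ Λ, ff μ ^ 2 = (∑ μ ∈ Λ, ff μ) ^ 2 + (r - 1) := by
    obtain ⟨o', ho'⟩ := Nat.exists_eq_add_of_le h.oprime.two_le
    subst ho'
    nlinarith
  have hnspread : ∀ μ ∈ Λ, nn μ ≤ nn l₀ + 1 := fun μ hμ => by
    obtain ⟨i, hi⟩ := hall' l₀ hl₀
    exact spread Λ nn (by rw [hΛ, ← hpairs]) hμ (hi ▸ hmem i)
  have hfspread : ∀ μ ∈ Λ, ff l₀ ≤ ff μ + 1 := fun μ hμ => by
    obtain ⟨i, hi⟩ := hall' l₀ hl₀
    exact spread Λ ff (by rw [hΛ, hfeq]) (hi ▸ hmem i) hμ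
  have hnf : nn l₀ = ff l₀ := by
    simp only [nn, ff, Finset.filter_filter]
    congr 1
    exact Finset.filter_congr fun i _ => ⟨fun hi => ⟨hp0 i hi, hi⟩, fun hi => hi.2⟩
  refine h.one_apply_fix (e.ext fun i => ?_)
  rw [hb, Module.End.one_apply]
  refine congrArg e ?_
  by_contra hi
  set μ := lam i
  have hsplit := Finset.card_filter_add_card_filter_not (s := (Finset.univ.filter fun j => lam j = μ))
    (fun j => p j = j)
  have hff : ((Finset.univ.filter fun j => lam j = μ).filter fun j => p j = j).card = ff μ := by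
    simp only [ff, Finset.filter_filter, and_comm]
  rw [hff] at hsplit
  have hdvd : o ∣ ((Finset.univ.filter fun j => lam j = μ).filter fun j => ¬ p j = j).card := by
    have hM : Mono e b p (fun _ => (1 : E)) o := ⟨hb1, h.oprime, h.bpow⟩
    have h3 := hM.finrank_inf (C := a) he hlam μ (ζ := (1 : E)) (one_pow o)
    rw [Finset.filter_filter]
    exact (Nat.dvd_add_left (Dvd.intro _ rfl)).mp ⟨_, h3.symm⟩
  have hpos : 0 < ((Finset.univ.filter fun j => lam j = μ).filter fun j => ¬ p j = j).card :=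
    Finset.card_pos.mpr ⟨i, by simp [hi, μ]⟩
  have h5 := Nat.le_of_dvd hpos hdvd
  have h6 : nn μ ≤ nn l₀ + 1 := hnspread μ (hmem i)
  have h7 : ff l₀ ≤ ff μ + 1 := hfspread μ (hmem i)
  have h8 := hodd
  change ff μ + _ = nn μ at hsplit
  omega

/-- An element of odd prime order moves at most three quarters of the lines. -/
theorem classify [Fintype Q] [DecidableEq Q] [IsAlgClosed E] [FiniteDimensional E V]
    (h : Classy bb a a' b b' c π πB cQ dQ r o i₁)
    (hall : ∀ μ : E, μ ^ r = c → ∃ v, v ≠ 0 ∧ a v = μ • v) {l₀ : E} (hl₀ : l₀ ^ r = c)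
    (hJ : ∀ v, a v = l₀ • v → b v = v) (hodd : 3 ≤ o) {q₀ : Q} (hq₀ : πB q₀ ≠ q₀) :
    o = 3 ∧ Fintype.card Q ≤ 4 * (Finset.univ.filter fun q => πB q = q).card := by
  by_cases ho : (o : E) = 0
  · haveI : CharP E o := (ringChar.eq_iff).mp
      ((Nat.prime_dvd_prime_iff_eq (CharP.char_is_prime_or_zero E (ringChar E) |>.resolve_right
        (fun h0 => by
          haveI : CharP E 0 := h0 ▸ ringChar.charP E
          haveI := CharP.charP_to_charZero E
          exact h.oprime.ne_zero (Nat.cast_eq_zero.mp ho))) h.oprime).mp (ringChar.dvd ho))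
    exact absurd (h.unipotent hall hl₀ hJ hodd q₀) hq₀
  · exact h.semisimple ho hall hl₀ hJ hodd hq₀

end Classy

end Cfsg.Agent.Turull
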