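import Cfsg.Agent.Turull.Full

/-!
The eigenvalues of the intertwiner: all `r` of them occur unless the case is exceptional; then the
fixed points of the operator see everything.
-/

set_option autoImplicit false
set_option maxHeartbeats 1000000

namespace Cfsg.Agent.Turull

open Module

variable {E : Type*} [Field E] {W : Type*} [AddCommGroup W] [Module E W] {N : Type*} [Group N]
variable {ρ : N →* Module.End E W} {σ : N ≃* N} {S : Module.End E W} {r : ℕ}

/-- The matrix units of a basis. -/
noncomputable def unitE {J : Type*} [AddCommGroup J] [Module E J] {ι : Type*} (b : Basis ι E J)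
    (pq : ι × ι) : Module.End E J :=
  (b.coord pq.2).smulRight (b pq.1)

theorem unitE_apply {J : Type*} [AddCommGroup J] [Module E J] {ι : Type*} [DecidableEq ι]
    (b : Basis ι E J) (p q k : ι) : unitE b (p, q) (b k) = if k = q then b p else 0 := by
  simp [unitE, Finsupp.single_apply]

theorem unitE_indep {J : Type*} [AddCommGroup J] [Module E J] {ι : Type*} [Fintype ι]
    (b : Basis ι E J) : LinearIndependent E (unitE b) := by
  classical
  rw [Fintype.linearIndependent_iff]
  intro g hg pq
  have h1 := congrArg (fun X : Module.End E J => b.repr (X (b pq.2)) pq.1) hg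
  simp only [LinearMap.sum_apply, LinearMap.smul_apply, LinearMap.zero_apply, map_zero,
    Finsupp.zero_apply, map_sum, map_smul, Finset.sum_apply', Finsupp.smul_apply] at h1
  rw [Finset.sum_eq_single pq] at h1
  · simpa [unitE] using h1
  · intro x _ hx
    obtain ⟨p, q⟩ := x
    rw [unitE_apply]
    by_cases hq : pq.2 = q
    · rw [if_pos hq, Basis.repr_self, Finsupp.single_apply, if_neg, smul_zero]
      intro hp
      exact hx (Prod.ext hp hq.symm)
    · rw [if_neg hq, map_zero, Finsupp.zero_apply, smul_zero]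
  · intro h; exact absurd (Finset.mem_univ _) h

/-- Counting the eigenvalues of the intertwiner. -/
theorem Model.pairs [FiniteDimensional E W] [IsAlgClosed E] [Finite N] [Nontrivial W] (hn : Nondeg ρ)
    (h : Act ρ σ S r) {J : Submodule E W} {τ : N →* Module.End E J}
    {Φ : Module.End E J →ₐ[E] Module.End E W} {a a' : Module.End E J} {c : E}
    (M : Model ρ σ J τ Φ a a' c r) {ι : Type*} [Fintype ι] [DecidableEq ι] [DecidableEq E]
    (b : Basis ι E J) (lam : ι → E) (hlam : ∀ p, a (b p) = lam p • b p) :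
    Module.finrank E J ^ 2 + r = 1 + r * (Finset.univ.filter fun pq : ι × ι => lam pq.1 = lam pq.2).card := by
  classical
  have hJnt : ∀ p, lam p ≠ 0 := fun p h0 => by
    have h1 := congrArg a' (hlam p)
    rw [h0, zero_smul, map_zero, ← Module.End.mul_apply, M.inv'] at h1
    exact b.ne_zero p h1
  let C : Module.End E (Module.End E J) := (LinearMap.mulLeft E a).comp (LinearMap.mulRight E a')
  have hC : ∀ X, C X = a * X * a' := fun X => by
    simp [C, mul_assoc]
  have hCpow : C ^ r = 1 := by
    have h1 : ∀ k, ∀ X, (C ^ k) X = a ^ k * X * a' ^ k := by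
      intro k
      induction k with
      | zero => intro X; simp
      | succ k ih => intro X; rw [pow_succ', Module.End.mul_apply, ih, hC, pow_succ' a, pow_succ a']; simp only [mul_assoc]
    refine LinearMap.ext fun X => ?_
    rw [h1, Module.End.one_apply, M.apow, smul_mul_assoc, one_mul]
    have h2 : c • a' ^ r = 1 := by
      have h3 : a ^ r * a' ^ r = 1 := by
        rw [← Commute.mul_pow (show Commute a a' from M.inv.trans M.inv'.symm), M.inv, one_pow]
      rwa [M.apow, smul_mul_assoc, one_mul] at h3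
    rw [smul_mul_assoc, ← mul_smul_comm, h2, mul_one]
  haveI : Fintype (N ⧸ scal ρ) := Fintype.ofFinite _
  let bb : Basis (N ⧸ scal ρ) E (Module.End E J) := Basis.mk M.indep (fun X _ => M.span X)
  have hbar : Function.Injective h.bar := (injective_iff_map_eq_one _).mpr fun q hq => by
    obtain ⟨g, rfl⟩ := QuotientGroup.mk'_surjective (scal ρ) q
    obtain ⟨d, hd⟩ := (QuotientGroup.eq_one_iff (σ g)).mp hq
    refine (QuotientGroup.eq_one_iff g).mpr ⟨d, ?_⟩
    have h1 := h.rel g
    rw [hd, smul_mul_assoc, one_mul] at h1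
    have h2 : S ^ (r - 1) * S = 1 := by rw [← pow_succ, Nat.sub_add_cancel h.prime.one_le, h.pow]
    calc ρ g = S ^ (r - 1) * S * ρ g := by rw [h2, one_mul]
      _ = d • (1 : Module.End E W) := by rw [mul_assoc, h1, mul_smul_comm, h2]
  let π : Equiv.Perm (N ⧸ scal ρ) := Equiv.ofBijective h.bar ⟨hbar, Finite.injective_iff_surjective.mp hbar⟩
  have hz : ∀ q : N ⧸ scal ρ, ∃ d : E, C (bb q) = d • bb (π q) ∧ (q = 1 → d = 1) := by
    intro q
    obtain ⟨z, ⟨d, hd⟩, hz'⟩ := exists_out ρ (σ q.out)
    have hCq : C (bb q) = d • bb (π q) := by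
      have e1 : (QuotientGroup.mk (σ q.out) : N ⧸ scal ρ) = π q := by
        change _ = h.bar q
        rw [← h.bar_mk, QuotientGroup.out_eq']
      rw [hC, Basis.mk_apply, Basis.mk_apply, M.inter, mul_assoc, M.inv, mul_one, hz', map_mul,
        M.scalar z d hd, mul_smul_comm, mul_one, e1]
    refine ⟨d, hCq, ?_⟩
    rintro rfl
    obtain ⟨e, he⟩ : (1 : N ⧸ scal ρ).out ∈ scal ρ :=
      (QuotientGroup.eq_one_iff _).mp (QuotientGroup.out_eq' _)
    have h1 : C (bb 1) = bb 1 := by
      rw [hC, Basis.mk_apply, M.scalar _ e he, mul_smul_comm, mul_one, smul_mul_assoc, M.inv]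
    rw [hCq, show π 1 = 1 from map_one h.bar] at h1
    exact smul_left_injective E (bb.ne_zero 1) (h1.trans (one_smul E (bb 1)).symm)
  choose dd hdd hdd1 using hz
  have hM1 : Mono bb C π dd r := ⟨hdd, h.prime, hCpow⟩
  have hfix : ∀ q, π q = q → q = 1 := fun q hq => h.bar_fpf hn hq
  have e1 := hM1.finrank_eigen (ζ := (1 : E)) (one_pow r)
  have hset1 : (Finset.univ.filter fun q => π q = q ∧ dd q = 1) = {1} := by
    ext q
    simp only [Finset.mem_filter, Finset.mem_univ, true_and, Finset.mem_singleton]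
    exact ⟨fun hq => hfix q hq.1, fun hq => by subst hq; exact ⟨map_one h.bar, hdd1 1 rfl⟩⟩
  have hset2 : (Finset.univ.filter fun q => π q ≠ q) = Finset.univ.erase 1 := by
    ext q
    simp only [Finset.mem_filter, Finset.mem_univ, true_and, Finset.mem_erase, and_true]
    exact ⟨fun hq h1 => hq (by rw [h1]; exact map_one h.bar), fun hq h1 => hq (hfix q h1)⟩
  have hn' : Fintype.card (N ⧸ scal ρ) = Module.finrank E J ^ 2 := by
    rw [← Module.finrank_eq_card_basis bb, Module.finrank_linearMap, sq]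
  rw [hset1, hset2, Finset.card_singleton, Finset.card_erase_of_mem (Finset.mem_univ _),
    Finset.card_univ, hn'] at e1
  let eb : Basis (ι × ι) E (Module.End E J) := Basis.mk (unitE_indep b) (by
    intro X _
    have : X = ∑ pq : ι × ι, b.repr (X (b pq.2)) pq.1 • unitE b pq := by
      refine b.ext fun k => ?_
      rw [LinearMap.sum_apply, Fintype.sum_prod_type]
      simp only [LinearMap.smul_apply, unitE_apply, smul_ite, smul_zero, Finset.sum_ite_eq,
        Finset.mem_univ, if_true]
      rw [b.sum_repr]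
    rw [this]
    exact Submodule.sum_mem _ fun pq _ => Submodule.smul_mem _ _ (Submodule.subset_span ⟨pq, rfl⟩))
  have hM2 : Mono eb C (Equiv.refl _) (fun pq => lam pq.1 * (lam pq.2)⁻¹) r := by
    refine ⟨fun pq => ?_, h.prime, hCpow⟩
    obtain ⟨p, q⟩ := pq
    rw [hC, Equiv.refl_apply, Basis.mk_apply]
    refine b.ext fun k => ?_
    have hk : a' (b k) = (lam k)⁻¹ • b k := by
      have h1 := congrArg a' (hlam k)
      rw [← Module.End.mul_apply, M.inv', Module.End.one_apply, map_smul] at h1
      conv_rhs => rw [h1, smul_smul, inv_mul_cancel₀ (hJnt k), one_smul]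
    rw [Module.End.mul_apply, Module.End.mul_apply, hk, map_smul, LinearMap.smul_apply, unitE_apply]
    split_ifs with hkq
    · subst hkq
      rw [map_smul, hlam, smul_smul, mul_comm]
    · simp
  have e2 := hM2.finrank_eigen (ζ := (1 : E)) (one_pow r)
  have hset3 : (Finset.univ.filter fun pq : ι × ι => (Equiv.refl _) pq ≠ pq) = ∅ := by simp
  have hset4 : (Finset.univ.filter fun pq : ι × ι => (Equiv.refl _) pq = pq ∧ lam pq.1 * (lam pq.2)⁻¹ = 1) =
      Finset.univ.filter fun pq : ι × ι => lam pq.1 = lam pq.2 := by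
    ext pq
    simp [mul_inv_eq_one₀ (hJnt pq.2)]
  rw [hset3, hset4, Finset.card_empty, zero_add] at e2
  rw [e2] at e1
  have hpos : 0 < Module.finrank E J ^ 2 := by rw [← hn']; exact Fintype.card_pos
  omega

theorem natural_sq {ι E : Type*} [Fintype ι] [DecidableEq ι] [DecidableEq E] (lam : ι → E) :
    Fintype.card ι ^ 2 ≤ (Finset.univ.image lam).card *
      (Finset.univ.filter fun pq : ι × ι => lam pq.1 = lam pq.2).card := by
  have h1 : Fintype.card ι = ∑ μ ∈ Finset.univ.image lam, (Finset.univ.filter fun p => lam p = μ).card :=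
    Finset.card_eq_sum_card_image lam Finset.univ
  have h2 : (Finset.univ.filter fun pq : ι × ι => lam pq.1 = lam pq.2).card =
      ∑ μ ∈ Finset.univ.image lam, (Finset.univ.filter fun p => lam p = μ).card ^ 2 := by
    rw [Finset.card_eq_sum_card_fiberwise (f := fun pq : ι × ι => lam pq.1) (t := Finset.univ.image lam)
      (fun pq _ => Finset.mem_image_of_mem _ (Finset.mem_univ _))]
    refine Finset.sum_congr rfl fun μ _ => ?_
    rw [sq, ← Finset.card_product]
    congr 1
    ext ⟨p, q⟩
    simp only [Finset.mem_filter, Finset.mem_univ, true_and, Finset.mem_product]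
    exact ⟨fun hh => ⟨hh.2, hh.1 ▸ hh.2⟩, fun hh => ⟨hh.1.trans hh.2.symm, hh.1⟩⟩
  rw [h1, h2]
  exact sq_sum_le_card_mul_sum_sq

theorem exceptional_arith {u r P : ℕ} (hr : r.Prime) (hu : 1 < u) (hP : u ^ 2 + r = 1 + r * P)
    (hsq : u ^ 2 ≤ (r - 1) * P) : u + 1 = r := by
  obtain ⟨r', rfl⟩ : ∃ r', r = r' + 1 := ⟨r - 1, by have := hr.pos; omega⟩
  rw [Nat.add_sub_cancel] at hsq
  rw [sq] at hP hsq
  have h3 : (r' + 1) * (u * u) ≤ r' * (u * u + r') :=
    calc (r' + 1) * (u * u) ≤ (r' + 1) * (r' * P) := Nat.mul_le_mul_left _ hsq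
      _ = r' * ((r' + 1) * P) := by ring
      _ = r' * (u * u + r') := by congr 1; omega
  have h4 : u ≤ r' := Nat.mul_self_le_mul_self_iff.mp (by nlinarith [h3])
  have hP1 : 1 ≤ P := Nat.pos_of_ne_zero fun h0 => by
    rw [h0, mul_zero] at hsq; nlinarith
  have hdvd : r' + 1 ∣ (u + 1) * (u - 1) := by
    rw [← Nat.sq_sub_sq, one_pow, sq]
    exact ⟨P - 1, by rw [Nat.mul_sub, mul_one]; omega⟩
  rcases (Nat.Prime.dvd_mul hr).mp hdvd with h6 | h6
  · exact le_antisymm (by omega) (Nat.le_of_dvd (by omega) h6)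
  · exact absurd (Nat.le_of_dvd (by omega) h6) (by omega)

/-- An eigenbasis of the intertwiner in which every eigenvalue occurs, or the exceptional case. -/
theorem Model.eigenbasis [FiniteDimensional E W] [IsAlgClosed E] [Finite N] [Nontrivial W] {t : ℕ}
    [ht : Fact t.Prime] (hn : Nondeg ρ) (h : Act ρ σ S r) (hr : (r : E) ≠ 0)
    {J : Submodule E W} {τ : N →* Module.End E J} {Φ : Module.End E J →ₐ[E] Module.End E W}
    {a a' : Module.End E J} {c : E} (M : Model ρ σ J τ Φ a a' c r)
    (hk : ∃ k : ℕ, Module.finrank E J = t ^ k) (hu : 1 < Module.finrank E J) :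
    ∃ (ι : Set J) (_ : Fintype ι) (b : Basis ι E J) (lam : ι → E),
      (∀ p, a (b p) = lam p • b p) ∧ (∀ p, lam p ^ r = c) ∧
        ((∀ μ : E, μ ^ r = c → ∃ p, lam p = μ) ∨ (t = 2 ∧ Module.finrank E J + 1 = r)) := by
  classical
  let s : Set J := {v | ∃ μ : E, μ ^ r = c ∧ a v = μ • v}
  have hs : ⊤ ≤ Submodule.span E s := fun v _ =>
    eigen_induction (P := fun w => w ∈ Submodule.span E s) hr M.cne M.apow (Submodule.zero_mem _)
      (fun x y hx hy => Submodule.add_mem _ hx hy) (fun μ w hμ hw => Submodule.subset_span ⟨μ, hμ, hw⟩) v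
  let b := Basis.ofSpan hs
  haveI := FiniteDimensional.fintypeBasisIndex b
  have hmem : ∀ p, b p ∈ s := fun p => Basis.ofSpan_subset hs ⟨p, rfl⟩
  choose lam hlam1 hlam2 using hmem
  refine ⟨_, FiniteDimensional.fintypeBasisIndex b, b, lam, hlam2, hlam1, ?_⟩
  refine or_iff_not_imp_left.mpr fun hmiss => ?_
  push Not at hmiss
  obtain ⟨μ, hμ, hμp⟩ := hmiss
  have hr0 : 0 < r := h.prime.pos
  have himg : (Finset.univ.image lam).card ≤ r - 1 := by
    have h1 : Finset.univ.image lam ⊆ (Polynomial.nthRoots r c).toFinset.erase μ := by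
      intro x hx
      obtain ⟨p, -, rfl⟩ := Finset.mem_image.mp hx
      exact Finset.mem_erase.mpr ⟨hμp p, Multiset.mem_toFinset.mpr ((Polynomial.mem_nthRoots hr0).mpr (hlam1 p))⟩
    refine (Finset.card_le_card h1).trans ?_
    rw [Finset.card_erase_of_mem (Multiset.mem_toFinset.mpr ((Polynomial.mem_nthRoots hr0).mpr hμ))]
    exact Nat.sub_le_sub_right ((Multiset.toFinset_card_le _).trans (Polynomial.card_nthRoots r c)) 1
  have hP := M.pairs hn h b lam hlam2
  have hsq := (natural_sq lam).trans (Nat.mul_le_mul_right _ himg)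
  rw [← Module.finrank_eq_card_basis b] at hsq
  have h5 := exceptional_arith h.prime hu hP hsq
  set u := Module.finrank E J with hudef
  obtain ⟨r', rfl⟩ : ∃ r', r = r' + 1 := ⟨r - 1, by omega⟩
  refine ⟨?_, h5⟩
  obtain ⟨k, hk⟩ := hk
  have hk0 : k ≠ 0 := fun h0 => by rw [h0, pow_zero] at hk; omega
  by_contra h2
  have hodd : Odd u := by rw [hk]; exact (ht.out.odd_of_ne_two h2).pow
  have heven : Even (r' + 1) := by rw [← h5]; exact hodd.add_one
  have := (Nat.prime_dvd_prime_iff_eq Nat.prime_two h.prime).mp (even_iff_two_dvd.mp heven)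
  omega

/-- Outside the exceptional case, an operator commuting with everything that kills the fixed points
vanishes. -/
theorem Nondeg.full [IsAlgClosed E] [FiniteDimensional E W] [Nontrivial W] [Finite N] {t : ℕ}
    [Fact t.Prime] (hN : IsPGroup t N) (ht : (t : E) ≠ 0) (hr : (r : E) ≠ 0) (hn : Nondeg ρ)
    (h : Act ρ σ S r) (hnt : scal ρ ≠ ⊤)
    (hexc : ¬ (t = 2 ∧ Nat.card (N ⧸ scal ρ) = (r - 1) ^ 2))
    (T : Module.End E W) (hT : ∀ g, Commute T (ρ g)) (hTS : Commute T S)
    (hfix : ∀ v, S v = v → T v = 0) : T = 0 := by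
  classical
  obtain ⟨J, τ, Φ, a, a', c, M, hJ0, hk, hcard, hrel⟩ := exists_act_model hN ht hn h
  have hu : 1 < Module.finrank E J := by
    by_contra hu
    have h1 : Module.finrank E J ^ 2 ≤ 1 := Nat.pow_le_one_iff (by norm_num) |>.mpr (by omega)
    rw [hcard] at h1
    haveI := Finite.card_le_one_iff_subsingleton.mp h1
    exact hnt (QuotientGroup.subgroup_eq_top_of_subsingleton (scal ρ) inferInstance)
  obtain ⟨ι, hfi, b, lam, hlam, hlamr, hall⟩ := M.eigenbasis hn h hr hk hu
  have hall' : ∀ μ : E, μ ^ r = c → ∃ p, lam p = μ := hall.resolve_right fun hh => hexc ⟨hh.1, by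
    rw [← hcard, ← hh.2, Nat.add_sub_cancel]⟩
  have hTΦ : ∀ X, T * Φ X = Φ X * T := fun X => by
    refine M.span_induction (P := fun X => T * Φ X = Φ X * T) ?_ ?_ ?_ ?_ X
    · simp
    · intro g; rw [M.phi]; exact (hT g).eq
    · intro X Y hX hY; rw [map_add, mul_add, add_mul, hX, hY]
    · intro e X hX; rw [map_smul, mul_smul_comm, smul_mul_assoc, hX]
  let S' : Module.End E W := Φ a' * S
  have hSa' : S * Φ a' = Φ a' * S := by rw [hrel, M.inv, one_mul]
  have hS'X : ∀ X, S' * Φ X = Φ X * S' := fun X => by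
    simp only [S']
    rw [mul_assoc, hrel, ← mul_assoc, ← map_mul, ← mul_assoc, ← mul_assoc, M.inv', one_mul, map_mul, mul_assoc]
  have hc' : c⁻¹ ≠ 0 := inv_ne_zero M.cne
  have hpow : S' ^ r = c⁻¹ • (1 : Module.End E W) := by
    rw [show S' ^ r = Φ a' ^ r * S ^ r from Commute.mul_pow hSa'.symm r, h.pow, mul_one, ← map_pow]
    have h3 : a ^ r * a' ^ r = 1 := by
      rw [← Commute.mul_pow (show Commute a a' from M.inv.trans M.inv'.symm), M.inv, one_pow]
    rw [M.apow, smul_mul_assoc, one_mul] at h3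
    have h4 : a' ^ r = c⁻¹ • (1 : Module.End E J) := by
      rw [← h3, smul_smul, inv_mul_cancel₀ M.cne, one_smul]
    rw [h4, map_smul, map_one]
  refine LinearMap.ext fun w => ?_
  rw [LinearMap.zero_apply]
  refine eigen_induction (f := S') (P := fun w => T w = 0) hr hc' hpow (map_zero T)
    (fun x y hx hy => by rw [map_add, hx, hy, add_zero]) (fun μ v hμ hv => ?_) w
  have hμ0 : μ ≠ 0 := fun h0 => by rw [h0, zero_pow h.prime.ne_zero] at hμ; exact hc' hμ.symm
  obtain ⟨p', hp'⟩ := hall' μ⁻¹ (by rw [inv_pow, hμ, inv_inv])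
  have hone : (1 : Module.End E J) = ∑ p, unitE b (p, p) := by
    refine b.ext fun k => ?_
    rw [LinearMap.sum_apply, Module.End.one_apply]
    simp [unitE_apply]
  have hv1 : v = ∑ p, Φ (unitE b (p, p)) v := by
    rw [← LinearMap.sum_apply, ← map_sum, ← hone, map_one, Module.End.one_apply]
  rw [hv1, map_sum]
  refine Finset.sum_eq_zero fun p _ => ?_
  have hpp : unitE b (p, p) = unitE b (p, p') * unitE b (p', p) := by
    refine b.ext fun k => ?_
    rw [Module.End.mul_apply, unitE_apply, unitE_apply]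
    split_ifs <;> simp [unitE_apply]
  rw [hpp, map_mul, ← Module.End.mul_apply T, ← mul_assoc, hTΦ, mul_assoc, Module.End.mul_apply,
    Module.End.mul_apply T, hfix, map_zero]
  have hS : S = Φ a * S' := by
    simp only [S']
    rw [← mul_assoc, ← map_mul, M.inv, map_one, one_mul]
  have hae : a * unitE b (p', p) = μ⁻¹ • unitE b (p', p) := by
    refine b.ext fun k => ?_
    rw [Module.End.mul_apply, LinearMap.smul_apply, unitE_apply]
    split_ifs with hk'
    · rw [hlam, hp']
    · simp
  rw [hS, Module.End.mul_apply, ← Module.End.mul_apply S', hS'X, Module.End.mul_apply, hv, map_smul,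
    map_smul, ← Module.End.mul_apply (Φ a), ← map_mul, hae, map_smul, LinearMap.smul_apply, smul_smul,
    mul_inv_cancel₀ hμ0, one_smul]

end Cfsg.Agent.Turull
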