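import Mathlib

/-!
Elementary facts about commuting operators, eigenvectors and operators of finite order modulo
scalars over an algebraically closed field.
-/

set_option autoImplicit false

namespace Cfsg.Agent.Turull

open Module

variable {E : Type*} [Field E] {W : Type*} [AddCommGroup W] [Module E W]

/-- Eigenvectors with distinct systems of eigenvalues are independent. -/
theorem indep_of_chars {ι L : Type*} (F : L → Module.End E W) (v : ι → W) (ev : ι → L → E)
    (hv : ∀ i, v i ≠ 0) (h : ∀ i l, F l (v i) = ev i l • v i) (hinj : Function.Injective ev) :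
    LinearIndependent E v := by
  classical
  rw [linearIndependent_iff']
  intro s
  induction s using Finset.induction_on with
  | empty => intro g _ i hi; simp at hi
  | insert a s ha ih =>
    intro g hg
    rw [Finset.sum_insert ha] at hg
    have key : ∀ i ∈ s, g i = 0 := by
      intro i hi
      obtain ⟨l, hl⟩ : ∃ l, ev i l ≠ ev a l := by
        by_contra hno
        push Not at hno
        exact ha (hinj (funext hno) ▸ hi)
      have h1 := congrArg (F l) hg
      rw [map_add, map_smul, h, map_sum, map_zero, smul_comm] at h1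
      simp only [map_smul, h] at h1
      have h2 := congrArg (ev a l • ·) hg
      simp only [smul_add, smul_zero, Finset.smul_sum] at h2
      have h3 : ∑ j ∈ s, (g j * (ev j l - ev a l)) • v j = 0 := by
        have h4 := sub_eq_zero.mpr (h1.trans h2.symm)
        rw [add_sub_add_left_eq_sub, ← Finset.sum_sub_distrib] at h4
        refine Eq.trans (Finset.sum_congr rfl fun j _ => ?_) h4
        rw [smul_smul, smul_smul, ← sub_smul]
        congr 1
        ring
      have h5 := ih _ h3 i hi
      exact (mul_eq_zero.mp h5).resolve_right (sub_ne_zero.mpr hl)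
    intro i hi
    rcases Finset.mem_insert.mp hi with rfl | hi
    · rw [Finset.sum_eq_zero fun j hj => by rw [key j hj, zero_smul], add_zero] at hg
      exact (smul_eq_zero.mp hg).resolve_right (hv _)
    · exact key i hi

/-- A finite family of commuting operators has a common eigenvector in an invariant subspace. -/
theorem exists_common [IsAlgClosed E] [FiniteDimensional E W] {L : Type*} (F : L → Module.End E W)
    (s : Finset L) (hcomm : ∀ l ∈ s, ∀ m ∈ s, Commute (F l) (F m)) {U : Submodule E W} (hU : U ≠ ⊥)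
    (hinv : ∀ l ∈ s, ∀ u ∈ U, F l u ∈ U) :
    ∃ v ∈ U, v ≠ 0 ∧ ∀ l ∈ s, ∃ c : E, F l v = c • v := by
  classical
  induction s using Finset.induction_on generalizing U with
  | empty =>
    obtain ⟨v, hv, hv0⟩ := Submodule.exists_mem_ne_zero_of_ne_bot hU
    exact ⟨v, hv, hv0, fun l hl => by simp at hl⟩
  | insert a s _ ih =>
    haveI : Nontrivial U := Submodule.nontrivial_iff_ne_bot.mpr hU
    let f : Module.End E U := (F a).restrict (hinv a (Finset.mem_insert_self _ _))
    obtain ⟨c, hc⟩ := Module.End.exists_eigenvalue f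
    obtain ⟨u, hu⟩ := hc.exists_hasEigenvector
    let U' : Submodule E W := U ⊓ Module.End.eigenspace (F a) c
    have hU' : U' ≠ ⊥ := by
      refine (Submodule.ne_bot_iff _).mpr ⟨(u : W), ⟨u.2, ?_⟩, fun h => hu.2 (Subtype.ext h)⟩
      exact Module.End.mem_eigenspace_iff.mpr (congrArg Subtype.val hu.apply_eq_smul)
    obtain ⟨v, hv, hv0, hvs⟩ := ih (fun l hl m hm => hcomm l (Finset.mem_insert_of_mem hl) m
      (Finset.mem_insert_of_mem hm)) hU' (fun l hl w hw => ⟨hinv l (Finset.mem_insert_of_mem hl) w hw.1,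
        by
          have hw2 := Module.End.mem_eigenspace_iff.mp hw.2
          refine Module.End.mem_eigenspace_iff.mpr ?_
          rw [← Module.End.mul_apply, ← (hcomm l (Finset.mem_insert_of_mem hl) a
            (Finset.mem_insert_self _ _)).eq, Module.End.mul_apply, hw2, map_smul]⟩)
    refine ⟨v, hv.1, hv0, fun l hl => ?_⟩
    rcases Finset.mem_insert.mp hl with rfl | hl
    · exact ⟨c, Module.End.mem_eigenspace_iff.mp hv.2⟩
    · exact hvs l hl

/-- An operator of order `o` modulo scalars has a full set of eigenvectors. -/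
theorem eigen_induction [IsAlgClosed E] {f : Module.End E W} {o : ℕ} {c : E} (ho : (o : E) ≠ 0)
    (hc : c ≠ 0) (hf : f ^ o = c • 1) {P : W → Prop} (h0 : P 0)
    (hadd : ∀ x y, P x → P y → P (x + y))
    (hP : ∀ (μ : E) (v : W), μ ^ o = c → f v = μ • v → P v) (w : W) : P w := by
  classical
  have hopos : 0 < o := Nat.pos_of_ne_zero fun h => ho (by simp [h])
  haveI : NeZero (o : E) := ⟨ho⟩
  obtain ⟨μ₀, hμ₀⟩ := IsAlgClosed.exists_pow_nat_eq c hopos
  obtain ⟨ζ, hζ⟩ := HasEnoughRootsOfUnity.exists_primitiveRoot E o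
  have hμ0 : μ₀ ≠ 0 := fun h => hc (by rw [← hμ₀, h, zero_pow hopos.ne'])
  let μ : ℕ → E := fun j => μ₀ * ζ ^ j
  have hμ : ∀ j, μ j ^ o = c := fun j => by
    rw [mul_pow, hμ₀, pow_right_comm, hζ.pow_eq_one, one_pow, mul_one]
  let P' : ℕ → W := fun j => ∑ i ∈ Finset.range o, (μ j)⁻¹ ^ i • (f ^ i) w
  have hstep : ∀ j, f (P' j) = μ j • P' j := by
    intro j
    have hμj : μ j ≠ 0 := mul_ne_zero hμ0 (pow_ne_zero _ (hζ.ne_zero hopos.ne'))
    simp only [P', map_sum, map_smul, Finset.smul_sum, smul_smul]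
    have h2 : ∀ i, (μ j)⁻¹ ^ i • f ((f ^ i) w) =
        (μ j * (μ j)⁻¹ ^ (i + 1)) • (f ^ (i + 1)) w := fun i => by
      rw [pow_succ' f, Module.End.mul_apply, pow_succ' ((μ j)⁻¹), ← mul_assoc, mul_inv_cancel₀ hμj,
        one_mul]
    rw [Finset.sum_congr rfl fun i _ => h2 i]
    have h3 := Finset.sum_range_succ' (fun i => (μ j * (μ j)⁻¹ ^ i) • (f ^ i) w) o
    have h4 := Finset.sum_range_succ (fun i => (μ j * (μ j)⁻¹ ^ i) • (f ^ i) w) o
    rw [h3] at h4
    have h5 : (μ j * (μ j)⁻¹ ^ o) • (f ^ o) w = (μ j * (μ j)⁻¹ ^ 0) • (f ^ 0) w := by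
      rw [hf, LinearMap.smul_apply, smul_smul, inv_pow, hμ j, mul_assoc, inv_mul_cancel₀ hc,
        pow_zero, pow_zero]
    rw [h5] at h4
    exact add_right_cancel h4
  have hsum : ∑ j ∈ Finset.range o, P' j = (o : E) • w := by
    simp only [P']
    rw [Finset.sum_comm]
    rw [Finset.sum_eq_single 0]
    · simp [Nat.cast_smul_eq_nsmul]
    · intro i hi hi0
      rw [← Finset.sum_smul]
      have h1 : ∑ j ∈ Finset.range o, (μ j)⁻¹ ^ i = μ₀⁻¹ ^ i * ∑ j ∈ Finset.range o, ((ζ ^ i)⁻¹) ^ j := by
        rw [Finset.mul_sum]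
        refine Finset.sum_congr rfl fun j _ => ?_
        simp only [μ, mul_inv_rev, mul_pow, inv_pow, ← pow_mul]
        rw [mul_comm j i, mul_comm]
      have h2 : (ζ ^ i)⁻¹ ≠ 1 := fun h =>
        hζ.pow_ne_one_of_pos_of_lt hi0 (Finset.mem_range.mp hi) (inv_eq_one.mp h)
      have h3 : ((ζ ^ i)⁻¹) ^ o = 1 := by
        rw [inv_pow, ← pow_mul, mul_comm, pow_mul, hζ.pow_eq_one, one_pow, inv_one]
      have h4 : ∑ j ∈ Finset.range o, ((ζ ^ i)⁻¹) ^ j = 0 := by
        have h5 := geom_sum_mul ((ζ ^ i)⁻¹) o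
        rw [h3, sub_self] at h5
        exact (mul_eq_zero.mp h5).resolve_right (sub_ne_zero.mpr h2)
      rw [h1, h4, mul_zero, zero_smul]
    · intro h; exact absurd (Finset.mem_range.mpr hopos) h
  have hw : w = ∑ j ∈ Finset.range o, (o : E)⁻¹ • P' j := by
    rw [← Finset.smul_sum, hsum, smul_smul, inv_mul_cancel₀ ho, one_smul]
  rw [hw]
  refine Finset.sum_induction _ P hadd h0 fun j _ => hP (μ j) _ (hμ j) ?_
  rw [map_smul, hstep, smul_comm]

end Cfsg.Agent.Turull
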