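import Cfsg.Agent.Turull.ClassTwo
import Cfsg.Agent.Turull.PermBasis

/-!
The exceptional component does not occur: an odd group acting on it with a form would need too many
eigenvalues.
-/

set_option autoImplicit false
set_option maxHeartbeats 1000000

namespace Cfsg.Agent.Turull

open Module
open scoped commutatorElement

theorem two_pow_dvd {m d : ℕ} (hd0 : 0 < d) (hd : d ≤ 2 * m) (h : 2 ^ m + 1 ∣ 2 ^ d - 1) :
    d = 2 * m := by
  by_contra hne
  by_cases hdm : d ≤ m
  · have h1 : 2 ^ d ≤ 2 ^ m := Nat.pow_le_pow_right (by norm_num) hdm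
    have h2 : 2 ^ 1 ≤ 2 ^ d := Nat.pow_le_pow_right (by norm_num) hd0
    rw [pow_one] at h2
    have := Nat.le_of_dvd (by omega) h
    omega
  · obtain ⟨e, rfl⟩ := Nat.exists_eq_add_of_le (Nat.le_of_not_le hdm)
    have he : e < m := by omega
    have h1 : 2 ^ e + 1 < 2 ^ m + 1 := by
      have := Nat.pow_lt_pow_right (show 1 < 2 by norm_num) he
      omega
    have h2 : 2 ^ m + 1 ∣ 2 ^ e + 1 := by
      obtain ⟨k, hk⟩ := h
      have hp : 1 ≤ 2 ^ (m + e) := Nat.one_le_two_pow
      have hk' : 2 ^ m * 2 ^ e = (2 ^ m + 1) * k + 1 := by rw [← pow_add]; omega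
      have hdiv : (2 ^ m + 1 : ℤ) ∣ (2 ^ e + 1 : ℤ) := ⟨2 ^ e - k, by
        have : (2 ^ m * 2 ^ e : ℤ) = (2 ^ m + 1) * k + 1 := by exact_mod_cast hk'
        linear_combination -this⟩
      exact_mod_cast hdiv
    have := Nat.le_of_dvd (by positivity) h2
    omega

/-- A centralising element that preserves the form is trivial on an exceptional moved part. -/
theorem exclude_easy {X : Type*} [AddCommGroup X] [Module (ZMod 2) X] [Finite X] {m r : ℕ}
    (hm : r = 2 ^ m + 1) (hr : r.Prime) (hX : Module.finrank (ZMod 2) X = 2 * m) (S : Module.End (ZMod 2) X)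
    (hS : S ^ r = 1) (hfpf : ∀ v, S v = v → v = 0) (β : X →ₗ[ZMod 2] X →ₗ[ZMod 2] ZMod 2)
    (hnd : ∀ y, (∀ x, β x y = 0) → y = 0) (hβS : ∀ x y, β (S x) (S y) = β x y)
    (l : Module.End (ZMod 2) X) (hlβ : ∀ x y, β (l x) (l y) = β x y) (hlS : Commute l S) {p e : ℕ}
    (hp : p.Prime) (hpr : p ≠ r) (hl : l ^ p ^ e = 1) : l = 1 := by
  classical
  haveI : Fintype X := Fintype.ofFinite X
  rcases subsingleton_or_nontrivial X with hsub | hnt
  · exact LinearMap.ext fun v => Subsingleton.elim _ _
  obtain ⟨v, hv⟩ := exists_ne (0 : X)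
  let ev : Polynomial (ZMod 2) →ₗ[ZMod 2] X := (LinearMap.applyₗ v).comp (Polynomial.aeval S).toLinearMap
  have hev : ∀ g, ev g = Polynomial.aeval S g v := fun g => rfl
  have hinv : ∀ u ∈ LinearMap.range ev, S u ∈ LinearMap.range ev := by
    rintro _ ⟨g, rfl⟩
    exact ⟨Polynomial.X * g, by rw [hev, hev, map_mul, Polynomial.aeval_X]; rfl⟩
  have hvU : v ∈ LinearMap.range ev := ⟨1, by rw [hev, map_one]; rfl⟩
  set U := LinearMap.range ev with hU
  have hS' : S ^ (r - 1) * S = 1 := by rw [← pow_succ, Nat.sub_add_cancel hr.one_le, hS]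
  have hSinj : Function.Injective (S.restrict hinv) := by
    intro a b hab
    have h1 := congrArg (fun w : U => (S ^ (r - 1)) w) hab
    simp only [LinearMap.coe_restrict_apply, ← Module.End.mul_apply, hS', Module.End.one_apply] at h1
    exact Subtype.ext h1
  let π : Equiv.Perm U := Equiv.ofBijective _ ⟨hSinj, Finite.injective_iff_surjective.mp hSinj⟩
  have hπ : ∀ (n : ℕ) (u : U), (((π ^ n) u : U) : X) = (S ^ n) (u : X) := by
    intro n
    induction n with
    | zero => intro u; simp
    | succ n ih =>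
      intro u
      rw [pow_succ', Equiv.Perm.mul_apply, pow_succ', Module.End.mul_apply, ← ih]
      rfl
  have hπr : π ^ r ^ 1 = 1 := by
    rw [pow_one]
    refine Equiv.ext fun u => Subtype.ext ?_
    rw [hπ, hS]
    rfl
  haveI := Fact.mk hr
  have hmod := Equiv.Perm.card_compl_support_modEq hπr
  have hone : (π.support)ᶜ = {0} := by
    ext u
    rw [Finset.mem_compl, Equiv.Perm.mem_support, not_not, Finset.mem_singleton]
    refine ⟨fun hu => Subtype.ext (hfpf u (congrArg Subtype.val hu)), fun hu => ?_⟩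
    subst hu
    exact (S.restrict hinv).map_zero
  rw [hone, Finset.card_singleton, Module.card_eq_pow_finrank (K := ZMod 2) (V := U), ZMod.card] at hmod
  have hd : Module.finrank (ZMod 2) U = 2 * m := by
    refine two_pow_dvd ?_ ((Submodule.finrank_le U).trans hX.le) (hm ▸ (Nat.modEq_iff_dvd' Nat.one_le_two_pow).mp hmod)
    haveI : Nontrivial U := nontrivial_of_ne ⟨v, hvU⟩ 0 fun h => hv (congrArg Subtype.val h)
    exact Module.finrank_pos
  have htop : U = ⊤ := Submodule.eq_top_of_finrank_eq (hd.trans hX.symm)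
  obtain ⟨f, hf⟩ : l v ∈ LinearMap.range ev := by rw [← hU, htop]; trivial
  rw [hev] at hf
  have hlf : l = Polynomial.aeval S f := by
    refine LinearMap.ext fun u => ?_
    obtain ⟨g, rfl⟩ : u ∈ LinearMap.range ev := by rw [← hU, htop]; trivial
    have hc : Commute l (Polynomial.aeval S g) := by
      induction g using Polynomial.induction_on' with
      | add g₁ g₂ h₁ h₂ => rw [map_add]; exact h₁.add_right h₂
      | monomial n a =>
        rw [Polynomial.aeval_monomial]
        exact (Algebra.commute_algebraMap_right a l).mul_right (hlS.pow_right n)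
    rw [hev, ← Module.End.mul_apply, hc.eq, Module.End.mul_apply, ← hf, ← Module.End.mul_apply,
      ← Module.End.mul_apply, ← map_mul, ← map_mul, mul_comm]
  have hfrob : ∀ (n : ℕ) (T : Module.End (ZMod 2) X),
      Polynomial.aeval T f ^ 2 ^ n = Polynomial.aeval (T ^ 2 ^ n) f := by
    intro n
    induction n with
    | zero => intro T; simp
    | succ n ih =>
      intro T
      rw [pow_succ, pow_mul, ih, pow_mul, ← Polynomial.expand_aeval 2 f, ZMod.expand_card, map_pow]
  have hS2 : ∀ x y, β (S x) y = β x ((S ^ 2 ^ m) y) := by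
    intro x y
    have h1 : S ((S ^ 2 ^ m) y) = y := by
      rw [← Module.End.mul_apply, ← pow_succ', ← hm, hS]
      rfl
    conv_lhs => rw [← h1, hβS]
  have hadj : ∀ x y, β (l x) y = β x ((l ^ 2 ^ m) y) := by
    intro x y
    rw [hlf, hfrob]
    clear hlf hf hfrob
    induction f using Polynomial.induction_on' generalizing x with
    | add g₁ g₂ h₁ h₂ => simp only [map_add, LinearMap.add_apply, map_add, h₁, h₂]
    | monomial n a =>
      rw [Polynomial.aeval_monomial, Polynomial.aeval_monomial, Module.End.mul_apply, Module.End.mul_apply,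
        Module.algebraMap_end_apply, Module.algebraMap_end_apply, map_smul, LinearMap.smul_apply, map_smul]
      congr 1
      induction n generalizing y with
      | zero => simp
      | succ n ih =>
        rw [pow_succ' S, Module.End.mul_apply, hS2, ih, ← Module.End.mul_apply, ← pow_succ]
  have hlr : l ^ r = 1 := by
    refine LinearMap.ext fun y => sub_eq_zero.mp (hnd _ fun x => ?_)
    rw [map_sub, Module.End.one_apply, hm, pow_succ, Module.End.mul_apply, ← hadj, hlβ, sub_self]
  have h1 : l ^ Nat.gcd (p ^ e) r = 1 := pow_gcd_eq_one.mpr ⟨hl, hlr⟩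
  rwa [(((Nat.coprime_primes hp hr).mpr hpr).pow_left e), pow_one] at h1

variable {E : Type*} [Field E] {W : Type*} [AddCommGroup W] [Module E W] {N : Type*} [Group N]
variable {ρ : N →* Module.End E W} {σ : N ≃* N} {S : Module.End E W} {r : ℕ}

/-- Every eigenvalue occurs. -/
theorem exists_eigvec [IsAlgClosed E] [FiniteDimensional E W] [Nontrivial W] [Finite N] {t : ℕ}
    [Fact t.Prime] (hN : IsPGroup t N) (ht : (t : E) ≠ 0) (ht2 : t ≠ 2) (hr : (r : E) ≠ 0) (h : Act ρ σ S r)
    (hclass : ∀ g k l : N, Commute (ρ ⁅g, k⁆) (ρ l)) (hf : ∀ v, (∀ g, ρ g v = v) → v = 0) {ω : E}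
    (hω : ω ^ r = 1) : ∃ v, v ≠ 0 ∧ S v = ω • v := by
  by_contra hno
  push Not at hno
  have hω0 : ω ≠ 0 := fun h0 => by simp [h0, h.prime.ne_zero] at hω
  have h' : Act ρ σ (ω⁻¹ • S) r :=
    ⟨fun g => by rw [smul_mul_assoc, h.rel, mul_smul_comm], h.prime, by
      rw [smul_pow, h.pow, inv_pow, hω, inv_one, one_smul], h.gen⟩
  have h1 : (1 : Module.End E W) = 0 := classTwo_kill (L := PEmpty.{1}) (T := (1 : Module.End E W)) hN ht hr h'
    hclass (fun l => l.elim) (fun l => l.elim) (fun l => l.elim) (fun l => l.elim) (fun l => l.elim)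
    (fun l => l.elim) (fun g => Commute.one_left _) (Commute.one_left _)
    (fun v hv => by
      rw [Module.End.one_apply]
      by_contra hv0
      refine hno v hv0 ?_
      rw [LinearMap.smul_apply] at hv
      conv_rhs => rw [← hv]
      rw [smul_smul, mul_inv_cancel₀ hω0, one_smul])
    hf (fun _ _ _ _ _ _ h2 => ht2 h2.1)
  exact one_ne_zero h1

/-- Every eigenvalue occurs twice when a form is preserved. -/
theorem two_le_finrank_eigenspace [IsAlgClosed E] [FiniteDimensional E W] [Nontrivial W] [Finite N] {t : ℕ}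
    [htf : Fact t.Prime] (hN : IsPGroup t N) (ht : (t : E) ≠ 0) (ht2 : t ≠ 2) (hr : (r : E) ≠ 0) (hr2 : r ≠ 2)
    (h : Act ρ σ S r) (hclass : ∀ g k l : N, Commute (ρ ⁅g, k⁆) (ρ l))
    (hf : ∀ v, (∀ g, ρ g v = v) → v = 0) (β : W →ₗ[E] W →ₗ[E] E) (hnd : ∀ x, (∀ y, β x y = 0) → x = 0)
    (hβρ : ∀ g x y, β (ρ g x) (ρ g y) = β x y) {ω : E}
    (hω : ω ^ r = 1) : 2 ≤ Module.finrank E (Module.End.eigenspace S ω) := by
  classical
  haveI : Fintype N := Fintype.ofFinite N
  have hω0 : ω ≠ 0 := fun h0 => by simp [h0, h.prime.ne_zero] at hω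
  have hcard : (Fintype.card N : E) ≠ 0 → ∀ U : Submodule E W, (∀ g, ∀ u ∈ U, ρ g u ∈ U) →
      ∀ w, (∀ g, ρ g w - w ∈ U) → w ∈ U := by
    intro hcard U hU w hw
    let P : Module.End E W := (Fintype.card N : E)⁻¹ • ∑ g : N, ρ g
    have hfix : P w = 0 := hf _ fun g => by
      simp only [P, LinearMap.smul_apply, LinearMap.sum_apply, map_smul, map_sum, ← Module.End.mul_apply,
        ← map_mul]
      congr 1
      exact Fintype.sum_equiv (Equiv.mulLeft g) _ _ fun k => rfl
    have h1 : P w - w ∈ U := by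
      have h2 : P w - w = (Fintype.card N : E)⁻¹ • ∑ g : N, (ρ g w - w) := by
        simp only [P, LinearMap.smul_apply, LinearMap.sum_apply, Finset.sum_sub_distrib, Finset.sum_const,
          Finset.card_univ, ← Nat.cast_smul_eq_nsmul E, smul_sub, smul_smul, inv_mul_cancel₀ hcard, one_smul]
      rw [h2]
      exact U.smul_mem _ (U.sum_mem fun g _ => hw g)
    rw [hfix, zero_sub] at h1
    exact U.neg_mem_iff.mp h1
  have hcN : (Fintype.card N : E) ≠ 0 := by
    obtain ⟨k, hk⟩ := IsPGroup.iff_card.mp hN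
    rw [← Nat.card_eq_fintype_card, hk, Nat.cast_pow]
    exact pow_ne_zero _ ht
  by_cases hred : ∃ U : Submodule E W, U ≠ ⊥ ∧ U ≠ ⊤ ∧ (∀ g, ∀ u ∈ U, ρ g u ∈ U) ∧ ∀ u ∈ U, S u ∈ U
  · obtain ⟨U, hU0, hU1, hUρ, hUS⟩ := hred
    haveI : Nontrivial U := Submodule.nontrivial_iff_ne_bot.mpr hU0
    obtain ⟨u, hu0, hu⟩ := exists_eigvec (ρ := res ρ U hUρ) hN ht ht2 hr (h.res hUρ hUS)
      (fun g k l => LinearMap.ext fun v => Subtype.ext (LinearMap.congr_fun (hclass g k l).eq (v : W)))
      (fun v hv => Subtype.ext (hf v fun g => congrArg Subtype.val (hv g))) hω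
    let ρq : N →* Module.End E (W ⧸ U) :=
      { toFun := fun g => U.mapQ U (ρ g) (fun v hv => hUρ g v hv)
        map_one' := by
          refine Submodule.linearMap_qext _ (LinearMap.ext fun v => ?_)
          simp
        map_mul' := fun g k => by
          refine Submodule.linearMap_qext _ (LinearMap.ext fun v => ?_)
          simp [Submodule.mapQ_apply] }
    have hρq : ∀ g v, ρq g (Submodule.Quotient.mk v) = Submodule.Quotient.mk (ρ g v) := fun g v => rfl
    let Sq : Module.End E (W ⧸ U) := U.mapQ U S (fun v hv => hUS v hv)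
    have hSq : ∀ v, Sq (Submodule.Quotient.mk v) = Submodule.Quotient.mk (S v) := fun v => rfl
    have hSqn : ∀ (n : ℕ) v, (Sq ^ n) (Submodule.Quotient.mk v) = Submodule.Quotient.mk ((S ^ n) v) := by
      intro n
      induction n with
      | zero => intro v; simp
      | succ n ih => intro v; rw [pow_succ', Module.End.mul_apply, ih, hSq, pow_succ', Module.End.mul_apply]
    have hq : Act ρq σ Sq r := by
      refine ⟨fun g => Submodule.linearMap_qext _ (LinearMap.ext fun v => ?_), h.prime,
        Submodule.linearMap_qext _ (LinearMap.ext fun v => ?_), h.gen⟩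
      · change Sq (ρq g (Submodule.Quotient.mk v)) = ρq (σ g) (Sq (Submodule.Quotient.mk v))
        rw [hρq, hSq, hSq, hρq, ← Module.End.mul_apply, h.rel, Module.End.mul_apply]
      · change (Sq ^ r) (Submodule.Quotient.mk v) = Submodule.Quotient.mk v
        rw [hSqn, h.pow]
        rfl
    haveI : Nontrivial (W ⧸ U) := Submodule.Quotient.nontrivial_iff.mpr hU1
    obtain ⟨wq, hwq0, hwq⟩ := exists_eigvec (ρ := ρq) hN ht ht2 hr hq
      (fun g k l => Submodule.linearMap_qext _ (LinearMap.ext fun v => by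
        change ρq ⁅g, k⁆ (ρq l (Submodule.Quotient.mk v)) = ρq l (ρq ⁅g, k⁆ (Submodule.Quotient.mk v))
        rw [hρq, hρq, hρq, hρq, ← Module.End.mul_apply, (hclass g k l).eq, Module.End.mul_apply]))
      (fun v hv => by
        obtain ⟨w, rfl⟩ := Submodule.Quotient.mk_surjective U v
        refine (Submodule.Quotient.mk_eq_zero U).mpr (hcard hcN U hUρ w fun g => ?_)
        exact (Submodule.Quotient.eq U).mp ((hρq g w).symm.trans (hv g))) hω
    obtain ⟨w', hw'⟩ := Submodule.Quotient.mk_surjective U wq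
    set w := eigProj S r ω w' with hw
    have hSw : S w = ω • w := apply_eigProj (c := 1) (by rw [h.pow, one_smul]) hω0 hω w'
    have hwU : w ∉ U := by
      intro hwU
      refine hwq0 ?_
      rw [← eigProj_apply_eigen (a := Sq) hr hω0 hwq, ← hw']
      have h1 : eigProj Sq r ω (Submodule.Quotient.mk w') = Submodule.Quotient.mk w := by
        simp only [hw, eigProj, LinearMap.smul_apply, LinearMap.sum_apply, hSqn]
        simp only [← Submodule.mkQ_apply, map_smul, map_sum]
      rw [h1]
      exact (Submodule.Quotient.mk_eq_zero U).mpr hwU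
    have hind : LinearIndependent E ![(⟨(u : W), Module.End.mem_eigenspace_iff.mpr (congrArg Subtype.val hu)⟩ :
        Module.End.eigenspace S ω), ⟨w, Module.End.mem_eigenspace_iff.mpr hSw⟩] := by
      rw [LinearIndependent.pair_iff]
      intro a b hab
      have h1 : a • (u : W) + b • w = 0 := congrArg Subtype.val hab
      have hb : b = 0 := by
        by_contra hb
        refine hwU ?_
        have h2 : b • w ∈ U := by
          rw [show b • w = -(a • (u : W)) from eq_neg_of_add_eq_zero_right h1]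
          exact U.neg_mem (U.smul_mem _ u.2)
        exact (U.smul_mem_iff hb).mp h2
      refine ⟨?_, hb⟩
      rw [hb, zero_smul, add_zero] at h1
      exact (smul_eq_zero.mp h1).resolve_right fun h0 => hu0 (Subtype.ext h0)
    simpa using hind.fintype_card_le_finrank
  · exfalso
    push Not at hred
    have hirr : ∀ U : Submodule E W, U ≠ ⊥ → (∀ g, ∀ u ∈ U, ρ g u ∈ U) → (∀ u ∈ U, S u ∈ U) → U = ⊤ :=
      fun U h0 h1 h2 => by
        by_contra h3
        obtain ⟨u, hu, hu'⟩ := hred U h0 h3 h1
        exact hu' (h2 u hu)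
    let A : Subgroup N :=
      { carrier := {a | ∀ g, Commute (ρ a) (ρ g)}
        one_mem' := fun g => by simp
        mul_mem' := fun {a b} ha hb g => by rw [map_mul]; exact (ha g).mul_left (hb g)
        inv_mem' := fun {a} ha g => by
          have h1 : ρ a⁻¹ * (ρ a * ρ g) * ρ a⁻¹ = ρ g * ρ a⁻¹ := by
            rw [← mul_assoc, rho_cancel', one_mul]
          rw [(ha g).eq, mul_assoc, mul_assoc, rho_cancel, mul_one] at h1
          exact h1 }
    have hρσ : ∀ g, ρ (σ g) = S * ρ g * S ^ (r - 1) := fun g => by rw [h.rel, mul_assoc, h.cancel, mul_one]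
    have hS' : S ^ (r - 1) * S = 1 := by rw [← pow_succ, Nat.sub_add_cancel h.prime.one_le, h.pow]
    have hAσ : ∀ a ∈ A, σ a ∈ A := by
      intro a ha g
      obtain ⟨g', rfl⟩ := σ.surjective g
      change ρ (σ a) * ρ (σ g') = ρ (σ g') * ρ (σ a)
      rw [← map_mul ρ, ← map_mul ρ, ← map_mul σ, ← map_mul σ, hρσ, hρσ, map_mul, map_mul, (ha g').eq]
    have hAn : ∀ n, ∀ a ∈ A, σ^[n] a ∈ A := by
      intro n
      induction n with
      | zero => exact fun a ha => ha
      | succ n ih => intro a ha; rw [Function.iterate_succ_apply']; exact hAσ _ (ih a ha)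
    haveI : Fintype A := Fintype.ofFinite A
    obtain ⟨v, -, hv0, hv⟩ := exists_common (fun a : A => ρ (a : N)) Finset.univ
      (fun a _ b _ => a.2 b) (top_ne_bot (α := Submodule E W)) (fun _ _ _ _ => trivial)
    choose χ hχ using fun a : A => hv a (Finset.mem_univ a)
    have hmult : ∀ (a b : A), χ (a * b) = χ a * χ b := fun a b => by
      have h1 := hχ (a * b)
      rw [Subgroup.coe_mul, map_mul, Module.End.mul_apply, hχ b, map_smul, hχ a, smul_smul, mul_comm] at h1
      exact (smul_left_injective E hv0 h1).symm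
    have hgen : ∃ g, ∃ j : ℕ, β v (ρ g ((S ^ j) v)) ≠ 0 := by
      by_contra hno
      push Not at hno
      let U := Submodule.span E {w | ∃ g, ∃ j : ℕ, ρ g ((S ^ j) v) = w}
      have hle : U ≤ LinearMap.ker (β v) := by
        rw [Submodule.span_le]
        rintro _ ⟨g, j, rfl⟩
        exact hno g j
      have hUtop : U = ⊤ := hirr U
        ((Submodule.ne_bot_iff _).mpr ⟨v, Submodule.subset_span ⟨1, 0, by simp⟩, hv0⟩)
        (fun g u hu => by
          induction hu using Submodule.span_induction with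
          | mem x hx =>
            obtain ⟨k, j, rfl⟩ := hx
            exact Submodule.subset_span ⟨g * k, j, by rw [map_mul]; rfl⟩
          | zero => simp
          | add x y _ _ hx hy => rw [map_add]; exact U.add_mem hx hy
          | smul a x _ hx => rw [map_smul]; exact U.smul_mem a hx)
        (fun u hu => by
          induction hu using Submodule.span_induction with
          | mem x hx =>
            obtain ⟨k, j, rfl⟩ := hx
            refine Submodule.subset_span ⟨σ k, j + 1, ?_⟩
            rw [← Module.End.mul_apply S, h.rel, Module.End.mul_apply, pow_succ' S, Module.End.mul_apply]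
          | zero => simp
          | add x y _ _ hx hy => rw [map_add]; exact U.add_mem hx hy
          | smul a x _ hx => rw [map_smul]; exact U.smul_mem a hx)
      exact hv0 (hnd v fun y => hle (hUtop ▸ Submodule.mem_top : y ∈ U))
    obtain ⟨g, j, hgj⟩ := hgen
    have hinvw : ∀ a : A, χ ⟨σ^[j] (a : N), hAn j a a.2⟩ * χ a = 1 := by
      intro a
      have h1 := hβρ (σ^[j] (a : N)) v (ρ g ((S ^ j) v))
      have h2 : ρ (σ^[j] (a : N)) ((S ^ j) v) = χ a • (S ^ j) v := by
        rw [← Module.End.mul_apply, ← rel_iterate h.rel, Module.End.mul_apply, hχ, map_smul]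
      rw [hχ ⟨_, hAn j a a.2⟩, ← Module.End.mul_apply, (hAn j a a.2 g).eq, Module.End.mul_apply, h2, map_smul,
        map_smul, map_smul, LinearMap.smul_apply, smul_eq_mul, smul_eq_mul, ← mul_assoc, mul_comm (χ a)] at h1
      exact mul_right_cancel₀ hgj (h1.trans (one_mul _).symm)
    have hper : ∀ (n : ℕ) (a : A), χ ⟨σ^[r * n] (a : N), hAn _ a a.2⟩ = χ a := by
      intro n a
      refine smul_left_injective E hv0 ?_
      change χ ⟨σ^[r * n] (a : N), hAn _ a a.2⟩ • v = χ a • v
      rw [← hχ ⟨_, hAn _ a a.2⟩, ← hχ a]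
      change ρ (σ^[r * n] (a : N)) v = ρ (a : N) v
      induction n with
      | zero => simp
      | succ n ih => rw [Nat.mul_succ, Nat.add_comm, Function.iterate_add_apply, rho_iterate_r h.rel h.pow, ih]
    have h2j : ∀ (n : ℕ) (a : A), χ ⟨σ^[2 * j * n] (a : N), hAn _ a a.2⟩ = χ a := by
      intro n
      induction n with
      | zero => intro a; rfl
      | succ n ih =>
        intro a
        have e1 := hinvw ⟨σ^[j] (a : N), hAn j a a.2⟩
        have e2 := hinvw a
        have e3 := ih ⟨σ^[j] (σ^[j] (a : N)), hAn j _ (hAn j a a.2)⟩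
        have e4 : (⟨σ^[2 * j * (n + 1)] (a : N), hAn _ a a.2⟩ : A) =
            ⟨σ^[2 * j * n] (σ^[j] (σ^[j] (a : N))), hAn _ _ (hAn j _ (hAn j a a.2))⟩ :=
          Subtype.ext (by
            change σ^[2 * j * (n + 1)] (a : N) = σ^[2 * j * n] (σ^[j] (σ^[j] (a : N)))
            rw [← Function.iterate_add_apply, ← Function.iterate_add_apply]
            congr 2
            ring)
        rw [e4, e3]
        have hne : χ ⟨σ^[j] (a : N), hAn j a a.2⟩ ≠ 0 := left_ne_zero_of_mul (e2.symm ▸ one_ne_zero)
        exact mul_right_cancel₀ hne (e1.trans (by rw [mul_comm]; exact e2.symm))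
    obtain ⟨k, hk⟩ : ∃ k, r + 1 = 2 * k := by
      obtain ⟨k, hk⟩ := h.prime.odd_of_ne_two hr2
      exact ⟨k + 1, by omega⟩
    have hone : ∀ a : A, χ a = 1 := by
      intro a
      have e1 := h2j k a
      have e2 : (⟨σ^[2 * j * k] (a : N), hAn _ a a.2⟩ : A) =
          ⟨σ^[r * j] (σ^[j] (a : N)), hAn _ _ (hAn j a a.2)⟩ := Subtype.ext (by
        change σ^[2 * j * k] (a : N) = σ^[r * j] (σ^[j] (a : N))
        rw [← Function.iterate_add_apply]
        congr 2
        calc 2 * j * k = j * (2 * k) := by ring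
          _ = r * j + j := by rw [← hk]; ring)
      rw [e2, hper j ⟨σ^[j] (a : N), hAn j a a.2⟩] at e1
      have e3 := hinvw a
      rw [e1] at e3
      obtain ⟨i, hi⟩ := hN a
      have hpow : ∀ n : ℕ, χ (a ^ n) = χ a ^ n := by
        intro n
        induction n with
        | zero =>
          rw [pow_zero, pow_zero]
          refine smul_left_injective E hv0 ?_
          change χ 1 • v = (1 : E) • v
          rw [← hχ 1, one_smul, Subgroup.coe_one, map_one]
          rfl
        | succ n ih => rw [pow_succ, hmult, ih, pow_succ]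
      have e4 : χ a ^ t ^ i = 1 := by
        rw [← hpow, show a ^ t ^ i = 1 from Subtype.ext hi]
        have := hpow 0
        rwa [pow_zero, pow_zero] at this
      have e5 : χ a ^ Nat.gcd (t ^ i) 2 = 1 := pow_gcd_eq_one.mpr ⟨e4, by rw [sq]; exact e3⟩
      rwa [((Nat.coprime_primes htf.out Nat.prime_two).mpr ht2).pow_left i, pow_one] at e5
    have htriv : ∀ a ∈ A, ρ a = 1 := by
      intro a ha
      let F : Submodule E W := ⨅ a : A, LinearMap.ker (ρ (a : N) - 1)
      have hmem : ∀ u, u ∈ F ↔ ∀ a : A, ρ (a : N) u = u := fun u => by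
        simp [F, sub_eq_zero]
      have hF : F = ⊤ := hirr F
        ((Submodule.ne_bot_iff _).mpr ⟨v, (hmem v).mpr fun a => by rw [hχ, hone, one_smul], hv0⟩)
        (fun g u hu => (hmem _).mpr fun a => by
          rw [← Module.End.mul_apply, (a.2 g).eq, Module.End.mul_apply, (hmem u).mp hu a])
        (fun u hu => (hmem _).mpr fun a => by
          obtain ⟨a', ha'⟩ : ∃ a' : A, σ (a' : N) = a := by
            have hinj : Function.Injective (fun b : A => (⟨σ b, hAσ b b.2⟩ : A)) :=
              fun b c hbc => Subtype.ext (σ.injective (congrArg Subtype.val hbc))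
            obtain ⟨a', ha'⟩ := Finite.injective_iff_surjective.mp hinj a
            exact ⟨a', congrArg Subtype.val ha'⟩
          rw [← ha', ← Module.End.mul_apply, ← h.rel, Module.End.mul_apply, (hmem u).mp hu a'])
      exact LinearMap.ext fun u => (hmem u).mp (hF ▸ Submodule.mem_top) ⟨a, ha⟩
    let f := ρ.toHomUnits
    have hfρ : ∀ g, g ∈ f.ker ↔ ρ g = 1 := fun g => by
      rw [MonoidHom.mem_ker, Units.ext_iff]
      rfl
    rcases subsingleton_or_nontrivial (N ⧸ f.ker) with hs | hn
    · obtain ⟨u, hu⟩ := exists_ne (0 : W)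
      refine hu (hf u fun g => ?_)
      rw [(hfρ g).mp ((QuotientGroup.eq_one_iff g).mp (Subsingleton.elim _ _))]
      rfl
    · haveI := (hN.to_quotient f.ker).center_nontrivial
      obtain ⟨z, hz⟩ := exists_ne (1 : Subgroup.center (N ⧸ f.ker))
      obtain ⟨a, ha⟩ := QuotientGroup.mk'_surjective f.ker (z : N ⧸ f.ker)
      refine hz (Subtype.ext ?_)
      rw [← ha]
      refine (QuotientGroup.eq_one_iff a).mpr ((hfρ a).mpr (htriv a fun g => ?_))
      have h1 := Subgroup.mem_center_iff.mp z.2 (QuotientGroup.mk g)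
      rw [← ha] at h1
      change (QuotientGroup.mk g * QuotientGroup.mk a : N ⧸ f.ker) = QuotientGroup.mk a * QuotientGroup.mk g at h1
      rw [← QuotientGroup.mk_mul, ← QuotientGroup.mk_mul, QuotientGroup.eq] at h1
      have h2 := (hfρ _).mp h1
      rw [map_mul, map_mul ρ a g] at h2
      change ρ a * ρ g = ρ g * ρ a
      calc ρ a * ρ g = ρ (g * a) * (ρ (g * a)⁻¹ * (ρ a * ρ g)) := by
            rw [← mul_assoc, rho_cancel, one_mul]
        _ = ρ g * ρ a := by rw [h2, mul_one, map_mul]

/-- Too many eigenvalues. -/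
theorem moved_rank [IsAlgClosed E] [FiniteDimensional E W] {S : Module.End E W} {r : ℕ} (hrp : r.Prime)
    (hr : (r : E) ≠ 0) (hS : S ^ r = 1)
    (h2 : ∀ ω : E, ω ^ r = 1 → 2 ≤ Module.finrank E (Module.End.eigenspace S ω)) :
    2 * (r - 1) ≤ Module.finrank E (LinearMap.range (S - 1)) := by
  classical
  let s : Set W := {v | ∃ μ : E, μ ^ r = 1 ∧ S v = μ • v}
  have hs : ⊤ ≤ Submodule.span E s := fun v _ =>
    eigen_induction (f := S) (P := fun w => w ∈ Submodule.span E s) hr one_ne_zero
      (by rw [hS, one_smul]) (Submodule.zero_mem _) (fun x y hx hy => Submodule.add_mem _ hx hy)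
      (fun μ w hμ hw => Submodule.subset_span ⟨μ, hμ, hw⟩) v
  let b := Basis.ofSpan hs
  haveI := FiniteDimensional.fintypeBasisIndex b
  choose μ hμ1 hμ2 using fun i => Basis.ofSpan_subset hs ⟨i, rfl⟩
  have hM : Mono b S (Equiv.refl _) μ r := ⟨hμ2, hrp, hS⟩
  haveI : NeZero (r : E) := ⟨hr⟩
  obtain ⟨ω₀, hω₀⟩ := HasEnoughRootsOfUnity.exists_primitiveRoot E r
  set Ω := (Polynomial.nthRootsFinset r (1 : E)).erase 1
  have hΩ : Ω.card = r - 1 := by
    rw [Finset.card_erase_of_mem ((Polynomial.mem_nthRootsFinset hrp.pos (1 : E)).mpr (one_pow r)),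
      hω₀.card_nthRootsFinset]
  set I := Finset.univ.filter fun i => μ i ≠ 1
  have hI : 2 * (r - 1) ≤ I.card := by
    have hcard : I.card = ∑ ω ∈ Ω, (I.filter fun i => μ i = ω).card :=
      Finset.card_eq_sum_card_fiberwise fun i hi => Finset.mem_erase.mpr
        ⟨(Finset.mem_filter.mp hi).2, (Polynomial.mem_nthRootsFinset hrp.pos (1 : E)).mpr (hμ1 i)⟩
    rw [hcard, mul_comm, ← hΩ, ← smul_eq_mul, ← Finset.sum_const]
    refine Finset.sum_le_sum fun ω hω => ?_
    obtain ⟨hω1, hωr⟩ := Finset.mem_erase.mp hω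
    have hωr' := (Polynomial.mem_nthRootsFinset hrp.pos (1 : E)).mp hωr
    have h1 := hM.finrank_eigen hωr'
    simp only [Equiv.refl_apply, ne_eq, not_true_eq_false, Finset.filter_false, Finset.card_empty, zero_add,
      true_and] at h1
    rw [Nat.mul_left_cancel_iff hrp.pos] at h1
    refine (h2 ω hωr').trans (h1.le.trans (Finset.card_le_card fun i hi => ?_))
    have h3 := (Finset.mem_filter.mp hi).2
    exact Finset.mem_filter.mpr ⟨Finset.mem_filter.mpr ⟨Finset.mem_univ _, h3.trans_ne hω1⟩, h3⟩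
  have hmem : ∀ i : I, b i ∈ LinearMap.range (S - 1) := fun i =>
    ⟨(μ i - 1)⁻¹ • b i, by
      rw [map_smul, LinearMap.sub_apply, Module.End.one_apply, hμ2, smul_sub, smul_smul, ← sub_smul]
      nth_rw 2 [← mul_one (μ i - 1)⁻¹]
      rw [← mul_sub, inv_mul_cancel₀ (sub_ne_zero.mpr (Finset.mem_filter.mp i.2).2), one_smul]⟩
  have hind : LinearIndependent E (fun i : I => (⟨b i, hmem i⟩ : LinearMap.range (S - 1))) :=
    LinearIndependent.of_comp (LinearMap.range (S - 1)).subtype
      (b.linearIndependent.comp (fun i : I => (i : _)) Subtype.val_injective)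
  have h3 := hind.fintype_card_le_finrank
  rw [Fintype.card_coe] at h3
  exact hI.trans h3

end Cfsg.Agent.Turull
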