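import Cfsg.Agent.Turull.Tower

/-!
The family of subspaces of a section that comes from the minimal pieces of the next section.
-/

set_option autoImplicit false
set_option maxHeartbeats 1000000

open Subgroup
open scoped commutatorElement

namespace Cfsg.Agent.Turull

universe u

variable {Γ : Type u} [Group Γ]

theorem le_normalizer_powClosure {A X : Subgroup Γ} (h : A ≤ normalizer (X : Set Γ)) (n : ℕ) :
    A ≤ normalizer ((Subgroup.closure ((fun y => y ^ n) '' (X : Set Γ)) : Subgroup Γ) : Set Γ) := by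
  intro g hg
  apply Coprime.mem_normalizer_of_conj_smul_eq
  rw [Coprime.conj_smul_eq_map, MonoidHom.map_closure, ← Set.image_comp]
  congr 1
  ext z
  constructor
  · rintro ⟨y, hy, rfl⟩
    exact ⟨g * y * g⁻¹, (Subgroup.mem_normalizer_iff.mp (h hg) y).mp hy, by simp [conj_pow]⟩
  · rintro ⟨y, hy, rfl⟩
    refine ⟨g⁻¹ * y * g, (Subgroup.mem_normalizer_iff''.mp (h hg) y).mp hy, ?_⟩
    change MulAut.conj g ((g⁻¹ * y * g) ^ n) = y ^ n
    rw [map_pow]
    simp [mul_assoc]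

theorem mem_normalizer_of_conj {A U : Subgroup Γ} (h : ∀ a ∈ A, ∀ x ∈ U, a * x * a⁻¹ ∈ U) :
    A ≤ normalizer (U : Set Γ) := by
  intro a ha
  rw [Subgroup.mem_normalizer_iff]
  intro x
  refine ⟨h a ha x, fun hx => ?_⟩
  have := h a⁻¹ (A.inv_mem ha) _ hx
  simpa [mul_assoc] using this

variable [Finite Γ] {s : Γ} {r : ℕ} {G₀ : Subgroup Γ} {m : ℕ} {P D Y : ℕ → Subgroup Γ} {q : ℕ → ℕ} {k : ℕ}

theorem Tw.cast_ne (w : Tw s r G₀ m P D Y q k) {i j : ℕ} (hi : i ≤ m) (hj : j ≤ m) (h : q i ≠ q j) :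
    (q i : ZMod (q j)) ≠ 0 := by
  rw [Ne, ZMod.natCast_eq_zero_iff]
  exact fun hd => h ((Nat.prime_dvd_prime_iff_eq (w.lay.prime j hj) (w.lay.prime i hi)).mp hd).symm

/-- In an abelian quotient of a layer nothing is fixed by the layer below. -/
theorem Tw.fixed_mem (w : Tw s r G₀ m P D Y q k) {i : ℕ} (hi : i < m) {N : Subgroup Γ}
    (hPN : P (i + 1) ≤ normalizer (N : Set Γ)) (hiN : P i ≤ normalizer (N : Set Γ))
    (hcomm : ⁅P (i + 1), P (i + 1)⁆ ≤ N) (hpow : ∀ x ∈ P (i + 1), x ^ q (i + 1) ∈ N) {y : Γ}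
    (hy : y ∈ P (i + 1)) (hfix : ∀ x ∈ P i, ⁅x, y⁆ ∈ N) : y ∈ N := by
  haveI := w.fact hi.le
  haveI := w.fact (i := i + 1) hi
  obtain ⟨M, _, _, _, ⟨ξ⟩⟩ := exists_secRep hPN hcomm hpow
  have hle : P i ≤ normalizer (P (i + 1) : Set Γ) ⊓ normalizer (N : Set Γ) :=
    le_inf ((w.lay.invP (i + 1) hi).2 i (by omega)) hiN
  let ρ : P i →* Module.End (ZMod (q (i + 1))) M := ξ.rep.comp (Subgroup.inclusion hle)
  have hc := card_ne (F := ZMod (q (i + 1))) (w.lay.pgrp i hi.le) (w.cast_ne hi.le hi (w.lay.ne i hi))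
    (⊤ : Subgroup (P i))
  let H : Subgroup (P (i + 1)) :=
    { carrier := {z | avg ρ ⊤ (ξ.π z) = 0}
      one_mem' := by change avg ρ ⊤ (ξ.π 1) = 0; rw [ξ.map_one, map_zero]
      mul_mem' := fun {a b} ha hb => by
        change avg ρ ⊤ (ξ.π (a * b)) = 0
        rw [ξ.mul, map_add, ha, hb, add_zero]
      inv_mem' := fun {a} ha => by
        change avg ρ ⊤ (ξ.π a⁻¹) = 0
        rw [ξ.map_inv, map_neg, ha, neg_zero] }
  have hH : P (i + 1) ≤ H.map (P (i + 1)).subtype := by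
    refine (w.lay.gen i hi).ge.trans (commutator_le.mpr fun z hz x hx => ?_)
    have hc' : ⁅z, x⁆ ∈ P (i + 1) := (w.lay.gen i hi).le (commutator_mem_commutator hz hx)
    refine ⟨⟨_, hc'⟩, ?_, rfl⟩
    change avg ρ ⊤ (ξ.π ⟨_, hc'⟩) = 0
    have h1 := ξ.sub_eq ⟨x, hle hx⟩ ⟨z, hz⟩
    have h2 : ξ.π ⟨_, hc'⟩ = -(ξ.rep ⟨x, hle hx⟩ (ξ.π ⟨z, hz⟩) - ξ.π ⟨z, hz⟩) := by
      rw [h1, ← ξ.map_inv]
      exact congrArg ξ.π (Subtype.ext (commutatorElement_inv x z).symm)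
    rw [h2, map_neg, map_sub, show ξ.rep ⟨x, hle hx⟩ = ρ (⟨⟨x, hx⟩, trivial⟩ : (⊤ : Subgroup (P i))) from rfl,
      avg_rho, sub_self, neg_zero]
  obtain ⟨z, hz, he⟩ := hH hy
  rw [show z = (⟨y, hy⟩ : P (i + 1)) from Subtype.ext he] at hz
  refine (ξ.ker ⟨y, hy⟩).mp ?_
  refine (avg_fix hc fun b => ?_).symm.trans hz
  exact (ξ.fix_iff _ _).mpr (hfix _ (b : P i).2)

/-- The Frattini part does not help to generate. -/
theorem Tw.frat (w : Tw s r G₀ m P D Y q k) {i : ℕ} (hi : i < m) {U : Subgroup Γ} (hU : U ≤ P (i + 1))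
    (hD : D (i + 1) ≤ U) (hsup : P (i + 1) ≤ U ⊔ Y (i + 1)) : U = P (i + 1) := by
  by_contra hne
  haveI := w.fact (i := i + 1) hi
  have hlay := w.lay
  haveI : Finite (Subgroup (P (i + 1))) := inferInstance
  obtain ⟨M', hM', hUM⟩ := (IsCoatomic.eq_top_or_exists_le_coatom (U.subgroupOf (P (i + 1)))).resolve_left
    (fun h => hne (le_antisymm hU (Subgroup.subgroupOf_eq_top.mp h)))
  obtain ⟨hMn, hMi⟩ := Core.index_eq_of_isCoatom (p := q (i + 1)) (hlay.pgrp (i + 1) hi) hM'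
  set M'' := M'.map (P (i + 1)).subtype with hM''
  have hMP : M'' ≤ P (i + 1) := map_subtype_le _
  have hUM'' : U ≤ M'' := fun x hx => ⟨⟨x, hU hx⟩, hUM hx, rfl⟩
  let Φ : Subgroup Γ := Subgroup.closure ((fun y => y ^ q (i + 1)) '' (P (i + 1) : Set Γ)) ⊔
    (⁅P (i + 1), P (i + 1)⁆ ⊔ D (i + 1))
  have hΦM : Φ ≤ M'' := by
    refine sup_le ((closure_le _).mpr ?_) (sup_le ?_ (hD.trans hUM''))
    · rintro _ ⟨x, hx, rfl⟩
      exact ⟨⟨x, hx⟩ ^ q (i + 1), hMi ▸ Subgroup.pow_index_mem M' _, rfl⟩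
    · rw [commutator_le]
      intro a ha b hb
      refine ⟨⁅(⟨a, ha⟩ : P (i + 1)), ⟨b, hb⟩⁆, ?_, rfl⟩
      haveI : Fact (q (i + 1)).Prime := inferInstance
      haveI : IsCyclic (P (i + 1) ⧸ M') := isCyclic_of_prime_card (p := q (i + 1)) hMi
      rw [SetLike.mem_coe, ← QuotientGroup.eq_one_iff, ← QuotientGroup.mk'_apply, map_commutatorElement,
        commutatorElement_eq_one_iff_mul_comm]
      exact IsMulCommutative.is_comm.comm _ _
  have hPΦ : P (i + 1) ≤ normalizer (Φ : Set Γ) :=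
    Coprime.le_normalizer_sup (le_normalizer_powClosure Subgroup.le_normalizer _)
      (Coprime.le_normalizer_sup (le_normalizer_commutator' Subgroup.le_normalizer Subgroup.le_normalizer)
        (hlay.normD (i + 1) hi))
  have hPi := (hlay.invP (i + 1) hi).2 i (by omega)
  have hiΦ : P i ≤ normalizer (Φ : Set Γ) :=
    Coprime.le_normalizer_sup (le_normalizer_powClosure hPi _)
      (Coprime.le_normalizer_sup (le_normalizer_commutator' hPi hPi) ((hlay.invD (i + 1) hi).2 i (by omega)))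
  have hYΦ : Y (i + 1) ≤ Φ := fun y hy =>
    w.fixed_mem hi hPΦ hiΦ (le_sup_left.trans le_sup_right)
      (fun x hx => mem_sup_left (subset_closure ⟨x, hx, rfl⟩)) ((hlay.le (i + 1) hi).2.1 hy) fun x hx => by
        rw [← commutatorElement_inv]
        exact mem_sup_right (mem_sup_right ((D (i + 1)).inv_mem (hlay.actY i hi (commutator_mem_commutator hy hx))))
  have hall : P (i + 1) ≤ M'' := hsup.trans (sup_le hUM'' (hYΦ.trans hΦM))
  refine hM'.1 (eq_top_iff.mpr fun x _ => ?_)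
  obtain ⟨z, hz, he⟩ := hall x.2
  rwa [← Subtype.ext (he : (z : Γ) = x)]

/-- The family of a section. -/
theorem Tw.exists_family (w : Tw s r G₀ m P D Y q k) {i : ℕ} (hi : i < m) {M : Type u} [AddCommGroup M]
    [Module (ZMod (q (i + 1))) M] [Finite M] (ξ : SecRep (P (i + 1)) (Y (i + 1)) (q (i + 1)) M) :
    ∃ 𝒦 : Set (Submodule (ZMod (q (i + 1))) M),
      (∀ K ∈ 𝒦, ∀ j (hj : j ≤ i), ∀ g (hg : g ∈ P j),
        K.comap (ξ.rep ⟨g, w.le_nrm hi (Nat.lt_succ_of_le hj) hg⟩) ∈ 𝒦) ∧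
      (∀ v, (∀ K ∈ 𝒦, v ∈ K) → v = 0) ∧
      ∀ x : P (i + 1), (x : Γ) ∈ centralizer {s} → Good s m P Y (i + 1) x →
        ∀ K ∈ 𝒦, ¬ LinearMap.range (ξ.rep ⟨s, w.s_mem_nrm hi⟩ - 1) ≤ K → ξ.π x ∈ K := by
  classical
  haveI := w.fact (i := i + 1) hi
  rcases Nat.lt_or_eq_of_le (Nat.succ_le_of_lt hi) with hi2 | hi2
  swap
  · refine ⟨{⊥}, fun K hK j hj g hg => ?_, fun v hv => (Submodule.mem_bot _).mp (hv ⊥ rfl), fun x _ hx K hK _ => ?_⟩
    · rw [Set.mem_singleton_iff] at hK ⊢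
      subst hK
      refine (Submodule.eq_bot_iff _).mpr fun v hv => ?_
      rw [Submodule.mem_comap, Submodule.mem_bot] at hv
      have h1 := congrArg (ξ.rep ⟨g, w.le_nrm hi (Nat.lt_succ_of_le hj) hg⟩⁻¹) hv
      rwa [← Module.End.mul_apply, ← map_mul, inv_mul_cancel, map_one, map_zero] at h1
    · rw [Set.mem_singleton_iff] at hK
      subst hK
      rw [Good, if_neg (by omega)] at hx
      exact (Submodule.mem_bot _).mpr ((ξ.ker x).mpr hx)
  have hi2' : i + 1 < m := hi2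
  haveI := w.fact (i := i + 1 + 1) hi2'
  obtain ⟨M₂, _, _, _, ⟨η⟩⟩ := exists_secRep (w.lay.normY (i + 1 + 1) hi2') (w.lay.comm (i + 1 + 1) hi2')
    (w.lay.pow (i + 1 + 1) hi2')
  let H₁ := nrm P Y (i + 1)
  let H₂ := nrm P Y (i + 1 + 1)
  have hP2 : P (i + 1) ≤ H₂ := w.le_nrm hi2' (by omega)
  let ρ₂ : P (i + 1) →* Module.End (ZMod (q (i + 1 + 1))) M₂ := η.rep.comp (Subgroup.inclusion hP2)
  let Inv : Submodule (ZMod (q (i + 1 + 1))) M₂ → Prop := fun V => ∀ g, ∀ v ∈ V, ρ₂ g v ∈ V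
  let Mn : Submodule (ZMod (q (i + 1 + 1))) M₂ → Prop := fun V =>
    V ≠ ⊥ ∧ Inv V ∧ ∀ W, Inv W → W ≠ ⊥ → W ≤ V → W = V
  let kerV : Submodule (ZMod (q (i + 1 + 1))) M₂ → Subgroup (P (i + 1)) := fun V =>
    { carrier := {x | ∀ v ∈ V, ρ₂ x v = v}
      one_mem' := fun v _ => by simp
      mul_mem' := fun {a b} ha hb v hv => by rw [map_mul, Module.End.mul_apply, hb v hv, ha v hv]
      inv_mem' := fun {a} ha v hv => by
        conv_lhs => rw [← ha v hv]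
        rw [← Module.End.mul_apply, rho_cancel', Module.End.one_apply] }
  let img : Submodule (ZMod (q (i + 1 + 1))) M₂ → Submodule (ZMod (q (i + 1))) M := fun V =>
    ξ.imgSub ((kerV V).map (P (i + 1)).subtype)
  have hmem : ∀ V v, v ∈ img V ↔ ∃ x, x ∈ kerV V ∧ ξ.π x = v := fun V v => by
    rw [SecRep.mem_imgSub]
    refine exists_congr fun x => and_congr_left fun _ => ?_
    exact Subgroup.mem_map_iff_mem (P (i + 1)).subtype_injective
  -- moving the pieces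
  have hclo : ∀ V, Mn V → ∀ g (h1 : g ∈ H₁) (h2 : g ∈ H₂), ∃ W, Mn W ∧
      (img V).comap (ξ.rep ⟨g, h1⟩) = img W := by
    intro V hV g h1 h2
    let γ : H₂ := ⟨g, h2⟩
    have hinv : ∀ v, η.rep γ⁻¹ (η.rep γ v) = v := fun v => by
      rw [← Module.End.mul_apply, ← map_mul, inv_mul_cancel, map_one]; rfl
    have hinv' : ∀ v, η.rep γ (η.rep γ⁻¹ v) = v := fun v => by
      rw [← Module.End.mul_apply, ← map_mul, mul_inv_cancel, map_one]; rfl
    let cj : P (i + 1) → P (i + 1) := fun x =>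
      ⟨g * x * g⁻¹, (Subgroup.mem_normalizer_iff.mp h1.1 x).mp x.2⟩
    have hρ : ∀ x v, η.rep γ (ρ₂ x v) = ρ₂ (cj x) (η.rep γ v) := fun x v => by
      change η.rep γ (η.rep (Subgroup.inclusion hP2 x) v) = η.rep (Subgroup.inclusion hP2 (cj x)) (η.rep γ v)
      rw [← Module.End.mul_apply, ← map_mul, ← Module.End.mul_apply, ← map_mul]
      refine congrArg (fun h => η.rep h v) (Subtype.ext ?_)
      simp [γ, cj]
    have hcj : ∀ y, ∃ x, cj x = y := fun y =>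
      ⟨⟨g⁻¹ * y * g, (Subgroup.mem_normalizer_iff''.mp h1.1 y).mp y.2⟩, Subtype.ext (by simp [cj, mul_assoc])⟩
    let W := V.map (η.rep γ⁻¹)
    have hWmem : ∀ v, v ∈ W ↔ η.rep γ v ∈ V := fun v =>
      ⟨fun ⟨u, hu, he⟩ => by rw [← he, hinv']; exact hu, fun hv => ⟨_, hv, hinv v⟩⟩
    have hWI : Inv W := fun x v hv => by
      rw [hWmem, hρ]
      exact hV.2.1 _ _ ((hWmem v).mp hv)
    have hW0 : W ≠ ⊥ := fun h0 => hV.1 ((Submodule.eq_bot_iff _).mpr fun v hv => by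
      have h3 : η.rep γ⁻¹ v ∈ W := ⟨v, hv, rfl⟩
      rw [h0, Submodule.mem_bot] at h3
      rw [← hinv' v, h3, map_zero])
    refine ⟨W, ⟨hW0, hWI, fun W' hW'I hW'0 hW'le => ?_⟩, ?_⟩
    · have h3 : W'.map (η.rep γ) = V := by
        refine hV.2.2 _ ?_ ?_ ?_
        · rintro x _ ⟨u, hu, rfl⟩
          obtain ⟨x', rfl⟩ := hcj x
          exact ⟨ρ₂ x' u, hW'I x' u hu, hρ x' u⟩
        · intro h0
          refine hW'0 ((Submodule.eq_bot_iff _).mpr fun u hu => ?_)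
          have h4 : η.rep γ u ∈ W'.map (η.rep γ) := ⟨u, hu, rfl⟩
          rw [h0, Submodule.mem_bot] at h4
          rw [← hinv u, h4, map_zero]
        · rintro _ ⟨u, hu, rfl⟩
          exact (hWmem u).mp (hW'le hu)
      refine le_antisymm hW'le fun v hv => ?_
      obtain ⟨u, hu, he⟩ := h3.ge ((hWmem v).mp hv)
      rwa [show u = v by rw [← hinv u, he, hinv]] at hu
    · have hker : ∀ x, x ∈ kerV W ↔ cj x ∈ kerV V := fun x => by
        refine ⟨fun hx v hv => ?_, fun hx v hv => ?_⟩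
        · have h3 := hx _ ((hWmem (η.rep γ⁻¹ v)).mpr (by rw [hinv']; exact hv))
          have h4 := congrArg (η.rep γ) h3
          rwa [hρ, hinv'] at h4
        · have h3 := hx _ ((hWmem v).mp hv)
          rw [← hρ] at h3
          rw [← hinv (ρ₂ x v), h3, hinv]
      refine Submodule.ext fun v => ?_
      obtain ⟨x, rfl⟩ := ξ.surj v
      rw [Submodule.mem_comap, hmem, hmem, ξ.conj]
      constructor
      · rintro ⟨z, hz, he⟩
        obtain ⟨z', rfl⟩ := hcj z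
        refine ⟨z', (hker z').mpr hz, ?_⟩
        have h5 : ξ.rep ⟨g, h1⟩ (ξ.π z') = ξ.rep ⟨g, h1⟩ (ξ.π x) := by rw [ξ.conj, ξ.conj]; exact he
        have h6 := congrArg (ξ.rep (⟨g, h1⟩ : H₁)⁻¹) h5
        rwa [← Module.End.mul_apply, ← Module.End.mul_apply, ← map_mul, inv_mul_cancel, map_one] at h6
      · rintro ⟨z, hz, he⟩
        refine ⟨cj z, (hker z).mp hz, ?_⟩
        have h5 : ξ.rep ⟨g, h1⟩ (ξ.π z) = ξ.rep ⟨g, h1⟩ (ξ.π x) := by rw [he]
        rw [ξ.conj, ξ.conj] at h5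
        exact h5
  refine ⟨img '' {V | Mn V}, ?_, ?_, ?_⟩
  · rintro _ ⟨V, hV, rfl⟩ j hj g hg
    obtain ⟨W, hW, he⟩ := hclo V hV g (w.le_nrm hi (Nat.lt_succ_of_le hj) hg) (w.le_nrm hi2' (by omega) hg)
    exact ⟨W, hW, he.symm⟩
  · intro v hv
    set K₀ : Submodule (ZMod (q (i + 1))) M := ⨅ V : {V // Mn V}, img (V : Submodule _ M₂) with hK₀
    have hK₀mem : ∀ v, v ∈ K₀ ↔ ∀ V, Mn V → v ∈ img V := fun v => by simp [K₀, Submodule.mem_iInf]
    have hUY : Y (i + 1) ≤ ξ.preSub K₀ := fun y hy =>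
      (ξ.mem_preSub _ _).mpr ⟨(w.lay.le (i + 1) hi).2.1 hy, by rw [(ξ.ker _).mpr hy]; exact K₀.zero_mem⟩
    have hUP : ξ.preSub K₀ ≤ P (i + 1) := fun x hx => ((ξ.mem_preSub _ x).mp hx).1
    have hkey : ∀ g, g ∈ H₁ → g ∈ H₂ → ∀ x ∈ ξ.preSub K₀, g * x * g⁻¹ ∈ ξ.preSub K₀ := by
      intro g h1 h2 x hx
      obtain ⟨hxP, hxK⟩ := (ξ.mem_preSub _ x).mp hx
      refine (ξ.mem_preSub _ _).mpr ⟨(Subgroup.mem_normalizer_iff.mp h1.1 x).mp hxP, ?_⟩
      rw [← ξ.conj ⟨g, h1⟩ ⟨x, hxP⟩, hK₀mem]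
      intro V hV
      obtain ⟨W, hW, he⟩ := hclo V hV g h1 h2
      exact (Submodule.mem_comap (f := ξ.rep ⟨g, h1⟩)).mp (he ▸ (hK₀mem _).mp hxK W hW)
    have hnorm : H₁ ⊓ H₂ ≤ normalizer (ξ.preSub K₀ : Set Γ) :=
      mem_normalizer_of_conj fun g hg => hkey g hg.1 hg.2
    rcases w.lay.irred (i + 1) hi _ hUY hUP
      ⟨hnorm ⟨w.s_mem_nrm hi, w.s_mem_nrm hi2'⟩,
        fun j hj g hg => hnorm ⟨w.le_nrm hi hj hg, w.le_nrm hi2' (by omega) hg⟩⟩ with h | h
    · obtain ⟨x, rfl⟩ := ξ.surj v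
      refine (ξ.ker x).mpr (h.le ((ξ.mem_preSub _ _).mpr ⟨x.2, (hK₀mem _).mpr fun V hV => ?_⟩))
      exact hv _ ⟨V, hV, rfl⟩
    · exfalso
      have htop : ∀ V, Mn V → ∀ x : P (i + 1), ξ.π x ∈ img V := fun V hV x =>
        (hK₀mem _).mp ((ξ.mem_preSub _ _).mp (h.ge x.2)).2 V hV
      have hD : ∀ V, D (i + 1) ≤ (kerV V).map (P (i + 1)).subtype := fun V d hd => by
        refine ⟨⟨d, (w.lay.le (i + 1) hi).2.1 ((w.lay.le (i + 1) hi).1 hd)⟩, fun v _ => ?_, rfl⟩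
        obtain ⟨y, rfl⟩ := η.surj v
        refine (η.fix_iff _ y).mpr ?_
        rw [← commutatorElement_inv]
        exact (Y (i + 1 + 1)).inv_mem ((w.trivial_iff hi2' ((w.lay.le (i + 1) hi).2.1
          ((w.lay.le (i + 1) hi).1 hd))).mpr hd y y.2)
      obtain ⟨V, ⟨hV0, hVI⟩, hVmin⟩ := wellFounded_lt.has_min
        {V : Submodule (ZMod (q (i + 1 + 1))) M₂ | V ≠ ⊥ ∧ Inv V}
        ⟨⊤, fun h0 => by
          refine (w.lay.le (i + 1 + 1) hi2').2.2 fun y hy => (η.ker ⟨y, hy⟩).mp ?_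
          rw [← Submodule.mem_bot (ZMod (q (i + 1 + 1))), ← h0]
          trivial, fun _ _ _ => Submodule.mem_top⟩
      have hV : Mn V := ⟨hV0, hVI, fun W hWI hW0 hWle =>
        eq_of_le_of_not_lt hWle (hVmin W ⟨hW0, hWI⟩)⟩
      have hker : (kerV V).map (P (i + 1)).subtype = P (i + 1) := by
        refine w.frat hi (map_subtype_le _) (hD V) fun x hx => ?_
        obtain ⟨z, hz, he⟩ := (hmem V _).mp (htop V hV ⟨x, hx⟩)
        have h3 : ξ.π (z⁻¹ * ⟨x, hx⟩) = 0 := by rw [ξ.mul, ξ.map_inv, he, neg_add_cancel]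
        have h4 := mul_mem_sup (S := (kerV V).map (P (i + 1)).subtype) (T := Y (i + 1))
          (mem_map_of_mem _ hz) ((ξ.ker _).mp h3)
        simpa using h4
      obtain ⟨u, hu, hu0⟩ := Submodule.exists_mem_ne_zero_of_ne_bot hV0
      obtain ⟨y, rfl⟩ := η.surj u
      refine hu0 ((η.ker y).mpr (w.lay.fixY (i + 1) hi2' y y.2 fun x hx => ?_))
      obtain ⟨x', hx', he⟩ := hker.ge hx
      have h5 := (η.fix_iff _ y).mp (hx' _ hu)
      rw [← commutatorElement_inv]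
      exact (Y (i + 1 + 1)).inv_mem (by rw [← he]; exact h5)
  · rintro x - hgood _ ⟨V, hV, rfl⟩ hmove
    rw [Good, if_pos hi2'] at hgood
    set N := ⁅P (i + 1), zpowers s⁆ with hN
    let T : Set M₂ := {z | ∃ g : P (i + 1), (g : Γ) ∈ N ∧ ∃ v ∈ V, ρ₂ g v - v = z}
    let W := Submodule.span (ZMod (q (i + 1 + 1))) T
    have hWV : W ≤ V := Submodule.span_le.mpr (by
      rintro _ ⟨g, -, v, hv, rfl⟩
      exact V.sub_mem (hV.2.1 g v hv) hv)
    have hNn := Coprime.le_normalizer_commutator (K := P (i + 1)) (A := zpowers s)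
    have hWI : Inv W := by
      intro h z hz
      induction hz using Submodule.span_induction with
      | mem z hz =>
        obtain ⟨g, hg, v, hv, rfl⟩ := hz
        refine Submodule.subset_span ⟨h * g * h⁻¹, ?_, ρ₂ h v, hV.2.1 h v hv, ?_⟩
        · exact (Subgroup.mem_normalizer_iff.mp (hNn (mem_sup_left h.2)) _).mp hg
        · rw [← Module.End.mul_apply, ← map_mul, inv_mul_cancel_right, map_mul, Module.End.mul_apply, map_sub]
      | zero => simp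
      | add a b _ _ ha hb => rw [map_add]; exact W.add_mem ha hb
      | smul e a _ ha => rw [map_smul]; exact W.smul_mem e ha
    by_cases hW0 : W = ⊥
    · refine absurd ?_ hmove
      rintro _ ⟨z, rfl⟩
      obtain ⟨y, rfl⟩ := ξ.surj z
      rw [LinearMap.sub_apply, Module.End.one_apply, ξ.sub_eq, hmem]
      refine ⟨_, fun v hv => ?_, rfl⟩
      refine sub_eq_zero.mp ((Submodule.mem_bot (ZMod (q (i + 1 + 1)))).mp (hW0.le (Submodule.subset_span ⟨_, ?_, v, hv, rfl⟩)))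
      change ⁅s, (y : Γ)⁆ ∈ N
      rw [← commutatorElement_inv]
      exact N.inv_mem (commutator_mem_commutator y.2 (mem_zpowers s))
    · rw [hmem]
      refine ⟨x, fun v hv => ?_, rfl⟩
      rw [← hV.2.2 W hWI hW0 hWV] at hv
      induction hv using Submodule.span_induction with
      | mem z hz =>
        obtain ⟨g, hg, v, hv, rfl⟩ := hz
        obtain ⟨y, rfl⟩ := η.surj v
        have h1 : ρ₂ g (η.π y) - η.π y = η.π ⟨⁅(g : Γ), (y : Γ)⁆, _⟩ := η.sub_eq _ y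
        rw [h1]
        exact (η.fix_iff _ _).mpr (hgood g hg y y.2)
      | zero => simp
      | add a b _ _ ha hb => rw [map_add, ha, hb]
      | smul e a _ ha => rw [map_smul, ha]

end Cfsg.Agent.Turull
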