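import Cfsg.Agent.Turull.Eigen

/-!
Operators of prime order permuting the lines of a basis.
-/

set_option autoImplicit false

namespace Cfsg.Agent.Turull

open Module

variable {E : Type*} [Field E] {V : Type*} [AddCommGroup V] [Module E V] {ι : Type*}

/-- An operator of prime order permuting the lines of a basis. -/
structure Mono (b : Basis ι E V) (f : Module.End E V) (π : Equiv.Perm ι) (c : ι → E) (o : ℕ) :
    Prop where
  map : ∀ i, f (b i) = c i • b (π i)
  prime : o.Prime
  pow : f ^ o = 1

variable {b : Basis ι E V} {f : Module.End E V} {π : Equiv.Perm ι} {c : ι → E} {o : ℕ}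

namespace Mono

theorem map_pow (h : Mono b f π c o) (k : ℕ) (i : ι) : ∃ d : E, (f ^ k) (b i) = d • b (π^[k] i) := by
  induction k with
  | zero => exact ⟨1, by simp⟩
  | succ k ih =>
    obtain ⟨d, hd⟩ := ih
    refine ⟨d * c (π^[k] i), ?_⟩
    rw [pow_succ', Module.End.mul_apply, hd, map_smul, h.map, smul_smul, Function.iterate_succ_apply']

theorem periodic (h : Mono b f π c o) (i : ι) : π^[o] i = i := by
  classical
  obtain ⟨d, hd⟩ := h.map_pow o i
  rw [h.pow, Module.End.one_apply] at hd
  by_contra hne
  have h1 := congrArg (fun v => b.repr v i) hd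
  simp [hne] at h1

theorem c_ne (h : Mono b f π c o) (i : ι) : c i ≠ 0 := by
  intro h0
  have h1 : f (b i) = 0 := by rw [h.map, h0, zero_smul]
  have h2 : (f ^ o) (b i) = 0 := by
    rw [← Nat.succ_pred_eq_of_pos h.prime.pos, pow_succ, Module.End.mul_apply, h1, map_zero]
  rw [h.pow, Module.End.one_apply] at h2
  exact b.ne_zero i h2

theorem minimalPeriod_eq (h : Mono b f π c o) {i : ι} (hi : π i ≠ i) :
    Function.minimalPeriod π i = o := by
  haveI := Fact.mk h.prime
  exact Function.minimalPeriod_eq_prime (h.periodic i) hi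

theorem iterate_ne (h : Mono b f π c o) {i : ι} (hi : π i ≠ i) (k : ℕ) : π (π^[k] i) ≠ π^[k] i := by
  intro he
  apply hi
  rw [← Function.iterate_succ_apply' π k i, Function.iterate_succ_apply] at he
  exact π.injective.iterate k he

variable [Fintype ι]

/-- Representatives of the moved orbits. -/
theorem exists_transversal (h : Mono b f π c o) :
    ∃ T : Finset ι, (∀ t ∈ T, π t ≠ t) ∧ (∀ i, π i ≠ i → ∃ t ∈ T, ∃ k < o, π^[k] t = i) ∧
      ∀ t ∈ T, ∀ t' ∈ T, ∀ k < o, ∀ k' < o, π^[k] t = π^[k'] t' → t = t' ∧ k = k' := by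
  classical
  let s : Setoid ι := Equiv.Perm.SameCycle.setoid π
  let rep : ι → ι := fun i => (Quotient.mk s i).out
  refine ⟨(Finset.univ.filter fun i => π i ≠ i).image rep, ?_, ?_, ?_⟩
  · intro t ht he
    obtain ⟨i, hi, rfl⟩ := Finset.mem_image.mp ht
    have hsc : π.SameCycle i (rep i) := Equiv.Perm.SameCycle.symm (Quotient.mk_out (s := s) i)
    exact (Finset.mem_filter.mp hi).2 ((hsc.apply_eq_self_iff).mpr he)
  · intro i hi
    refine ⟨rep i, Finset.mem_image.mpr ⟨i, Finset.mem_filter.mpr ⟨Finset.mem_univ _, hi⟩, rfl⟩, ?_⟩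
    have hsc : π.SameCycle (rep i) i := Quotient.mk_out (s := s) i
    obtain ⟨k, hk⟩ := hsc.exists_pow_eq'' |>.elim fun k hk => Exists.intro k hk.2.2
    refine ⟨k % o, Nat.mod_lt _ h.prime.pos, ?_⟩
    have h1 : π^[k % o] (rep i) = π^[k] (rep i) := by
      conv_rhs => rw [← Nat.mod_add_div k o, Function.iterate_add_apply,
        Function.iterate_mul, Function.iterate_fixed (h.periodic (rep i))]
    rw [h1, Equiv.Perm.iterate_eq_pow]
    exact hk
  · intro t ht t' ht' k hk k' hk' he
    obtain ⟨i, hi, rfl⟩ := Finset.mem_image.mp ht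
    obtain ⟨i', hi', rfl⟩ := Finset.mem_image.mp ht'
    have hmove : π (rep i) ≠ rep i := fun he => by
      have hsc : π.SameCycle i (rep i) := Equiv.Perm.SameCycle.symm (Quotient.mk_out (s := s) i)
      exact (Finset.mem_filter.mp hi).2 ((hsc.apply_eq_self_iff).mpr he)
    have hsame : π.SameCycle (rep i) (rep i') := by
      rw [Equiv.Perm.iterate_eq_pow, Equiv.Perm.iterate_eq_pow] at he
      have h1 : π.SameCycle ((π ^ k) (rep i)) ((π ^ k') (rep i')) := by rw [he]
      exact Equiv.Perm.sameCycle_pow_right.mp (Equiv.Perm.sameCycle_pow_left.mp h1)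
    have heq : rep i = rep i' := by
      have h2 : Quotient.mk s (rep i) = Quotient.mk s (rep i') := Quotient.sound hsame
      rw [Quotient.out_eq, Quotient.out_eq] at h2
      exact congrArg Quotient.out h2
    refine ⟨heq, ?_⟩
    rw [← heq] at he
    have hp := h.minimalPeriod_eq hmove
    exact Function.iterate_injOn_Iio_minimalPeriod (by rw [hp]; exact hk) (by rw [hp]; exact hk') he

/-- The dimension of an eigenspace. -/
theorem finrank_eigen [DecidableEq ι] [DecidableEq E] [FiniteDimensional E V] (h : Mono b f π c o) {ζ : E} (hζ : ζ ^ o = 1) :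
    o * Module.finrank E (Module.End.eigenspace f ζ) =
      (Finset.univ.filter fun i => π i ≠ i).card + o * (Finset.univ.filter fun i => π i = i ∧ c i = ζ).card := by
  classical
  obtain ⟨T, hTm, hTc, hTi⟩ := h.exists_transversal
  have hmoved : (Finset.univ.filter fun i => π i ≠ i).card = (T ×ˢ Finset.range o).card := by
    refine (Finset.card_bij (fun p _ => π^[p.2] p.1) ?_ ?_ ?_).symm
    · intro p hp
      obtain ⟨hp1, -⟩ := Finset.mem_product.mp hp
      exact Finset.mem_filter.mpr ⟨Finset.mem_univ _, h.iterate_ne (hTm _ hp1) _⟩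
    · intro p hp p' hp' he
      obtain ⟨hp1, hp2⟩ := Finset.mem_product.mp hp
      obtain ⟨hp1', hp2'⟩ := Finset.mem_product.mp hp'
      obtain ⟨e1, e2⟩ := hTi _ hp1 _ hp1' _ (Finset.mem_range.mp hp2) _ (Finset.mem_range.mp hp2') he
      exact Prod.ext e1 e2
    · intro i hi
      obtain ⟨t, ht, k, hk, he⟩ := hTc i (Finset.mem_filter.mp hi).2
      exact ⟨(t, k), Finset.mem_product.mpr ⟨ht, Finset.mem_range.mpr hk⟩, he⟩
  set F := Finset.univ.filter fun i => π i = i ∧ c i = ζ with hF
  have hdisj : Disjoint T F := Finset.disjoint_left.mpr fun t ht ht' =>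
    hTm t ht (Finset.mem_filter.mp ht').2.1
  suffices hs : Module.finrank E (Module.End.eigenspace f ζ) = (T ∪ F).card by
    rw [hs, Finset.card_union_of_disjoint hdisj, hmoved, Finset.card_product, Finset.card_range]
    ring
  have hζ0 : ζ ≠ 0 := fun h0 => by simp [h0, h.prime.ne_zero] at hζ
  have hcoef : ∀ v ∈ Module.End.eigenspace f ζ, ∀ i, c i * b.repr v i = ζ * b.repr v (π i) := by
    intro v hv i
    rw [Module.End.mem_eigenspace_iff] at hv
    have h1 : b.repr (f v) (π i) = c i * b.repr v i := by
      conv_lhs => rw [← b.sum_repr v, map_sum, map_sum, Finset.sum_apply']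
      rw [Finset.sum_eq_single i]
      · simp [h.map, mul_comm]
      · intro j _ hj
        simp [h.map, π.injective.ne hj]
      · intro hj; exact absurd (Finset.mem_univ i) hj
    rw [hv, map_smul] at h1
    simpa using h1.symm
  let R : Module.End.eigenspace f ζ →ₗ[E] ((T ∪ F : Finset ι) → E) :=
    { toFun := fun v i => b.repr (v : V) i
      map_add' := fun v w => by funext i; simp
      map_smul' := fun a v => by funext i; simp }
  have hR : Function.Injective R := by
    rw [injective_iff_map_eq_zero]
    intro v hv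
    have hz : ∀ i ∈ T ∪ F, b.repr (v : V) i = 0 := fun i hi => congrFun hv ⟨i, hi⟩
    refine Subtype.ext (b.repr.injective (Finsupp.ext fun i => ?_))
    rw [ZeroMemClass.coe_zero, map_zero, Finsupp.zero_apply]
    by_cases hi : π i = i
    · by_cases hci : c i = ζ
      · exact hz i (Finset.mem_union_right _ (Finset.mem_filter.mpr ⟨Finset.mem_univ _, hi, hci⟩))
      · have h1 := hcoef v v.2 i
        rw [hi] at h1
        by_contra hne
        exact hci (mul_right_cancel₀ hne h1)
    · obtain ⟨t, ht, k, -, he⟩ := hTc i hi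
      rw [← he]
      clear he
      induction k with
      | zero => exact hz t (Finset.mem_union_left _ ht)
      | succ k ih =>
        have h1 := hcoef v v.2 (π^[k] t)
        rw [ih, mul_zero, ← Function.iterate_succ_apply' π k t] at h1
        exact (mul_eq_zero.mp h1.symm).resolve_left hζ0
  have hle := LinearMap.finrank_le_finrank_of_injective hR
  rw [Module.finrank_fintype_fun_eq_card, Fintype.card_coe] at hle
  refine le_antisymm hle ?_
  let w : ι → V := fun i => if π i = i then b i else ∑ k ∈ Finset.range o, ζ⁻¹ ^ k • (f ^ k) (b i)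
  have hw : ∀ i ∈ T ∪ F, w i ∈ Module.End.eigenspace f ζ := by
    intro i hi
    rw [Module.End.mem_eigenspace_iff]
    simp only [w]
    rcases Finset.mem_union.mp hi with ht | hf
    · rw [if_neg (hTm i ht)]
      simp only [map_sum, map_smul, Finset.smul_sum, smul_smul]
      have h3 := Finset.sum_range_succ' (fun k => (ζ * ζ⁻¹ ^ k) • (f ^ k) (b i)) o
      rw [Finset.sum_range_succ] at h3
      have h5 : (ζ * ζ⁻¹ ^ o) • (f ^ o) (b i) = (ζ * ζ⁻¹ ^ 0) • (f ^ 0) (b i) := by
        rw [h.pow, inv_pow, hζ, inv_one, pow_zero, pow_zero]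
      rw [h5] at h3
      rw [add_right_cancel h3]
      refine Finset.sum_congr rfl fun k _ => ?_
      rw [pow_succ' f, Module.End.mul_apply, pow_succ' ζ⁻¹, ← mul_assoc, mul_inv_cancel₀ hζ0, one_mul]
    · obtain ⟨-, hf1, hf2⟩ := Finset.mem_filter.mp hf
      rw [if_pos hf1, h.map, hf1, hf2]
  have hind : LinearIndependent E (fun i : (T ∪ F : Finset ι) =>
      (⟨w i, hw i i.2⟩ : Module.End.eigenspace f ζ)) := by
    refine LinearIndependent.of_comp R ?_
    have hcomp : (R ∘ fun i : (T ∪ F : Finset ι) => (⟨w i, hw i i.2⟩ : Module.End.eigenspace f ζ)) =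
        fun i : (T ∪ F : Finset ι) => (Pi.single i 1 : (T ∪ F : Finset ι) → E) := by
      funext i j
      change b.repr (w i) (j : ι) = _
      by_cases hi : π (i : ι) = i
      · simp only [w, if_pos hi, Basis.repr_self]
        rw [Finsupp.single_apply, Pi.single_apply]
        exact if_congr ⟨fun e => Subtype.ext e.symm, fun e => by rw [e]⟩ rfl rfl
      · simp only [w, if_neg hi, map_sum, map_smul, Finset.sum_apply', Finsupp.smul_apply]
        rw [Finset.sum_eq_single 0]
        · simp only [pow_zero, Module.End.one_apply, Basis.repr_self, one_smul]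
          rw [Finsupp.single_apply, Pi.single_apply]
          exact if_congr ⟨fun e => Subtype.ext e.symm, fun e => by rw [e]⟩ rfl rfl
        · intro k hk hk0
          obtain ⟨d, hd⟩ := h.map_pow k i
          rw [hd, map_smul, Finsupp.smul_apply, Basis.repr_self, Finsupp.single_apply, if_neg, smul_zero,
            smul_zero]
          intro he
          rcases Finset.mem_union.mp i.2 with hti | hfi
          · rcases Finset.mem_union.mp j.2 with htj | hfj
            · exact hk0 (hTi i hti j htj k (Finset.mem_range.mp hk) 0 h.prime.pos he).2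
            · exact h.iterate_ne hi k (he.symm ▸ (Finset.mem_filter.mp hfj).2.1)
          · exact hi (Finset.mem_filter.mp hfi).2.1
        · intro h0; exact absurd (Finset.mem_range.mpr h.prime.pos) h0
    rw [hcomp]
    exact Pi.linearIndependent_single_one _ _
  have := hind.fintype_card_le_finrank
  rwa [Fintype.card_coe] at this

end Mono

end Cfsg.Agent.Turull
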