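import Cfsg.Agent.Turull.Nondeg
import Cfsg.Agent.Turull.Monomial

/-!
An operator of prime order normalising a nondegenerate group of operators: outside the exceptional
case every eigenvalue occurs in a way that the fixed points see everything.
-/

set_option autoImplicit false
set_option maxHeartbeats 1000000

namespace Cfsg.Agent.Turull

open Module

variable {E : Type*} [Field E] {W : Type*} [AddCommGroup W] [Module E W] {N : Type*} [Group N]

/-- An operator of prime order normalising a group of operators. -/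
structure Act (ρ : N →* Module.End E W) (σ : N ≃* N) (S : Module.End E W) (r : ℕ) : Prop where
  rel : ∀ g, S * ρ g = ρ (σ g) * S
  prime : r.Prime
  pow : S ^ r = 1
  gen : Subgroup.closure (Set.range fun g : N => g⁻¹ * σ g) = ⊤

variable {ρ : N →* Module.End E W} {σ : N ≃* N} {S : Module.End E W} {r : ℕ}

theorem Act.cancel (h : Act ρ σ S r) : S * S ^ (r - 1) = 1 := by
  rw [← pow_succ', Nat.sub_add_cancel h.prime.one_le, h.pow]

theorem Act.map_scal (h : Act ρ σ S r) {g : N} {c : E} (hg : ρ g = c • (1 : Module.End E W)) :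
    ρ (σ g) = c • (1 : Module.End E W) := by
  have h1 := h.rel g
  rw [hg, mul_smul_comm, mul_one] at h1
  calc ρ (σ g) = ρ (σ g) * S * S ^ (r - 1) := by rw [mul_assoc, h.cancel, mul_one]
    _ = c • (1 : Module.End E W) := by rw [← h1, smul_mul_assoc, h.cancel]

/-- The induced map on the operators modulo scalars. -/
def Act.bar (h : Act ρ σ S r) : N ⧸ scal ρ →* N ⧸ scal ρ :=
  QuotientGroup.map _ _ σ.toMonoidHom fun g ⟨c, hc⟩ => ⟨c, h.map_scal hc⟩

theorem Act.bar_mk (h : Act ρ σ S r) (g : N) :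
    h.bar (QuotientGroup.mk g) = (QuotientGroup.mk (σ g) : N ⧸ scal ρ) := rfl

theorem Nondeg.comm_quot (hn : Nondeg ρ) [Nontrivial W] (a b : N ⧸ scal ρ) : a * b = b * a := by
  induction a using QuotientGroup.induction_on with
  | H g =>
  induction b using QuotientGroup.induction_on with
  | H k =>
    rw [← QuotientGroup.mk_mul, ← QuotientGroup.mk_mul, QuotientGroup.eq]
    obtain ⟨c, hc⟩ := hn.comm k g
    refine ⟨c, ?_⟩
    rw [map_mul, map_mul ρ k g, hc, mul_smul_comm, ← map_mul, ← map_mul, inv_mul_cancel, map_one]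

theorem Act.bar_fpf (h : Act ρ σ S r) (hn : Nondeg ρ) [Nontrivial W] [Finite N] {q : N ⧸ scal ρ}
    (hq : h.bar q = q) : q = 1 := by
  let φ : N ⧸ scal ρ →* N ⧸ scal ρ :=
    { toFun := fun x => x⁻¹ * h.bar x
      map_one' := by rw [inv_one, one_mul, map_one]
      map_mul' := fun x y => by
        calc (x * y)⁻¹ * h.bar (x * y) = y⁻¹ * (x⁻¹ * h.bar x) * h.bar y := by
              rw [map_mul, mul_inv_rev]; simp only [mul_assoc]
          _ = x⁻¹ * h.bar x * (y⁻¹ * h.bar y) := by
              rw [hn.comm_quot y⁻¹, mul_assoc] }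
  have hsurj : Function.Surjective φ := by
    rw [← MonoidHom.range_eq_top, eq_top_iff]
    intro x _
    obtain ⟨g, rfl⟩ := QuotientGroup.mk'_surjective (scal ρ) x
    have hg : g ∈ (⊤ : Subgroup N) := trivial
    rw [← h.gen] at hg
    have hle : Subgroup.closure (Set.range fun g : N => g⁻¹ * σ g) ≤
        φ.range.comap (QuotientGroup.mk' (scal ρ)) := by
      rw [Subgroup.closure_le]
      rintro _ ⟨k, rfl⟩
      exact ⟨QuotientGroup.mk k, rfl⟩
    exact hle hg
  have hinj : Function.Injective φ := Finite.injective_iff_surjective.mpr hsurj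
  refine hinj ?_
  change q⁻¹ * h.bar q = 1⁻¹ * h.bar 1
  rw [hq, inv_mul_cancel, map_one, inv_one, one_mul]

/-- The facts about a model of the operators that the applications need. -/
structure Model (ρ : N →* Module.End E W) (σ : N ≃* N) (J : Submodule E W)
    (τ : N →* Module.End E J) (Φ : Module.End E J →ₐ[E] Module.End E W)
    (a a' : Module.End E J) (c : E) (r : ℕ) : Prop where
  span : ∀ X : Module.End E J, X ∈ Submodule.span E (Set.range fun q : N ⧸ scal ρ => τ q.out)
  indep : LinearIndependent E fun q : N ⧸ scal ρ => τ q.out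
  scalar : ∀ g, ∀ c : E, ρ g = c • (1 : Module.End E W) → τ g = c • (1 : Module.End E J)
  phi : ∀ g, Φ (τ g) = ρ g
  inter : ∀ g, a * τ g = τ (σ g) * a
  inv : a * a' = 1
  inv' : a' * a = 1
  apow : a ^ r = c • (1 : Module.End E J)
  cne : c ≠ 0

theorem Model.span_induction {J : Submodule E W} {τ : N →* Module.End E J}
    {Φ : Module.End E J →ₐ[E] Module.End E W} {a a' : Module.End E J} {c : E}
    (M : Model ρ σ J τ Φ a a' c r) {P : Module.End E J → Prop} (h0 : P 0) (hg : ∀ g, P (τ g))
    (hadd : ∀ X Y, P X → P Y → P (X + Y)) (hsmul : ∀ (e : E) X, P X → P (e • X))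
    (X : Module.End E J) : P X := by
  refine Submodule.span_induction ?_ h0 (fun x y _ _ => hadd x y) (fun e x _ => hsmul e x) (M.span X)
  rintro _ ⟨q, rfl⟩
  exact hg _

theorem exists_act_model [IsAlgClosed E] [FiniteDimensional E W] [Nontrivial W] [Finite N]
    {t : ℕ} [Fact t.Prime] (hN : IsPGroup t N) (ht : (t : E) ≠ 0) (hn : Nondeg ρ)
    (h : Act ρ σ S r) :
    ∃ (J : Submodule E W) (τ : N →* Module.End E J) (Φ : Module.End E J →ₐ[E] Module.End E W)
      (a a' : Module.End E J) (c : E), Model ρ σ J τ Φ a a' c r ∧ J ≠ ⊥ ∧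
      (∃ k : ℕ, Module.finrank E J = t ^ k) ∧ Module.finrank E J ^ 2 = Nat.card (N ⧸ scal ρ) ∧
      ∀ X : Module.End E J, S * Φ X = Φ (a * X * a') * S := by
  classical
  obtain ⟨J, hJ, hJ0, hirr, hk, hcard, hspan, Φ, hΦ⟩ := hn.exists_model hN ht
  haveI : Nontrivial J := Submodule.nontrivial_iff_ne_bot.mpr hJ0
  obtain ⟨hnJ, hsc⟩ := hn.res hJ hJ0
  set τ := Turull.res ρ J hJ with hτ
  have hind : LinearIndependent E (fun q : N ⧸ scal ρ => τ q.out) := by
    have h1 := hnJ.indep
    rw [hsc] at h1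
    exact h1
  have hscalar : ∀ g, ∀ c : E, ρ g = c • (1 : Module.End E W) → τ g = c • (1 : Module.End E J) :=
    fun g c hg => res_smul_one hJ hg
  haveI : Fintype (N ⧸ scal ρ) := Fintype.ofFinite _
  let term : N → Module.End E J := fun g => τ (σ g) * τ g⁻¹
  have hterm : ∀ g z, z ∈ scal ρ → term (g * z) = term g := by
    intro g z ⟨c, hc⟩
    have hc0 : c ≠ 0 := fun h0 => rho_ne_zero ρ z (by rw [hc, h0, zero_smul])
    have hzinv : ρ z⁻¹ = c⁻¹ • (1 : Module.End E W) := by
      have h1 := rho_cancel' ρ z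
      rw [hc, mul_smul_comm, mul_one] at h1
      rw [← h1, smul_smul, inv_mul_cancel₀ hc0, one_smul]
    simp only [term]
    rw [map_mul σ, map_mul τ, hscalar _ c (h.map_scal hc), mul_inv_rev, map_mul τ, hscalar _ _ hzinv,
      smul_mul_assoc (r := c⁻¹), one_mul, mul_smul_comm c, mul_one, mul_smul_comm c⁻¹, smul_mul_assoc,
      smul_smul, inv_mul_cancel₀ hc0, one_smul]
  let a : Module.End E J := ∑ q : N ⧸ scal ρ, term q.out
  have hint : ∀ g, a * τ g = τ (σ g) * a := by
    intro g
    simp only [a, Finset.sum_mul, Finset.mul_sum]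
    refine (Fintype.sum_equiv (Equiv.mulLeft (QuotientGroup.mk g : N ⧸ scal ρ)) _ _ fun q => ?_).symm
    obtain ⟨z, hz, hz'⟩ := exists_out ρ (g * q.out)
    have hq : (QuotientGroup.mk (g * q.out) : N ⧸ scal ρ) = QuotientGroup.mk g * q := by
      rw [QuotientGroup.mk_mul, QuotientGroup.out_eq']
    rw [hq] at hz'
    rw [Equiv.coe_mulLeft]
    beta_reduce
    rw [← hterm (QuotientGroup.mk g * q : N ⧸ scal ρ).out z hz, ← hz']
    simp only [term]
    rw [map_mul σ, map_mul τ, mul_inv_rev, map_mul τ]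
    have h1 : τ g⁻¹ * τ g = 1 := by rw [← map_mul, inv_mul_cancel, map_one]
    simp only [mul_assoc, h1, mul_one]
  have ha0 : a ≠ 0 := by
    intro ha
    let p : N ⧸ scal ρ → N ⧸ scal ρ := fun q => QuotientGroup.mk (σ q.out * q.out⁻¹)
    have hp : Function.Injective p := by
      intro q q' he
      have e1 : ∀ q : N ⧸ scal ρ, p q = h.bar q * q⁻¹ := fun q => by
        simp only [p]
        rw [QuotientGroup.mk_mul, QuotientGroup.mk_inv, ← h.bar_mk, QuotientGroup.out_eq']
      rw [e1, e1] at he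
      have e2 : h.bar (q'⁻¹ * q) = q'⁻¹ * q := by
        calc h.bar (q'⁻¹ * q) = (h.bar q')⁻¹ * (h.bar q * q⁻¹ * q) := by
              rw [map_mul, map_inv, inv_mul_cancel_right]
          _ = q'⁻¹ * q := by rw [he, ← mul_assoc, ← mul_assoc, inv_mul_cancel, one_mul]
      have e3 := h.bar_fpf hn e2
      rw [inv_mul_eq_one] at e3
      exact e3.symm
    have hz : ∀ q : N ⧸ scal ρ, ∃ c : E, c ≠ 0 ∧ term q.out = c • τ (p q).out := by
      intro q
      obtain ⟨z, ⟨c, hc⟩, hz'⟩ := exists_out ρ (σ q.out * q.out⁻¹)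
      refine ⟨c, fun h0 => rho_ne_zero ρ z (by rw [hc, h0, zero_smul]), ?_⟩
      simp only [term, p]
      rw [← map_mul, hz', map_mul τ, hscalar z c hc, mul_smul_comm, mul_one]
      rw [← hz']
    choose d hd hd' using hz
    have h1 : ∑ q, d q • τ (p q).out = 0 := by rw [← ha]; exact Finset.sum_congr rfl fun q _ => (hd' q).symm
    have h2 := Fintype.linearIndependent_iff.mp (hind.comp p hp) d h1
    exact hd 1 (h2 1)
  have hker : LinearMap.ker a = ⊥ := by
    rcases hirr (LinearMap.ker a) (fun g v hv => by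
      rw [LinearMap.mem_ker] at hv ⊢
      rw [← Module.End.mul_apply, hint, Module.End.mul_apply, hv, map_zero]) with h1 | h1
    · exact h1
    · exact absurd (LinearMap.ker_eq_top.mp h1) ha0
  obtain ⟨a', ha1, ha2⟩ : ∃ a' : Module.End E J, a * a' = 1 ∧ a' * a = 1 := by
    let e := LinearEquiv.ofInjectiveEndo a (LinearMap.ker_eq_bot.mp hker)
    refine ⟨e.symm.toLinearMap, LinearMap.ext fun v => ?_, LinearMap.ext fun v => ?_⟩
    · exact e.apply_symm_apply v
    · exact e.symm_apply_apply v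
  have hap : ∀ k : ℕ, ∀ g, a ^ k * τ g = τ (σ^[k] g) * a ^ k := by
    intro k
    induction k with
    | zero => intro g; simp
    | succ k ih =>
      intro g
      rw [pow_succ', mul_assoc, ih, ← mul_assoc, hint, mul_assoc, Function.iterate_succ_apply']
  have hsp : ∀ k : ℕ, ∀ g, S ^ k * ρ g = ρ (σ^[k] g) * S ^ k := by
    intro k
    induction k with
    | zero => intro g; simp
    | succ k ih =>
      intro g
      rw [pow_succ', mul_assoc, ih, ← mul_assoc, h.rel, mul_assoc, Function.iterate_succ_apply']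
  obtain ⟨c, hc⟩ := HallHigman.scalar_of_commute hirr (a ^ r) (fun g => by
    show a ^ r * τ g = τ g * a ^ r
    have h1 := hsp r g
    rw [h.pow, one_mul, mul_one] at h1
    have h2 : τ (σ^[r] g) = τ g := LinearMap.ext fun v => Subtype.ext (by
      rw [res_apply, res_apply, ← h1])
    rw [hap, h2])
  have hc0 : c ≠ 0 := by
    rintro rfl
    rw [zero_smul] at hc
    have h1 : IsUnit a := ⟨⟨a, a', ha1, ha2⟩, rfl⟩
    exact (h1.pow r).ne_zero hc
  let M : Model ρ σ J τ Φ a a' c r := ⟨hspan, hind, hscalar, hΦ, hint, ha1, ha2, hc, hc0⟩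
  refine ⟨J, τ, Φ, a, a', c, M, hJ0, hk, hcard, fun X => ?_⟩
  refine M.span_induction (P := fun X => S * Φ X = Φ (a * X * a') * S) ?_ ?_ ?_ ?_ X
  · simp
  · intro g
    rw [hint, mul_assoc _ a a', ha1, mul_one, hΦ, hΦ, h.rel]
  · intro X Y hX hY
    rw [map_add, mul_add, mul_add a, add_mul (a * X), map_add, add_mul, hX, hY]
  · intro e X hX
    rw [map_smul, mul_smul_comm, hX, mul_smul_comm, smul_mul_assoc, map_smul, smul_mul_assoc]

end Cfsg.Agent.Turull
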