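import Cfsg.Agent.Turull.NoOdd

/-!
Operators that commute with the operator of prime order and fix its fixed points are implemented on
the model by operators that commute with the intertwiner and are trivial on one of its eigenspaces.
-/

set_option autoImplicit false
set_option maxHeartbeats 1000000

namespace Cfsg.Agent.Turull

open Module

variable {E : Type*} [Field E] {W : Type*} [AddCommGroup W] [Module E W] {N : Type*} [Group N]
variable {ρ : N →* Module.End E W} {σ : N ≃* N} {S : Module.End E W} {r : ℕ}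

/-- An element fixing every class centralises the operators. -/
theorem Act.commute_of_bar [Nontrivial W] (h : Act ρ σ S r) {x x' : Module.End E W} (hx'x : x' * x = 1)
    (φ : N → N) (hx : ∀ g, x * ρ g = ρ (φ g) * x) (hxS : Commute x S)
    (hall : ∀ g, (QuotientGroup.mk (φ g) : N ⧸ scal ρ) = QuotientGroup.mk g) :
    ∀ g, Commute x (ρ g) := by
  intro g₀
  have hlam : ∀ g, ∃ c : E, x * ρ g = c • (ρ g * x) := fun g => by
    obtain ⟨c, hc⟩ := QuotientGroup.eq.mp (hall g).symm
    refine ⟨c, ?_⟩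
    rw [hx, show φ g = g * (g⁻¹ * φ g) from (mul_inv_cancel_left _ _).symm, map_mul ρ g (g⁻¹ * φ g), hc,
      mul_smul_comm, mul_one, smul_mul_assoc]
  choose lam hlam using hlam
  have hρσ : ∀ g, ρ (σ g) = S * ρ g * S ^ (r - 1) := fun g => by rw [h.rel, mul_assoc, h.cancel, mul_one]
  have hσlam : ∀ g, x * ρ (σ g) = lam g • (ρ (σ g) * x) := fun g => by
    rw [hρσ, ← mul_assoc, ← mul_assoc, hxS.eq, mul_assoc S, hlam, mul_smul_comm, smul_mul_assoc]
    congr 1
    rw [mul_assoc S (ρ g) (S ^ (r - 1)), mul_assoc S (ρ g * S ^ (r - 1)) x, mul_assoc (ρ g) (S ^ (r - 1)) x,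
      ← (hxS.pow_right (r - 1)).eq]
    simp only [mul_assoc]
  let K : Subgroup N :=
    { carrier := {g | Commute x (ρ g)}
      one_mem' := by simp
      mul_mem' := fun {g k} hg hk => by
        change Commute x (ρ (g * k))
        rw [map_mul]
        exact hg.mul_right hk
      inv_mem' := fun {g} hg => by
        change Commute x (ρ g⁻¹)
        have h1 : x * ρ g⁻¹ = ρ g⁻¹ * (ρ g * x) * ρ g⁻¹ := by
          rw [← mul_assoc (ρ g⁻¹), rho_cancel', one_mul]
        rw [← show x * ρ g = ρ g * x from hg, mul_assoc, mul_assoc x, rho_cancel, mul_one] at h1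
        exact h1 }
  have hle : Subgroup.closure (Set.range fun g : N => g⁻¹ * σ g) ≤ K := by
    rw [Subgroup.closure_le]
    rintro _ ⟨g, rfl⟩
    change x * ρ (g⁻¹ * σ g) = ρ (g⁻¹ * σ g) * x
    have hne : lam g ≠ 0 := fun h0 => by
      have h1 := hlam g
      rw [h0, zero_smul] at h1
      have h2 := congrArg (fun T => x' * T * ρ g⁻¹) h1
      simp only [← mul_assoc, hx'x, one_mul, rho_cancel, mul_zero, zero_mul] at h2
      exact one_ne_zero h2
    have h3 : ρ g⁻¹ * x = lam g • (x * ρ g⁻¹) := by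
      have h1 := congrArg (fun T => ρ g⁻¹ * T * ρ g⁻¹) (hlam g)
      simp only [mul_smul_comm, smul_mul_assoc] at h1
      rw [mul_assoc, mul_assoc x, rho_cancel, mul_one, ← mul_assoc, rho_cancel', one_mul] at h1
      exact h1
    rw [map_mul, mul_assoc (ρ g⁻¹), ← smul_right_inj hne, ← mul_smul_comm (lam g) (ρ g⁻¹), ← hσlam,
      ← mul_assoc, ← mul_assoc, h3, smul_mul_assoc]
  exact hle (h.gen.symm ▸ Subgroup.mem_top g₀)

/-- An implementation of an operator on the model, normalised on an eigenspace of the intertwiner. -/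
structure Impl {J : Submodule E W} (Φ : Module.End E J →ₐ[E] Module.End E W) (a : Module.End E J) (l₀ : E)
    (x x' : Module.End E W) (b b' : Module.End E J) : Prop where
  inv : b * b' = 1
  inv' : b' * b = 1
  comm : Commute b a
  conj : ∀ X, Φ (b * X * b') = x * Φ X * x'
  block : ∀ w, a w = l₀ • w → b w = w

variable {J : Submodule E W} {τ : N →* Module.End E J} {Φ : Module.End E J →ₐ[E] Module.End E W}
  {a a' : Module.End E J} {c : E}

theorem Model.phi_injective [Finite N] [Nontrivial W] (M : Model ρ σ J τ Φ a a' c r) (hn : Nondeg ρ) :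
    Function.Injective Φ := by
  haveI : Fintype (N ⧸ scal ρ) := Fintype.ofFinite _
  let bb : Basis (N ⧸ scal ρ) E (Module.End E J) := Basis.mk M.indep (fun X _ => M.span X)
  rw [injective_iff_map_eq_zero]
  intro X hX
  rw [← bb.sum_repr X, map_sum] at hX
  have hbb : ∀ q, bb q = τ q.out := fun q => by rw [Basis.mk_apply]
  simp only [map_smul, hbb, M.phi] at hX
  have h1 := Fintype.linearIndependent_iff.mp hn.indep _ hX
  rw [← bb.sum_repr X]
  exact Finset.sum_eq_zero fun q _ => by rw [h1 q, zero_smul]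

/-- A vector fixed up to scalar by the commuting part of the operator of prime order. -/
theorem Model.exists_block [IsAlgClosed E] [FiniteDimensional E W] [Nontrivial W]
    (M : Model ρ σ J τ Φ a a' c r) (h : Act ρ σ S r) (hrel : ∀ X, S * Φ X = Φ (a * X * a') * S) :
    ∃ (μ : E) (v : W), μ ≠ 0 ∧ v ≠ 0 ∧ μ⁻¹ ^ r = c ∧ (Φ a' * S) v = μ • v := by
  obtain ⟨μ, hμ⟩ := Module.End.exists_eigenvalue (Φ a' * S)
  obtain ⟨v, hv⟩ := hμ.exists_hasEigenvector
  have hSa' : S * Φ a' = Φ a' * S := by rw [hrel, M.inv, one_mul]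
  have hμr : μ ^ r = c⁻¹ := by
    have h1 : ∀ n : ℕ, ((Φ a' * S) ^ n) v = μ ^ n • v := by
      intro n
      induction n with
      | zero => simp
      | succ n ihn => rw [pow_succ', Module.End.mul_apply, ihn, map_smul, hv.apply_eq_smul, smul_smul, pow_succ]
    have h2 : (Φ a' * S) ^ r = c⁻¹ • (1 : Module.End E W) := by
      rw [show (Φ a' * S) ^ r = Φ a' ^ r * S ^ r from Commute.mul_pow hSa'.symm r, h.pow, mul_one, ← map_pow]
      have h3 : a ^ r * a' ^ r = 1 := by
        rw [← Commute.mul_pow (show Commute a a' from M.inv.trans M.inv'.symm), M.inv, one_pow]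
      rw [M.apow, smul_mul_assoc, one_mul] at h3
      have h4 : a' ^ r = c⁻¹ • (1 : Module.End E J) := by
        rw [← h3, smul_smul, inv_mul_cancel₀ M.cne, one_smul]
      rw [h4, map_smul, map_one]
    have h5 := h1 r
    rw [h2] at h5
    exact (smul_left_injective E hv.2 h5).symm
  have hμ0 : μ ≠ 0 := fun h0 => inv_ne_zero M.cne (by rw [← hμr, h0, zero_pow h.prime.ne_zero])
  exact ⟨μ, v, hμ0, hv.2, by rw [inv_pow, hμr, inv_inv], hv.apply_eq_smul⟩

/-- Implementations are unique. -/
theorem Impl.unique {l₀ : E} {x x' : Module.End E W} {b b₀' b₂ b₂' : Module.End E J}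
    (h1 : Impl Φ a l₀ x x' b b₀') (h2 : Impl Φ a l₀ x x' b₂ b₂') (hΦ : Function.Injective Φ)
    {w₀ : J} (hw₀ : w₀ ≠ 0) (hw₀a : a w₀ = l₀ • w₀) : b = b₂ := by
  obtain ⟨k, hk⟩ := scalar_of_central (b₂' * b) fun X => by
    have e : b * X * b₀' = b₂ * X * b₂' := hΦ (by rw [h1.conj, h2.conj])
    change b₂' * b * X = X * (b₂' * b)
    calc b₂' * b * X = b₂' * (b * X * b₀') * b := by
          simp only [mul_assoc]; rw [h1.inv', mul_one]
      _ = b₂' * b₂ * X * (b₂' * b) := by rw [e]; simp only [mul_assoc]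
      _ = X * (b₂' * b) := by rw [h2.inv', one_mul]
  have e2 : b = k • b₂ := by
    calc b = b₂ * (b₂' * b) := by rw [← mul_assoc, h2.inv, one_mul]
      _ = k • b₂ := by rw [hk, mul_smul_comm, mul_one]
  have hk1 := h1.block w₀ hw₀a
  rw [e2, LinearMap.smul_apply, h2.block w₀ hw₀a] at hk1
  rw [e2, smul_left_injective E hw₀ (hk1.trans (one_smul E w₀).symm), one_smul]

theorem Impl.mul {l₀ : E} {x x' y y' : Module.End E W} {b b₀' b₂ b₂' : Module.End E J}
    (h1 : Impl Φ a l₀ x x' b b₀') (h2 : Impl Φ a l₀ y y' b₂ b₂') :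
    Impl Φ a l₀ (x * y) (y' * x') (b * b₂) (b₂' * b₀') where
  inv := by rw [mul_assoc, ← mul_assoc b₂, h2.inv, one_mul, h1.inv]
  inv' := by rw [mul_assoc, ← mul_assoc b₀', h1.inv', one_mul, h2.inv']
  comm := h1.comm.mul_left h2.comm
  conj X := by
    rw [show b * b₂ * X * (b₂' * b₀') = b * (b₂ * X * b₂') * b₀' by simp only [mul_assoc], h1.conj, h2.conj]
    simp only [mul_assoc]
  block w hw := by rw [Module.End.mul_apply, h2.block w hw, h1.block w hw]

theorem Impl.one (l₀ : E) : Impl Φ a l₀ (1 : Module.End E W) 1 1 1 :=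
  ⟨mul_one _, mul_one _, Commute.one_left _, fun X => by simp, fun w _ => rfl⟩

/-- An implementation of an operator fixing the fixed points. -/
theorem Model.exists_impl [IsAlgClosed E] [FiniteDimensional E W] [Nontrivial W] [Finite N]
    (M : Model ρ σ J τ Φ a a' c r) (hn : Nondeg ρ) (h : Act ρ σ S r)
    (hrel : ∀ X, S * Φ X = Φ (a * X * a') * S) {μ : E} {v : W} (hμ0 : μ ≠ 0) (hv0 : v ≠ 0)
    (hv : (Φ a' * S) v = μ • v) {w₀ : J} (hw₀ : w₀ ≠ 0) (hw₀a : a w₀ = μ⁻¹ • w₀)
    {x x' : Module.End E W} (hxx : x * x' = 1) (hx'x : x' * x = 1) (φ : N → N)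
    (hx : ∀ g, x * ρ g = ρ (φ g) * x) (hxS : Commute x S) (hfix : ∀ v, S v = v → x v = v)
    {n : ℕ} (hn0 : 0 < n) (hxn : x ^ n = 1) (hnr : n.Coprime r) :
    ∃ b b', Impl Φ a μ⁻¹ x x' b b' := by
  classical
  haveI : Nontrivial J := nontrivial_of_ne w₀ 0 hw₀
  haveI : Fintype (N ⧸ scal ρ) := Fintype.ofFinite _
  have hΦinj := M.phi_injective hn
  let bb : Basis (N ⧸ scal ρ) E (Module.End E J) := Basis.mk M.indep (fun X _ => M.span X)
  have hbb : ∀ q, bb q = τ q.out := fun q => by rw [Basis.mk_apply]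
  have hφ : ∀ g, ρ (φ g) = x * ρ g * x' := fun g => by rw [hx, mul_assoc, hxx, mul_one]
  let f₀ : Module.End E (Module.End E J) := bb.constr E fun q => τ (φ q.out)
  have hf₀ : ∀ X, Φ (f₀ X) = x * Φ X * x' := by
    intro X
    refine LinearMap.congr_fun (show Φ.toLinearMap.comp f₀ =
      ((LinearMap.mulLeft E x).comp (LinearMap.mulRight E x')).comp Φ.toLinearMap from
      bb.ext fun q => ?_) X |>.trans ?_
    · rw [LinearMap.comp_apply, show f₀ (bb q) = τ (φ q.out) from bb.constr_basis E _ q]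
      simp only [LinearMap.comp_apply, AlgHom.toLinearMap_apply, hbb, M.phi,
        LinearMap.mulLeft_apply, LinearMap.mulRight_apply, hφ, mul_assoc]
    · simp [mul_assoc]
  have hf₀m : ∀ X Y, f₀ (X * Y) = f₀ X * f₀ Y := fun X Y => hΦinj (by
    rw [hf₀, map_mul, map_mul, hf₀, hf₀]
    calc x * (Φ X * Φ Y) * x' = x * Φ X * (1 * (Φ Y * x')) := by rw [one_mul]; simp only [mul_assoc]
      _ = x * Φ X * x' * (x * Φ Y * x') := by rw [← hx'x]; simp only [mul_assoc])
  have hf₀1 : f₀ 1 = 1 := hΦinj (by rw [hf₀, map_one, mul_one, hxx])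
  let f₁ : Module.End E J →ₐ[E] Module.End E J := AlgHom.ofLinearMap f₀ hf₀1 hf₀m
  have hf₁inj : Function.Injective f₁ := by
    intro X Y hXY
    refine hΦinj ?_
    have h1 : x * Φ X * x' = x * Φ Y * x' := by rw [← hf₀, ← hf₀]; exact congrArg Φ hXY
    have h2 := congrArg (fun T => x' * T * x) h1
    simp only [← mul_assoc, hx'x, one_mul] at h2
    simpa only [mul_assoc, hx'x, mul_one] using h2
  obtain ⟨T, hT⟩ := (AlgEquiv.ofBijective f₁ ⟨hf₁inj,
    LinearMap.injective_iff_surjective.mp (show Function.Injective f₀ from hf₁inj)⟩).eq_linearEquivConjAlgEquiv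
  let b₀ : Module.End E J := T.toLinearMap
  let b₀' : Module.End E J := T.symm.toLinearMap
  have hb₀ : b₀ * b₀' = 1 := LinearMap.ext fun v => T.apply_symm_apply v
  have hb₀' : b₀' * b₀ = 1 := LinearMap.ext fun v => T.symm_apply_apply v
  have hconj₀ : ∀ X, Φ (b₀ * X * b₀') = x * Φ X * x' := fun X => by
    rw [← hf₀]
    refine congrArg Φ ?_
    change _ = f₁ X
    rw [show f₁ X = T.conjAlgEquiv E X from congrArg (fun F : Module.End E J ≃ₐ[E] Module.End E J => F X) hT]
    rfl
  have hS'' : ∀ X, Φ (a * X * a') = S * Φ X * S ^ (r - 1) := fun X => by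
    rw [hrel, mul_assoc _ S, h.cancel, mul_one]
  have hx'S : Commute x' S := by
    calc x' * S = x' * (S * x) * x' := by simp only [mul_assoc]; rw [hxx, mul_one]
      _ = S * x' := by rw [← hxS.eq, ← mul_assoc, hx'x, one_mul]
  have hab : Commute b₀ a := by
    obtain ⟨k, hk⟩ := scalar_of_central (a' * b₀' * a * b₀) fun X => by
      have h1 : a * (b₀ * X * b₀') * a' = b₀ * (a * X * a') * b₀' := hΦinj (by
        rw [hS'', hconj₀, hconj₀, hS'', ← mul_assoc, ← mul_assoc, ← hxS.eq, mul_assoc _ x' (S ^ (r - 1)),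
          ((hx'S.pow_right (r - 1))).eq]
        simp only [mul_assoc])
      have h2 := congrArg (fun Y => a' * b₀' * Y * (a * b₀)) h1
      simp only [mul_assoc] at h2
      rw [← mul_assoc a' a, M.inv', one_mul, ← mul_assoc b₀' b₀, hb₀', one_mul, ← mul_assoc a' a, M.inv',
        one_mul] at h2
      change a' * b₀' * a * b₀ * X = X * (a' * b₀' * a * b₀)
      simp only [mul_assoc]
      rw [mul_one] at h2
      exact h2
    have hk' : a * b₀ = k • (b₀ * a) := by
      have h1 := congrArg (fun Y => b₀ * (a * Y)) hk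
      simp only [mul_smul_comm, mul_one] at h1
      rw [← h1, mul_assoc a' b₀', mul_assoc a' (b₀' * a), ← mul_assoc a a', M.inv, one_mul, mul_assoc b₀' a,
        ← mul_assoc b₀ b₀', hb₀, one_mul]
    have hko : ∀ i : ℕ, a * b₀ ^ i = k ^ i • (b₀ ^ i * a) := by
      intro i
      induction i with
      | zero => simp
      | succ i ihn =>
        rw [pow_succ, ← mul_assoc, ihn, smul_mul_assoc, mul_assoc, hk', mul_smul_comm, smul_smul, ← pow_succ,
          ← mul_assoc, ← pow_succ]
    have hkr : ∀ i : ℕ, a ^ i * b₀ = k ^ i • (b₀ * a ^ i) := by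
      intro i
      induction i with
      | zero => simp
      | succ i ihn =>
        rw [pow_succ', mul_assoc, ihn, mul_smul_comm, ← mul_assoc, hk', smul_mul_assoc, smul_smul, mul_assoc b₀,
          ← pow_succ', ← pow_succ]
    obtain ⟨β, hβ⟩ := scalar_of_central (b₀ ^ n) fun X => by
      have h1 : ∀ i : ℕ, Φ (b₀ ^ i * X * b₀' ^ i) = x ^ i * Φ X * x' ^ i := by
        intro i
        induction i with
        | zero => simp
        | succ i ihn =>
          rw [pow_succ' b₀, pow_succ b₀', show b₀ * b₀ ^ i * X * (b₀' ^ i * b₀') =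
            b₀ * (b₀ ^ i * X * b₀' ^ i) * b₀' by simp only [mul_assoc], hconj₀, ihn, pow_succ' x, pow_succ x']
          simp only [mul_assoc]
      have hx'n : x' ^ n = 1 := by
        have h2 : x ^ n * x' ^ n = 1 := by
          rw [← Commute.mul_pow (show Commute x x' from hxx.trans hx'x.symm), hxx, one_pow]
        rwa [hxn, one_mul] at h2
      have h2 : b₀ ^ n * X * b₀' ^ n = X := hΦinj (by rw [h1, hxn, hx'n, one_mul, mul_one])
      have h3 : b₀' ^ n * b₀ ^ n = 1 := by
        rw [← Commute.mul_pow (show Commute b₀' b₀ from hb₀'.trans hb₀.symm), hb₀', one_pow]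
      change b₀ ^ n * X = X * b₀ ^ n
      conv_rhs => rw [← h2]
      rw [mul_assoc, h3, mul_one]
    have hβ0 : β ≠ 0 := by
      rintro rfl
      rw [zero_smul] at hβ
      exact (IsUnit.pow n ⟨⟨b₀, b₀', hb₀, hb₀'⟩, rfl⟩ : IsUnit (b₀ ^ n)).ne_zero hβ
    have ha0 : a ≠ 0 := IsUnit.ne_zero (⟨⟨a, a', M.inv, M.inv'⟩, rfl⟩ : IsUnit a)
    have e1 : k ^ n = 1 := by
      have h1 := hko n
      rw [hβ, mul_smul_comm, mul_one, smul_mul_assoc, one_mul] at h1
      have h2 := smul_left_injective E ha0 (h1.trans (smul_smul (k ^ n) β a))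
      exact (mul_right_cancel₀ hβ0 (h2.symm.trans (one_mul β).symm))
    have e2 : k ^ r = 1 := by
      have h1 := hkr r
      rw [M.apow, smul_mul_assoc, one_mul, mul_smul_comm, mul_one] at h1
      have hb0 : b₀ ≠ 0 := IsUnit.ne_zero (⟨⟨b₀, b₀', hb₀, hb₀'⟩, rfl⟩ : IsUnit b₀)
      have h2 := smul_left_injective E hb0 (h1.trans (smul_smul (k ^ r) c b₀))
      exact (mul_right_cancel₀ M.cne (h2.symm.trans (one_mul c).symm))
    have e3 : k ^ Nat.gcd n r = 1 := pow_gcd_eq_one.mpr ⟨e1, e2⟩
    rw [hnr, pow_one] at e3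
    rw [e3, one_smul] at hk'
    exact hk'.symm
  -- scalar on the block
  have hS : S = Φ a * (Φ a' * S) := by rw [← mul_assoc, ← map_mul, M.inv, map_one, one_mul]
  have hS'X : ∀ X, Φ a' * S * Φ X = Φ X * (Φ a' * S) := fun X => by
    rw [mul_assoc, hrel, ← mul_assoc, ← map_mul, ← mul_assoc, ← mul_assoc, M.inv', one_mul, map_mul, mul_assoc]
  let x₁ : Module.End E W := Φ b₀' * x
  have hx₁ : x = Φ b₀ * x₁ := by
    simp only [x₁]
    rw [← mul_assoc, ← map_mul, hb₀, map_one, one_mul]
  have hx₁X : ∀ X, x₁ * Φ X = Φ X * x₁ := fun X => by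
    simp only [x₁]
    have h1 : x * Φ X = Φ (b₀ * X * b₀') * x := by rw [hconj₀, mul_assoc, hx'x, mul_one]
    rw [mul_assoc, h1, ← mul_assoc, ← map_mul, ← mul_assoc, ← mul_assoc, hb₀', one_mul, map_mul, mul_assoc]
  have hscal : ∀ w ∈ Module.End.eigenspace a μ⁻¹, ∃ k : E, b₀ w = k • w := by
    intro w hw
    rw [Module.End.mem_eigenspace_iff] at hw
    by_contra hno
    push Not at hno
    have hwm : w ∉ Submodule.span E {b₀ w} := by
      rw [Submodule.mem_span_singleton]
      rintro ⟨k, hk⟩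
      rcases eq_or_ne k 0 with rfl | hk0
      · rw [zero_smul] at hk
        exact hno 0 (by rw [← hk, map_zero, smul_zero])
      · refine hno k⁻¹ ?_
        conv_rhs => arg 2; rw [← hk]
        rw [smul_smul, inv_mul_cancel₀ hk0, one_smul]
    obtain ⟨g, hg1, hg2⟩ := Submodule.exists_dual_map_eq_bot_of_notMem hwm inferInstance
    have hgb : g (b₀ w) = 0 := by
      have h1 : g (b₀ w) ∈ (Submodule.span E {b₀ w}).map g :=
        Submodule.mem_map_of_mem (Submodule.subset_span rfl)
      rwa [hg2, Submodule.mem_bot] at h1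
    have key : ∀ (f : J →ₗ[E] E) (u : J), Φ (f.smulRight u) v = 0 := by
      intro f u
      have hfix' : S (Φ (f.smulRight w) v) = Φ (f.smulRight w) v := by
        rw [hS, Module.End.mul_apply, ← Module.End.mul_apply (Φ a' * S), hS'X, Module.End.mul_apply,
          hv, map_smul, map_smul, ← Module.End.mul_apply (Φ a), ← map_mul]
        have h1 : a * f.smulRight w = μ⁻¹ • f.smulRight w := LinearMap.ext fun j => by
          rw [Module.End.mul_apply, LinearMap.smulRight_apply, map_smul, hw, LinearMap.smul_apply,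
            LinearMap.smulRight_apply, smul_comm]
        rw [h1, map_smul, LinearMap.smul_apply, smul_smul, mul_inv_cancel₀ hμ0, one_smul]
      have h2 := hfix _ hfix'
      have h3 : b₀ * f.smulRight w = f.smulRight (b₀ w) := LinearMap.ext fun j => by simp
      rw [hx₁, Module.End.mul_apply, ← Module.End.mul_apply x₁, hx₁X, Module.End.mul_apply,
        ← Module.End.mul_apply (Φ b₀), ← map_mul, h3] at h2
      have h4 := congrArg (Φ (g.smulRight u)) h2
      rw [← Module.End.mul_apply (Φ (g.smulRight u)), ← map_mul,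
        ← Module.End.mul_apply (Φ (g.smulRight u)), ← map_mul] at h4
      have h5 : ∀ z, g.smulRight u * f.smulRight z = g z • f.smulRight u := fun z => LinearMap.ext fun j => by
        simp [smul_smul, mul_comm]
      rw [h5, h5, hgb, zero_smul, map_zero, LinearMap.zero_apply, map_smul, LinearMap.smul_apply] at h4
      exact (smul_eq_zero.mp h4.symm).resolve_left hg1
    refine hv0 ?_
    let eb := Module.finBasis E J
    have hone : (1 : Module.End E J) = ∑ p, (eb.coord p).smulRight (eb p) := LinearMap.ext fun j => by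
      simp [eb.sum_repr]
    have h6 : v = Φ 1 v := by rw [map_one]; rfl
    rw [h6, hone, map_sum, LinearMap.sum_apply]
    exact Finset.sum_eq_zero fun p _ => key _ _
  obtain ⟨k, hk'⟩ := scalar_on b₀ (Module.End.eigenspace a μ⁻¹) hscal
  have hk0 : k ≠ 0 := fun h0 => by
    have h1 := congrArg b₀' (hk' w₀ (Module.End.mem_eigenspace_iff.mpr hw₀a))
    rw [h0, zero_smul, map_zero, ← Module.End.mul_apply, hb₀'] at h1
    exact hw₀ h1
  refine ⟨k⁻¹ • b₀, k • b₀', ?_, ?_, hab.smul_left _, fun X => ?_, fun w hw => ?_⟩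
  · simp [smul_mul_smul_comm, hb₀, hk0]
  · simp [smul_mul_smul_comm, hb₀', hk0]
  · simp only [smul_mul_assoc, mul_smul_comm, smul_smul, mul_inv_cancel₀ hk0, inv_mul_cancel₀ hk0, one_smul]
    exact hconj₀ X
  · rw [LinearMap.smul_apply, hk' w (Module.End.mem_eigenspace_iff.mpr hw), smul_smul, inv_mul_cancel₀ hk0,
      one_smul]

end Cfsg.Agent.Turull
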