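import Cfsg.Agent.Turull.TowerPrelim
import Cfsg.Agent.Core.Frattini

/-!
The layers of an invariant tower of a solvable group with large Fitting height.
-/

set_option autoImplicit false
set_option maxHeartbeats 1000000

open Subgroup
open scoped commutatorElement

namespace Cfsg.Agent.Turull

open CoprimeFitting (ser nres)

universe u

variable {Γ : Type u} [Group Γ]

/-- `U` is normalised by `s` and by the layers above `i`. -/
def InvAt (s : Γ) (P : ℕ → Subgroup Γ) (i : ℕ) (U : Subgroup Γ) : Prop :=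
  s ∈ normalizer (U : Set Γ) ∧ ∀ j < i, P j ≤ normalizer (U : Set Γ)

/-- The layers of a tower: `Y i` is the preimage of the Frattini subgroup of the section
`P i / D i`, and `D i` is the kernel on the next section. -/
structure Layers (s : Γ) (m : ℕ) (P D Y : ℕ → Subgroup Γ) (q : ℕ → ℕ) : Prop where
  prime : ∀ i ≤ m, (q i).Prime
  pgrp : ∀ i ≤ m, IsPGroup (q i) (P i)
  invP : ∀ i ≤ m, InvAt s P i (P i)
  invD : ∀ i ≤ m, InvAt s P i (D i)
  invY : ∀ i ≤ m, InvAt s P i (Y i)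
  normD : ∀ i ≤ m, P i ≤ normalizer (D i : Set Γ)
  normY : ∀ i ≤ m, P i ≤ normalizer (Y i : Set Γ)
  le : ∀ i ≤ m, D i ≤ Y i ∧ Y i ≤ P i ∧ ¬ P i ≤ Y i
  comm : ∀ i ≤ m, ⁅P i, P i⁆ ≤ Y i
  pow : ∀ i ≤ m, ∀ x ∈ P i, x ^ q i ∈ Y i
  centY : ∀ i ≤ m, ⁅P i, Y i⁆ ≤ D i
  irred : ∀ i ≤ m, ∀ U : Subgroup Γ, Y i ≤ U → U ≤ P i → InvAt s P i U → U = Y i ∨ U = P i
  small : ∀ i ≤ m, ∀ U : Subgroup Γ, U ≤ P i → InvAt s P i U → ¬ U ≤ Y i → U = P i
  ne : ∀ i < m, q i ≠ q (i + 1)
  ker : ∀ i < m, ∀ x ∈ P i, x ∈ D i ↔ ∀ y ∈ P (i + 1), ⁅y, x⁆ ∈ D (i + 1)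
  gen : ∀ i < m, ⁅P (i + 1), P i⁆ = P (i + 1)
  actY : ∀ i < m, ⁅Y (i + 1), P i⁆ ≤ D (i + 1)
  fixY : ∀ i < m, ∀ y ∈ P (i + 1), (∀ x ∈ P i, ⁅y, x⁆ ∈ Y (i + 1)) → y ∈ Y (i + 1)

/-- The union of the layers down to `m`. -/
def Upto (P : ℕ → Subgroup Γ) : ℕ → Subgroup Γ
  | 0 => P 0
  | m + 1 => Upto P m ⊔ P (m + 1)

theorem le_upto (P : ℕ → Subgroup Γ) : ∀ {m i : ℕ}, i ≤ m → P i ≤ Upto P m
  | 0, i, h => by rw [Nat.le_zero.mp h]; exact le_rfl
  | m + 1, i, h => by
    rcases Nat.lt_or_eq_of_le h with h' | h'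
    · exact (le_upto P (Nat.lt_succ_iff.mp h')).trans le_sup_left
    · subst h'; exact le_sup_right

theorem upto_le {P : ℕ → Subgroup Γ} {U : Subgroup Γ} : ∀ {m : ℕ}, (∀ i ≤ m, P i ≤ U) → Upto P m ≤ U
  | 0, h => h 0 le_rfl
  | m + 1, h => sup_le (upto_le fun i hi => h i (Nat.le_succ_of_le hi)) (h (m + 1) le_rfl)

variable [Finite Γ] {s : Γ} {r : ℕ} {G₀ : Subgroup Γ}

theorem Ctx.exists_sylow (c : Ctx s r G₀) {K : Subgroup Γ} (hK : K ≤ G₀)
    (hs : s ∈ normalizer (K : Set Γ)) (q : ℕ) [Fact q.Prime] :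
    ∃ P : Sylow q K, s ∈ normalizer ((P : Subgroup K).map K.subtype : Set Γ) := by
  obtain ⟨P, hP⟩ := Coprime.exists_invariant_sylow (mem_normalizer_iff_le.mp hs) (c.coprime hK)
    (Or.inr (Coprime.isSolvable_of_le hK c.solv)) q
  exact ⟨P, mem_normalizer_iff_le.mpr hP⟩

/-- The top layer. -/
theorem base (c : Ctx s r G₀) {X K : Subgroup Γ} (hX : X ≤ G₀) (hsX : s ∈ normalizer (X : Set Γ))
    (hXK : X ≤ normalizer (K : Set Γ)) (hsK : s ∈ normalizer (K : Set Γ)) (hne : ¬ X ≤ K)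
    (hmin : ∀ U ≤ X, s ∈ normalizer (U : Set Γ) → ¬ U ≤ K → U = X) :
    ∃ q : ℕ, q.Prime ∧ IsPGroup q X ∧ ⁅X, X⁆ ≤ K ∧ ∀ x ∈ X, x ^ q ∈ K := by
  classical
  obtain ⟨q, hq, P, hP, hPK⟩ : ∃ q : ℕ, ∃ hq : Fact q.Prime, ∃ P : Sylow q X,
      s ∈ normalizer ((P : Subgroup X).map X.subtype : Set Γ) ∧ ¬ (P : Subgroup X).map X.subtype ≤ K := by
    by_contra hno
    push Not at hno
    refine hne fun x hx => ?_
    have htop : (⊤ : Subgroup X) ≤ K.subgroupOf X := by
      refine le_of_eq (Subgroup.eq_top_of_card_eq _ (Nat.dvd_antisymm (card_subgroup_dvd_card _) ?_)).symm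
      refine (Nat.dvd_iff_prime_pow_dvd_dvd _ _).mpr fun q k hq hk => ?_
      haveI := Fact.mk hq
      obtain ⟨P, hP⟩ := c.exists_sylow hX hsX q
      have h1 := hno q this P hP
      have h2 : (P : Subgroup X) ≤ K.subgroupOf X := fun y hy => h1 (mem_map_of_mem _ hy)
      refine Dvd.dvd.trans ?_ (card_dvd_of_le h2)
      rw [P.card_eq_multiplicity]
      exact pow_dvd_pow q ((Nat.Prime.pow_dvd_iff_le_factorization hq Nat.card_pos.ne').mp hk)
    exact htop (mem_top (⟨x, hx⟩ : X))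
  have hPX := hmin _ (map_subtype_le _) hP hPK
  have hXq : IsPGroup q X := hPX ▸ P.2.map _
  refine ⟨q, hq.out, hXq, ?_, ?_⟩
  · by_contra hcon
    have h1 := hmin ⁅X, X⁆ (Subgroup.commutator_le_self X)
      (mem_normalizer_iff_le.mpr (le_normalizer_commutator' (mem_normalizer_iff_le.mp hsX)
        (mem_normalizer_iff_le.mp hsX))) hcon
    have hX1 : X ≠ ⊥ := fun h => hne (h ▸ bot_le)
    exact (Coprime.commutator_lt_of_isPGroup hXq hXq Subgroup.le_normalizer hX1).ne h1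
  · intro x hx
    by_contra hcon
    let U : Subgroup Γ := Subgroup.closure ((fun y => y ^ q) '' (X : Set Γ))
    have hUX : U ≤ X := (closure_le _).mpr (by rintro _ ⟨y, hy, rfl⟩; exact pow_mem hy q)
    have hsU : s ∈ normalizer (U : Set Γ) := by
      apply Coprime.mem_normalizer_of_conj_smul_eq
      rw [Coprime.conj_smul_eq_map, MonoidHom.map_closure, ← Set.image_comp]
      congr 1
      ext z
      constructor
      · rintro ⟨y, hy, rfl⟩
        exact ⟨s * y * s⁻¹, (Subgroup.mem_normalizer_iff.mp hsX y).mp hy, by simp [conj_pow]⟩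
      · rintro ⟨y, hy, rfl⟩
        refine ⟨s⁻¹ * y * s, (Subgroup.mem_normalizer_iff''.mp hsX y).mp hy, ?_⟩
        change MulAut.conj s ((s⁻¹ * y * s) ^ q) = y ^ q
        rw [map_pow]
        simp [mul_assoc]
    have h1 : U = X := hmin U hUX hsU fun h => hcon (h (subset_closure ⟨x, hx, rfl⟩))
    -- a proper invariant subgroup containing all powers
    have hX1 : X ≠ ⊥ := fun h => hne (h ▸ bot_le)
    haveI := hXq.isNilpotent
    haveI : Nontrivial X := (Subgroup.nontrivial_iff_ne_bot X).mpr hX1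
    obtain ⟨M, hM, -⟩ := (IsCoatomic.eq_top_or_exists_le_coatom (frattini X)).resolve_left
      (fun h => (bot_ne_top : (⊥ : Subgroup X) ≠ ⊤) (frattini_nongenerating (by rw [h, sup_top_eq])))
    obtain ⟨hMn, hMi⟩ := Core.index_eq_of_isCoatom (p := q) hXq hM
    have hall : ∀ y : X, y ^ q ∈ M := fun y => hMi ▸ Subgroup.pow_index_mem M y
    have h2 : U ≤ M.map X.subtype := (closure_le _).mpr (by
      rintro _ ⟨y, hy, rfl⟩
      exact ⟨⟨y, hy⟩ ^ q, hall _, by simp⟩)
    rw [h1] at h2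
    exact hM.1 (eq_top_iff.mpr fun y _ => by
      obtain ⟨z, hz, he⟩ := h2 y.2
      rwa [← Subtype.ext (he : (z : Γ) = y)])

/-- The section of the next layer. -/
theorem chief_step (c : Ctx s r G₀) {m : ℕ} {X K : Subgroup Γ} (hX : X ≤ G₀)
    (hsX : s ∈ normalizer (X : Set Γ)) (hXK : X ≤ normalizer (K : Set Γ))
    (hsK : s ∈ normalizer (K : Set Γ)) (hne : ¬ ser X (m + 1) ≤ K) :
    ∃ (q : ℕ) (_ : Fact q.Prime) (L M₀ X2 : Subgroup Γ), L ≤ ser X (m + 1) ∧ K ≤ M₀ ∧
      L ≤ X ⊔ K ∧ IsPGroup q L ∧ s ∈ normalizer (L : Set Γ) ∧ s ∈ normalizer (M₀ : Set Γ) ∧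
      X ≤ normalizer (M₀ : Set Γ) ∧ X2 ≤ X ∧ X2 ≤ normalizer (L : Set Γ) ∧
      s ∈ normalizer (X2 : Set Γ) ∧ ¬ ser X2 m ≤ kerOn L M₀ ∧ ¬ L ≤ M₀ ∧
      (∀ x ∈ ser X2 m, ∀ k : ℕ, x ^ q ^ k ∈ kerOn L M₀ → x ∈ kerOn L M₀) ∧
      (∀ x y, x ∈ L → y ∈ L → ⁅x, y⁆ ∈ M₀) ∧ (∀ x ∈ L, x ^ q ∈ M₀) ∧
      (∀ W : Subgroup Γ, M₀ ≤ W → W ≤ L ⊔ M₀ → X ≤ normalizer (W : Set Γ) →
        s ∈ normalizer (W : Set Γ) → W = M₀ ∨ W = L ⊔ M₀) := by
  classical
  let M' : Subgroup Γ := ser X (m + 1) ⊔ K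
  have hTX : ser X (m + 1) ≤ X := CoprimeFitting.ser_le _ _
  have hM'X : X ≤ normalizer (M' : Set Γ) :=
    Coprime.le_normalizer_sup (CoprimeFitting.le_normalizer_ser Subgroup.le_normalizer _) hXK
  have hM's : s ∈ normalizer (M' : Set Γ) := mem_normalizer_iff_le.mpr
    (Coprime.le_normalizer_sup (CoprimeFitting.le_normalizer_ser (mem_normalizer_iff_le.mp hsX) _)
      (mem_normalizer_iff_le.mp hsK))
  have hKM' : K < M' := lt_of_le_of_ne le_sup_right fun h => hne (le_sup_left.trans h.ge)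
  obtain ⟨M₀, ⟨hKM₀, hM₀M', hM₀X, hM₀s⟩, hmax⟩ := wellFounded_gt.has_min
    {M : Subgroup Γ | K ≤ M ∧ M < M' ∧ X ≤ normalizer (M : Set Γ) ∧ s ∈ normalizer (M : Set Γ)}
    ⟨K, le_rfl, hKM', hXK, hsK⟩
  have hbetween : ∀ W : Subgroup Γ, M₀ ≤ W → W ≤ M' → X ≤ normalizer (W : Set Γ) →
      s ∈ normalizer (W : Set Γ) → W = M₀ ∨ W = M' := by
    intro W h1 h2 h3 h4
    by_contra h5
    push Not at h5
    exact hmax W ⟨hKM₀.trans h1, lt_of_le_of_ne h2 h5.2, h3, h4⟩ (lt_of_le_of_ne h1 h5.1.symm)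
  set T' := ser X (m + 1) with hT'
  have hT'M : T' ≤ normalizer (M₀ : Set Γ) := hTX.trans hM₀X
  have hnT' : ¬ T' ≤ M₀ := fun h => hM₀M'.not_ge (sup_le h hKM₀)
  have hM'eq : T' ⊔ M₀ = M' :=
    le_antisymm (sup_le le_sup_left hM₀M'.le) (sup_le le_sup_left (hKM₀.trans le_sup_right))
  have hT'solv : Group.IsSolvable T' := Coprime.isSolvable_of_le (hTX.trans hX) c.solv
  have hcommT : ⁅T', T'⁆ ≤ M₀ := by
    rcases hbetween (⁅T', T'⁆ ⊔ M₀) le_sup_right
      (sup_le ((Subgroup.commutator_le_self T').trans le_sup_left) hM₀M'.le)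
      (Coprime.le_normalizer_sup (le_normalizer_commutator'
        (CoprimeFitting.le_normalizer_ser Subgroup.le_normalizer _)
        (CoprimeFitting.le_normalizer_ser Subgroup.le_normalizer _)) hM₀X)
      (mem_normalizer_iff_le.mpr (Coprime.le_normalizer_sup (le_normalizer_commutator'
        (CoprimeFitting.le_normalizer_ser (mem_normalizer_iff_le.mp hsX) _)
        (CoprimeFitting.le_normalizer_ser (mem_normalizer_iff_le.mp hsX) _)) (mem_normalizer_iff_le.mp hM₀s)))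
      with h | h
    · exact le_sup_left.trans h.le
    · exfalso
      have h1 : img M₀ T' = ⁅img M₀ T', img M₀ T'⁆ := by
        rw [← img_commutator hT'M hT'M, ← img_sup_left hT'M, hM'eq, ← h,
          img_sup_left ((Subgroup.commutator_le_self T').trans hT'M)]
      obtain ⟨k, hk⟩ := CoprimeFitting.exists_ser_eq_bot (img M₀ T')
        (Coprime.isSolvable_map _ (Coprime.isSolvable_subgroupOf _ hT'solv))
      have h2 : ∀ j, img M₀ T' ≤ ser (img M₀ T') j := by
        intro j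
        induction j with
        | zero => exact le_rfl
        | succ j ih =>
          refine le_iInf fun i => ?_
          induction i with
          | zero => exact ih
          | succ i ihi =>
            rw [Subgroup.lowerCentralSeries_succ]
            exact h1.le.trans (commutator_mono ihi ih)
      exact hnT' ((img_eq_bot_iff hT'M).mp (le_bot_iff.mp ((h2 k).trans hk.le)))
  -- the prime
  haveI : (M₀.subgroupOf T').Normal := normal_subgroupOf_of_le_normalizer hT'M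
  let f := QuotientGroup.mk' (M₀.subgroupOf T')
  have hcard : Nat.card (T' ⧸ M₀.subgroupOf T') ≠ 1 := fun h =>
    hnT' (Subgroup.subgroupOf_eq_top.mp (Subgroup.index_eq_one.mp h))
  obtain ⟨q, hq, hqd⟩ := Nat.exists_prime_and_dvd hcard
  haveI := Fact.mk hq
  have hcomm : ∀ x y, x ∈ T' → y ∈ T' → ⁅x, y⁆ ∈ M₀ := fun x y hx hy =>
    hcommT (commutator_mem_commutator hx hy)
  have hsT : s ∈ normalizer (T' : Set Γ) :=
    mem_normalizer_iff_le.mpr (CoprimeFitting.le_normalizer_ser (mem_normalizer_iff_le.mp hsX) _)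
  have hXT : X ≤ normalizer (T' : Set Γ) := CoprimeFitting.le_normalizer_ser Subgroup.le_normalizer _
  obtain ⟨R, hRT, hR⟩ := exists_qpart (q := q) hT'M ((iInf_le _ 1).trans hcommT)
  have hsR : s ∈ normalizer (R : Set Γ) :=
    mem_normalizer_iff_le.mpr (le_normalizer_qpart hR (mem_normalizer_iff_le.mp hsT) (mem_normalizer_iff_le.mp hM₀s))
  have hXR : X ≤ normalizer (R : Set Γ) := le_normalizer_qpart hR hXT hM₀X
  have hnR : ¬ R ≤ M₀ := by
    intro h
    obtain ⟨y, hy⟩ := exists_prime_orderOf_dvd_card' q hqd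
    obtain ⟨x, rfl⟩ := QuotientGroup.mk'_surjective (M₀.subgroupOf T') y
    have hx : (x : Γ) ^ q ^ 1 ∈ M₀ := by
      have h1 := orderOf_dvd_iff_pow_eq_one.mp hy.dvd
      rw [← map_pow] at h1
      rw [pow_one]
      exact (QuotientGroup.eq_one_iff (N := M₀.subgroupOf T') (x ^ q)).mp h1
    have h2 : f x = 1 := (QuotientGroup.eq_one_iff _).mpr (h ((hR _).mpr ⟨x.2, 1, hx⟩))
    rw [show QuotientGroup.mk' (M₀.subgroupOf T') x = f x from rfl, h2, orderOf_one] at hy
    exact hq.one_lt.ne hy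
  obtain ⟨P, hP⟩ := c.exists_sylow (hRT.trans (hTX.trans hX)) hsR q
  set L : Subgroup Γ := (P : Subgroup R).map R.subtype with hL
  have hLR : L ≤ R := map_subtype_le _
  have hRle : R ≤ L ⊔ M₀ := le_sylow_sup (hRT.trans hT'M) (fun x hx => ((hR x).mp hx).2) P
  have hnL : ¬ L ≤ M₀ := fun h => hnR (hRle.trans (sup_le h le_rfl))
  have hLM' : L ⊔ M₀ = M' := by
    rcases hbetween (R ⊔ M₀) le_sup_right (sup_le (hRT.trans le_sup_left) hM₀M'.le)
      (Coprime.le_normalizer_sup hXR hM₀X)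
      (mem_normalizer_iff_le.mpr (Coprime.le_normalizer_sup (mem_normalizer_iff_le.mp hsR)
        (mem_normalizer_iff_le.mp hM₀s))) with h | h
    · exact absurd (le_sup_left.trans h.le) hnR
    · exact le_antisymm (sup_le ((hLR.trans hRT).trans le_sup_left) hM₀M'.le)
        (h.ge.trans (sup_le hRle le_sup_right))
  have hLT : L ≤ T' := hLR.trans hRT
  have hLpow : ∀ x ∈ L, x ^ q ∈ M₀ := by
    intro x hx
    by_contra hxq
    -- the `q`-th powers modulo `M₀` form a proper invariant subgroup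
    let W : Subgroup Γ := Subgroup.closure ((fun y => y ^ q) '' (R : Set Γ)) ⊔ M₀
    have hWR : Subgroup.closure ((fun y => y ^ q) '' (R : Set Γ)) ≤ R :=
      (closure_le _).mpr (by rintro _ ⟨y, hy, rfl⟩; exact pow_mem hy q)
    have hinv : ∀ g : Γ, g ∈ normalizer (R : Set Γ) →
        g ∈ normalizer (Subgroup.closure ((fun y => y ^ q) '' (R : Set Γ)) : Set Γ) := by
      intro g hg
      apply Coprime.mem_normalizer_of_conj_smul_eq
      rw [Coprime.conj_smul_eq_map, MonoidHom.map_closure, ← Set.image_comp]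
      congr 1
      ext z
      constructor
      · rintro ⟨y, hy, rfl⟩
        exact ⟨g * y * g⁻¹, (Subgroup.mem_normalizer_iff.mp hg y).mp hy, by simp [conj_pow]⟩
      · rintro ⟨y, hy, rfl⟩
        refine ⟨g⁻¹ * y * g, (Subgroup.mem_normalizer_iff''.mp hg y).mp hy, ?_⟩
        change MulAut.conj g ((g⁻¹ * y * g) ^ q) = y ^ q
        rw [map_pow]
        simp [mul_assoc]
    rcases hbetween W le_sup_right (sup_le ((hWR.trans hRT).trans le_sup_left) hM₀M'.le)
      (Coprime.le_normalizer_sup (fun g hg => hinv g (hXR hg)) hM₀X)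
      (mem_normalizer_iff_le.mpr (Coprime.le_normalizer_sup
        (mem_normalizer_iff_le.mp (hinv s hsR)) (mem_normalizer_iff_le.mp hM₀s))) with h | h
    · exact hxq (le_sup_left.trans h.le (subset_closure ⟨x, hLR hx, rfl⟩))
    · haveI : (M₀.subgroupOf R).Normal := normal_subgroupOf_of_le_normalizer (hRT.trans hT'M)
      let g := QuotientGroup.mk' (M₀.subgroupOf R)
      have hQ : IsPGroup q (R ⧸ M₀.subgroupOf R) := by
        intro y
        obtain ⟨z, rfl⟩ := QuotientGroup.mk'_surjective _ y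
        obtain ⟨k, hk⟩ := ((hR z).mp z.2).2
        exact ⟨k, (map_pow g z _).symm.trans ((QuotientGroup.eq_one_iff _).mpr hk)⟩
      have hab : ∀ a b : R ⧸ M₀.subgroupOf R, a * b = b * a := by
        intro a b
        obtain ⟨a, rfl⟩ := QuotientGroup.mk'_surjective _ a
        obtain ⟨b, rfl⟩ := QuotientGroup.mk'_surjective _ b
        rw [← map_mul, ← map_mul, QuotientGroup.mk'_eq_mk']
        refine ⟨(a * b)⁻¹ * (b * a), ?_, by group⟩
        change (((a * b)⁻¹ * (b * a) : R) : Γ) ∈ M₀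
        have e : (((a * b)⁻¹ * (b * a) : R) : Γ) = ⁅(b : Γ)⁻¹, (a : Γ)⁻¹⁆ := by
          simp only [commutatorElement_def, Subgroup.coe_mul, Subgroup.coe_inv]; group
        rw [e]
        exact hcomm _ _ (T'.inv_mem (hRT b.2)) (T'.inv_mem (hRT a.2))
      let φ : (R ⧸ M₀.subgroupOf R) →* (R ⧸ M₀.subgroupOf R) :=
        { toFun := fun y => y ^ q
          map_one' := one_pow q
          map_mul' := fun a b => (show Commute a b from hab a b).mul_pow q }
      have hsurj : Function.Surjective φ := by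
        rw [← MonoidHom.range_eq_top, eq_top_iff]
        intro y _
        obtain ⟨z, rfl⟩ := QuotientGroup.mk'_surjective _ y
        have hz : (z : Γ) ∈ W := h.ge ((le_sup_left : T' ≤ M') (hRT z.2))
        change (z : Γ) ∈ Subgroup.closure _ ⊔ M₀ at hz
        rw [sup_comm] at hz
        obtain ⟨a, ha, b, hb, he⟩ := (Coprime.mem_sup_of_le_normalizer ((hWR.trans hRT).trans hT'M)).mp hz
        have hb' : g ⟨b, hWR hb⟩ ∈ φ.range := by
          have hle : Subgroup.closure ((fun y => y ^ q) '' (R : Set Γ)) ≤ (φ.range.comap g).map R.subtype := by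
            rw [closure_le]
            rintro _ ⟨y, hy, rfl⟩
            exact ⟨⟨y, hy⟩ ^ q, ⟨g ⟨y, hy⟩, (map_pow g _ _).symm⟩, by simp⟩
          obtain ⟨b', hb', he'⟩ := hle hb
          rwa [show (⟨b, hWR hb⟩ : R) = b' from Subtype.ext he'.symm]
        have heq : g z = g ⟨b, hWR hb⟩ := by
          refine QuotientGroup.eq.mpr ?_
          change (z : Γ)⁻¹ * b ∈ M₀
          rw [← he, mul_inv_rev, mul_assoc]
          have := (Subgroup.mem_normalizer_iff''.mp (hT'M (hRT (hWR hb))) a⁻¹).mp (M₀.inv_mem ha)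
          simpa [mul_assoc] using this
        exact heq ▸ hb'
      have hinj : Function.Injective φ := Finite.injective_iff_surjective.mpr hsurj
      apply hnR
      intro z hz
      obtain ⟨k, hk⟩ := hQ (g ⟨z, hz⟩)
      have hit : ∀ k : ℕ, ∀ y : R ⧸ M₀.subgroupOf R, y ^ q ^ k = 1 → y = 1 := by
        intro k
        induction k with
        | zero => intro y hy; simpa using hy
        | succ k ih => intro y hy; exact hinj ((ih (φ y) (by
            change (y ^ q) ^ q ^ k = 1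
            rw [← pow_mul, ← pow_succ']; exact hy)).trans (map_one φ).symm)
      exact (QuotientGroup.eq_one_iff (⟨z, hz⟩ : R)).mp (hit k _ hk)
  -- the normaliser of `L`
  let S' : Subgroup Γ := R ⊔ K
  let X2 : Subgroup Γ := X ⊓ normalizer (L : Set Γ)
  have hRX : R ≤ X := hRT.trans hTX
  have hsX2 : s ∈ normalizer (X2 : Set Γ) := mem_normalizer_iff_le.mpr
    (Coprime.le_normalizer_inf (mem_normalizer_iff_le.mp hsX) (le_trans (mem_normalizer_iff_le.mp hP)
      Subgroup.le_normalizer))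
  have hXX2 : X ≤ X2 ⊔ R := le_inf_normalizer_sup hXR hRX P
  have hX2L : X2 ≤ normalizer (L : Set Γ) := inf_le_right
  have hX2M : X2 ≤ normalizer (M₀ : Set Γ) := inf_le_left.trans hM₀X
  have hnker : ¬ ser X2 m ≤ kerOn L M₀ := by
    intro hle
    refine hnT' ?_
    have hsupeq : X = X2 ⊔ R := le_antisymm hXX2 (sup_le inf_le_left hRX)
    have h1 := ser_le_sup hXR hsupeq m
    have hserX : ser X m ≤ kerOn M' M₀ := by
      refine h1.trans (sup_le ?_ ?_)
      · have hT2 : ser X2 m ≤ normalizer (M₀ : Set Γ) := (CoprimeFitting.ser_le _ _).trans hX2M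
        refine (le_kerOn_iff ((CoprimeFitting.ser_le _ _).trans (inf_le_left.trans hM'X)) hT2).mpr ?_
        have hT2L : ⁅L, ser X2 m⁆ ≤ M₀ :=
          (le_kerOn_iff ((CoprimeFitting.ser_le _ _).trans hX2L) hT2).mp hle
        rw [commutator_le]
        intro x hx y hy
        rw [← hLM', sup_comm] at hx
        obtain ⟨a, ha, b, hb, rfl⟩ := (Coprime.mem_sup_of_le_normalizer ((hLT.trans hT'M))).mp hx
        have e : ⁅a * b, y⁆ = a * ⁅b, y⁆ * (y * a⁻¹ * y⁻¹) := by
          simp only [commutatorElement_def]; group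
        rw [e]
        exact M₀.mul_mem (M₀.mul_mem ha (hT2L (commutator_mem_commutator hb hy)))
          ((Subgroup.mem_normalizer_iff.mp (hT2 hy) _).mp (M₀.inv_mem ha))
      · refine (le_kerOn_iff (hRX.trans hM'X) (hRT.trans hT'M)).mpr ?_
        rw [commutator_le]
        intro x hx y hy
        rw [← hM'eq, sup_comm] at hx
        obtain ⟨a, ha, b, hb, rfl⟩ := (Coprime.mem_sup_of_le_normalizer hT'M).mp hx
        have e : ⁅a * b, y⁆ = a * ⁅b, y⁆ * (y * a⁻¹ * y⁻¹) := by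
          simp only [commutatorElement_def]; group
        rw [e]
        exact M₀.mul_mem (M₀.mul_mem ha (hcomm b y hb (hRT hy)))
          ((Subgroup.mem_normalizer_iff.mp (hT'M (hRT hy)) _).mp (M₀.inv_mem ha))
    have hc : ⁅M', ser X m⁆ ≤ M₀ := (le_kerOn_iff ((CoprimeFitting.ser_le _ _).trans hM'X)
      ((CoprimeFitting.ser_le _ _).trans hM₀X)).mp hserX
    rw [hT', ser_succ_eq_commutator]
    exact (commutator_mono (le_sup_left (b := K)) le_rfl).trans hc
  refine ⟨q, inferInstance, L, M₀, X2, hLT, hKM₀, (hLR.trans hRX).trans le_sup_left,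
    P.2.map _, hP, hM₀s, hM₀X, inf_le_left, hX2L, hsX2, hnker, hnL, ?_,
    fun x y hx hy => hcomm x y (hLT hx) (hLT hy), hLpow, fun W h1 h2 h3 h4 => by
      rw [hLM'] at h2 ⊢; exact hbetween W h1 h2 h3 h4⟩
  -- the `q`-elements act trivially
  intro x hx k hk
  by_contra hxC
  set T2 := ser X2 m with hT2
  have hT2X2 : T2 ≤ X2 := CoprimeFitting.ser_le _ _
  have hT2C : T2 ≤ normalizer (kerOn L M₀ : Set Γ) :=
    le_normalizer_kerOn (hT2X2.trans hX2L) (hT2X2.trans hX2M)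
  have hnil : nres T2 ≤ kerOn L M₀ := by
    have h1 : nres T2 = ser X2 (m + 1) := rfl
    rw [h1]
    have h2 : ser X2 (m + 1) ≤ T' := CoprimeFitting.ser_mono inf_le_left _
    refine (le_kerOn_iff ((CoprimeFitting.ser_le _ _).trans hX2L) ((CoprimeFitting.ser_le _ _).trans hX2M)).mpr ?_
    exact (commutator_mono hLT h2).trans hcommT
  obtain ⟨R2, hR2T, hR2⟩ := exists_qpart (q := q) hT2C hnil
  have hxR2 : x ∈ R2 := (hR2 x).mpr ⟨hx, k, hk⟩
  obtain ⟨A⟩ : Nonempty (Sylow q R2) := inferInstance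
  have hR2A : R2 ≤ (A : Subgroup R2).map R2.subtype ⊔ kerOn L M₀ :=
    le_sylow_sup (hR2T.trans hT2C) (fun y hy => ((hR2 y).mp hy).2) A
  set A' : Subgroup Γ := (A : Subgroup R2).map R2.subtype
  have hA'2 : A' ≤ R2 := map_subtype_le _
  have hR2X2 : R2 ≤ X2 := hR2T.trans hT2X2
  have hXR2 : X2 ≤ normalizer (R2 : Set Γ) :=
    le_normalizer_qpart hR2 (CoprimeFitting.le_normalizer_ser Subgroup.le_normalizer _)
      (le_normalizer_kerOn hX2L hX2M)
  let W : Subgroup Γ := ⁅L, R2⁆ ⊔ M₀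
  have hWL : ⁅L, R2⁆ ≤ L := Coprime.commutator_le_of_le_normalizer (hR2X2.trans hX2L)
  have hsW : s ∈ normalizer (W : Set Γ) := by
    refine mem_normalizer_iff_le.mpr (Coprime.le_normalizer_sup (le_normalizer_commutator'
      (mem_normalizer_iff_le.mp hP) ?_) (mem_normalizer_iff_le.mp hM₀s))
    exact le_normalizer_qpart hR2 (CoprimeFitting.le_normalizer_ser (mem_normalizer_iff_le.mp hsX2) _)
      (le_normalizer_kerOn (mem_normalizer_iff_le.mp hP) (mem_normalizer_iff_le.mp hM₀s))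
  have hXW : X ≤ normalizer (W : Set Γ) := by
    refine hXX2.trans (sup_le (Coprime.le_normalizer_sup (le_normalizer_commutator' hX2L hXR2) hX2M) ?_)
    refine Subgroup.le_normalizer_iff_commutator_le_left.mpr ?_
    refine (commutator_mono (sup_le ((hWL.trans hLT).trans le_sup_left) hM₀M'.le) le_rfl).trans ?_
    rw [commutator_le]
    intro a ha b hb
    refine le_sup_right (a := ⁅L, R2⁆) ?_
    replace ha : a ∈ M' := ha
    rw [← hM'eq, sup_comm] at ha
    obtain ⟨a₁, ha₁, b₁, hb₁, rfl⟩ := (Coprime.mem_sup_of_le_normalizer hT'M).mp ha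
    have e : ⁅a₁ * b₁, b⁆ = a₁ * ⁅b₁, b⁆ * (b * a₁⁻¹ * b⁻¹) := by
      simp only [commutatorElement_def]; group
    rw [e]
    exact M₀.mul_mem (M₀.mul_mem ha₁ (hcomm b₁ b hb₁ (hRT hb)))
      ((Subgroup.mem_normalizer_iff.mp (hT'M (hRT hb)) _).mp (M₀.inv_mem ha₁))
  have hA'L : A' ≤ normalizer (L : Set Γ) := hA'2.trans (hR2X2.trans hX2L)
  have hA'M : A' ≤ normalizer (M₀ : Set Γ) := hA'2.trans (hR2X2.trans hX2M)
  rcases hbetween W le_sup_right (sup_le ((hWL.trans hLT).trans le_sup_left) hM₀M'.le) hXW hsW with h | h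
  · refine hxC ((le_kerOn_iff (hR2X2.trans hX2L) (hR2X2.trans hX2M)).mpr (le_sup_left.trans h.le) hxR2)
  · refine qgroup_proper (P.2.map _) (A.2.map _) hA'L hA'M (hLT.trans hT'M) hnL ?_
    have h1 : ⁅L, R2⁆ ≤ ⁅L, A'⁆ ⊔ M₀ := by
      rw [commutator_le]
      intro a ha b hb
      have hb' := hR2A hb
      rw [sup_comm] at hb'
      obtain ⟨u, hu, v, hv, rfl⟩ := (Coprime.mem_sup_of_le_normalizer
        (le_normalizer_kerOn hA'L hA'M)).mp hb'
      have e : ⁅a, u * v⁆ = ⁅a, u⁆ * (u * ⁅a, v⁆ * u⁻¹) := by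
        simp only [commutatorElement_def]; group
      rw [e]
      refine mul_mem (mem_sup_right (hu.2 a ha)) ?_
      have hav : ⁅a, v⁆ ∈ ⁅L, A'⁆ := commutator_mem_commutator ha hv
      have hL' : ⁅a, v⁆ ∈ L := (commutator_mono le_rfl hA'2).trans hWL hav
      have e2 : u * ⁅a, v⁆ * u⁻¹ = ⁅a, v⁆ * ⁅⁅a, v⁆⁻¹, u⁆ := by
        simp only [commutatorElement_def]; group
      rw [e2]
      exact mul_mem (mem_sup_left hav) (mem_sup_right (hu.2 _ (L.inv_mem hL')))
    calc L ≤ M' := hLT.trans le_sup_left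
      _ = W := h.symm
      _ ≤ ⁅L, A'⁆ ⊔ M₀ := sup_le h1 le_sup_right

end Cfsg.Agent.Turull
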