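import Cfsg.Agent.Turull.Layers

/-!
Every invariant subgroup of large height, minimal with that property, carries a tower.
-/

set_option autoImplicit false
set_option maxHeartbeats 1000000

open Subgroup
open scoped commutatorElement

namespace Cfsg.Agent.Turull

open CoprimeFitting (ser nres)

universe u

variable {Γ : Type u} [Group Γ] [Finite Γ] {s : Γ} {r : ℕ} {G₀ : Subgroup Γ}

theorem Layers.upto_normalizer {P D Y : ℕ → Subgroup Γ} {q : ℕ → ℕ} {m : ℕ} (h : Layers s m P D Y q)
    {j i : ℕ} (hji : j ≤ i) (hi : i ≤ m) : Upto P j ≤ normalizer (P i : Set Γ) :=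
  upto_le fun k hk => by
    rcases Nat.lt_or_eq_of_le (hk.trans hji) with h' | rfl
    · exact (h.invP i hi).2 k h'
    · exact Subgroup.le_normalizer

theorem Layers.ser_upto {P D Y : ℕ → Subgroup Γ} {q : ℕ → ℕ} {m : ℕ} (h : Layers s m P D Y q) :
    ∀ j ≤ m, ser (Upto P j) (j + 1) = ⊥ := by
  intro j
  induction j with
  | zero =>
    intro hj
    haveI := Fact.mk (h.prime 0 hj)
    exact CoprimeFitting.nres_of_isNilpotent (h.pgrp 0 hj).isNilpotent
  | succ j ih =>
    intro hj
    haveI := Fact.mk (h.prime (j + 1) hj)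
    have h1 := ser_le_sup (X := Upto P (j + 1)) (X2 := Upto P j) (M := P (j + 1))
      (h.upto_normalizer le_rfl hj) rfl (j + 1)
    rw [ih (by omega), bot_sup_eq] at h1
    exact le_bot_iff.mp ((CoprimeFitting.nres_mono h1).trans
      (CoprimeFitting.nres_of_isNilpotent (h.pgrp (j + 1) hj).isNilpotent).le)

/-- The tower below a minimal invariant subgroup. -/
theorem lift (c : Ctx s r G₀) : ∀ (m : ℕ) (X K : Subgroup Γ), X ≤ G₀ → s ∈ normalizer (X : Set Γ) →
    X ≤ normalizer (K : Set Γ) → s ∈ normalizer (K : Set Γ) → ¬ ser X m ≤ K →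
    (∀ U ≤ X, s ∈ normalizer (U : Set Γ) → ¬ ser U m ≤ K → U = X) →
    ∃ (P D Y : ℕ → Subgroup Γ) (q : ℕ → ℕ), Layers s m P D Y q ∧ D m = P m ⊓ K ∧ Upto P m = X ∧
      P m ≤ ser X m ∧ ¬ P m ≤ K := by
  classical
  intro m
  induction m with
  | zero =>
    intro X K hX hsX hXK hsK hne hmin
    obtain ⟨q, hq, hXq, hcomm, hpow⟩ := base c hX hsX hXK hsK hne hmin
    have hnD : X ≤ normalizer ((X ⊓ K : Subgroup Γ) : Set Γ) := Coprime.le_normalizer_inf Subgroup.le_normalizer hXK
    have hsD : s ∈ normalizer ((X ⊓ K : Subgroup Γ) : Set Γ) := mem_normalizer_iff_le.mpr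
      (Coprime.le_normalizer_inf (mem_normalizer_iff_le.mp hsX) (mem_normalizer_iff_le.mp hsK))
    have hcommX : ⁅X, X⁆ ≤ X ⊓ K := le_inf (Subgroup.commutator_le_self X) hcomm
    have hzero : ∀ {i : ℕ}, i ≤ 0 → ∀ j < i, False := fun h j hj => by omega
    have hinv : ∀ U : Subgroup Γ, s ∈ normalizer (U : Set Γ) → ∀ i ≤ 0, InvAt s (fun _ => X) i U :=
      fun U hU i hi => ⟨hU, fun j hj => (hzero hi j hj).elim⟩
    refine ⟨fun _ => X, fun _ => X ⊓ K, fun _ => X ⊓ K, fun _ => q, ?_, rfl, rfl, le_rfl, hne⟩
    exact
      { prime := fun _ _ => hq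
        pgrp := fun _ _ => hXq
        invP := hinv X hsX
        invD := hinv _ hsD
        invY := hinv _ hsD
        normD := fun _ _ => hnD
        normY := fun _ _ => hnD
        le := fun _ _ => ⟨le_rfl, inf_le_left, fun h => hne (h.trans inf_le_right)⟩
        comm := fun _ _ => hcommX
        pow := fun _ _ x hx => ⟨pow_mem hx q, hpow x hx⟩
        centY := fun _ _ => (commutator_mono le_rfl inf_le_left).trans hcommX
        irred := fun _ _ U hYU hUX hU => by
          by_cases hUK : U ≤ K
          · exact Or.inl (le_antisymm (le_inf hUX hUK) hYU)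
          · exact Or.inr (hmin U hUX hU.1 hUK)
        small := fun _ _ U hUX hU hUY => hmin U hUX hU.1 fun h => hUY (le_inf hUX h)
        ne := fun i hi => absurd hi (Nat.not_lt_zero i)
        ker := fun i hi => absurd hi (Nat.not_lt_zero i)
        gen := fun i hi => absurd hi (Nat.not_lt_zero i)
        actY := fun i hi => absurd hi (Nat.not_lt_zero i)
        fixY := fun i hi => absurd hi (Nat.not_lt_zero i) }
  | succ m ih =>
    intro X K hX hsX hXK hsK hne hmin
    obtain ⟨q, hqf, L, M₀, X2, hLT, hKM, -, hLq, hsL, hsM, hXM, hX2X, hX2L, hsX2, hnker, hnL, hqel,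
      hcomm, hpow, hirr⟩ := chief_step c hX hsX hXK hsK hne
    have hLX : L ≤ X := hLT.trans (CoprimeFitting.ser_le _ _)
    set C := kerOn L M₀ with hC
    have hsC : s ∈ normalizer (C : Set Γ) := mem_normalizer_iff_le.mpr
      (le_normalizer_kerOn (mem_normalizer_iff_le.mp hsL) (mem_normalizer_iff_le.mp hsM))
    have hX2C : X2 ≤ normalizer (C : Set Γ) := le_normalizer_kerOn hX2L (hX2X.trans hXM)
    obtain ⟨X3, ⟨hX32, hsX3, hX3ne⟩, hX3min⟩ := wellFounded_lt.has_min
      {U : Subgroup Γ | U ≤ X2 ∧ s ∈ normalizer (U : Set Γ) ∧ ¬ ser U m ≤ C} ⟨X2, le_rfl, hsX2, hnker⟩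
    have hX3X : X3 ≤ X := hX32.trans hX2X
    obtain ⟨P, D, Y, qs, hlay, hDm, hup, hPser, hPC⟩ := ih X3 C (hX3X.trans hX) hsX3 (hX32.trans hX2C)
      hsC hX3ne fun U hU hsU hUne =>
        eq_of_le_of_not_lt hU (hX3min U ⟨hU.trans hX32, hsU, hUne⟩)
    haveI := Fact.mk (hlay.prime m le_rfl)
    have hPX3 : ∀ i ≤ m, P i ≤ X3 := fun i hi => hup ▸ le_upto P hi
    have hqne : qs m ≠ q := by
      intro he
      refine hPC fun x hx => ?_
      obtain ⟨k, hk⟩ := hlay.pgrp m le_rfl ⟨x, hx⟩
      refine hqel x (CoprimeFitting.ser_mono hX32 m (hPser hx)) k ?_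
      rw [← he, show x ^ qs m ^ k = 1 from congrArg Subtype.val hk]
      exact C.one_mem
    -- the minimal invariant subgroup
    have hPL : P m ≤ normalizer (L : Set Γ) := (hPX3 m le_rfl).trans (hX32.trans hX2L)
    have hPM : P m ≤ normalizer (M₀ : Set Γ) := (hPX3 m le_rfl).trans (hX3X.trans hXM)
    obtain ⟨Lm, ⟨hLmL, hsLm, hX3Lm, hLmne⟩, hLmmin⟩ := wellFounded_lt.has_min
      {U : Subgroup Γ | U ≤ L ∧ s ∈ normalizer (U : Set Γ) ∧ X3 ≤ normalizer (U : Set Γ) ∧ ¬ ⁅U, P m⁆ ≤ K}
      ⟨L, le_rfl, hsL, hX32.trans hX2L, fun h => hPC ((le_kerOn_iff hPL hPM).mpr (h.trans hKM))⟩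
    have hmin' : ∀ U ≤ Lm, s ∈ normalizer (U : Set Γ) → X3 ≤ normalizer (U : Set Γ) → ¬ ⁅U, P m⁆ ≤ K →
        U = Lm := fun U hU h1 h2 h3 => eq_of_le_of_not_lt hU (hLmmin U ⟨hU.trans hLmL, h1, h2, h3⟩)
    have hPLm : P m ≤ normalizer (Lm : Set Γ) := (hPX3 m le_rfl).trans hX3Lm
    have hLmq : IsPGroup q Lm := hLq.to_le hLmL
    have hsPm : s ∈ normalizer (P m : Set Γ) := (hlay.invP m le_rfl).1
    have hX3Pm : X3 ≤ normalizer (P m : Set Γ) := by
      rw [← hup]
      refine upto_le fun i hi => ?_
      rcases Nat.lt_or_eq_of_le hi with hi' | rfl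
      · exact (hlay.invP m le_rfl).2 i hi'
      · exact Subgroup.le_normalizer
    have hcopU : ∀ U : Subgroup Γ, U ≤ L → (Nat.card (P m)).Coprime (Nat.card U) := fun U hU =>
      IsPGroup.coprime_card_of_ne (qs m) q hqne (P m) U (hlay.pgrp m le_rfl) (hLq.to_le hU)
    have hsolvP : Group.IsSolvable (P m) := Coprime.isSolvable_of_le ((hPX3 m le_rfl).trans (hX3X.trans hX)) c.solv
    have hgen : ⁅Lm, P m⁆ = Lm := by
      refine hmin' _ (Coprime.commutator_le_of_le_normalizer hPLm)
        (mem_normalizer_iff_le.mpr (le_normalizer_commutator' (mem_normalizer_iff_le.mp hsLm)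
          (mem_normalizer_iff_le.mp hsPm))) (le_normalizer_commutator' hX3Lm hX3Pm) ?_
      rw [Coprime.commutator_commutator_eq hPLm (hcopU Lm hLmL) (Or.inl hsolvP)]
      exact hLmne
    have hLmK : ¬ Lm ≤ K := fun h => hLmne (hgen.le.trans h)
    have hLmser : ∀ j, j ≤ m + 1 → Lm ≤ ser (X3 ⊔ Lm) j := by
      intro j
      induction j with
      | zero => intro _; exact le_sup_right
      | succ j ihj =>
        intro hj
        have hP : P m ≤ ser (X3 ⊔ Lm) j := by
          obtain ⟨d, hd⟩ := Nat.exists_eq_add_of_le (show j ≤ m by omega)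
          refine hPser.trans ((CoprimeFitting.ser_mono (le_sup_left (b := Lm)) m).trans ?_)
          rw [hd, ← CoprimeFitting.ser_ser]
          exact CoprimeFitting.ser_le _ _
        refine le_iInf fun i => ?_
        induction i with
        | zero => exact ihj (by omega)
        | succ i ihi =>
          rw [Subgroup.lowerCentralSeries_succ]
          exact hgen.ge.trans (commutator_mono ihi hP)
    have hXeq : X3 ⊔ Lm = X := hmin _ (sup_le hX3X (hLmL.trans hLX))
      (mem_normalizer_iff_le.mpr (Coprime.le_normalizer_sup (mem_normalizer_iff_le.mp hsX3)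
        (mem_normalizer_iff_le.mp hsLm)))
      fun h => hLmK ((hLmser (m + 1) le_rfl).trans h)
    -- the section
    have hLM : L ≤ normalizer (M₀ : Set Γ) := hLX.trans hXM
    have hLmM : Lm ≤ normalizer (M₀ : Set Γ) := hLmL.trans hLM
    have hLmK' : Lm ≤ normalizer (K : Set Γ) := (hLmL.trans hLX).trans hXK
    set Ym : Subgroup Γ := Lm ⊓ M₀ with hYm
    set Dm : Subgroup Γ := Lm ⊓ K with hDm'
    have hDY : Dm ≤ Ym := inf_le_inf_left _ hKM
    have hLmY : Lm ≤ normalizer (Ym : Set Γ) := Coprime.le_normalizer_inf Subgroup.le_normalizer hLmM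
    have hX3Y : X3 ≤ normalizer (Ym : Set Γ) := Coprime.le_normalizer_inf hX3Lm (hX3X.trans hXM)
    have hsY : s ∈ normalizer (Ym : Set Γ) := mem_normalizer_iff_le.mpr
      (Coprime.le_normalizer_inf (mem_normalizer_iff_le.mp hsLm) (mem_normalizer_iff_le.mp hsM))
    have hLmnM : ¬ Lm ≤ M₀ := by
      intro h
      have h1 : X = X3 ⊔ M₀ ⊓ X :=
        le_antisymm (hXeq.ge.trans (sup_le le_sup_left ((le_inf h (hLmL.trans hLX)).trans le_sup_right)))
          (sup_le hX3X inf_le_right)
      have h2 := ser_le_sup (M := M₀ ⊓ X) (Coprime.le_normalizer_inf hXM Subgroup.le_normalizer) h1 (m + 1)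
      rw [← hup, hlay.ser_upto m le_rfl, bot_sup_eq] at h2
      exact hnL (hLT.trans (h2.trans inf_le_left))
    have hYdef : ∀ y, y ∈ Ym ↔ y ∈ Lm ∧ y ∈ M₀ := fun y => Subgroup.mem_inf
    have hM'eq : Lm ⊔ M₀ = L ⊔ M₀ := by
      refine (hirr (Lm ⊔ M₀) le_sup_right (sup_le (hLmL.trans le_sup_left) le_sup_right) ?_ ?_).resolve_left
        fun he => hLmnM (le_sup_left.trans he.le)
      · rw [← hXeq]
        exact Coprime.le_normalizer_sup (sup_le hX3Lm Subgroup.le_normalizer) (sup_le (hX3X.trans hXM) hLmM)
      · exact mem_normalizer_iff_le.mpr (Coprime.le_normalizer_sup (mem_normalizer_iff_le.mp hsLm)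
          (mem_normalizer_iff_le.mp hsM))
    have hLmcomm : ⁅Lm, Lm⁆ ≤ Ym := le_inf (Subgroup.commutator_le_self Lm)
      (commutator_le.mpr fun x hx y hy => hcomm x y (hLmL hx) (hLmL hy))
    have hinvLm : ∀ U : Subgroup Γ, InvAt s (Function.update P (m + 1) Lm) (m + 1) U →
        X3 ≤ normalizer (U : Set Γ) := by
      intro U hU
      rw [← hup]
      refine upto_le fun j hj => ?_
      have h1 := hU.2 j (by omega)
      rwa [Function.update_of_ne (show j ≠ m + 1 by omega)] at h1
    have hirrLm : ∀ U : Subgroup Γ, Ym ≤ U → U ≤ Lm → InvAt s (Function.update P (m + 1) Lm) (m + 1) U →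
        U = Ym ∨ U = Lm := by
      intro U hYU hULm hU
      have hUM : U ≤ normalizer (M₀ : Set Γ) := hULm.trans hLmM
      have hWL : U ⊔ M₀ ≤ L ⊔ M₀ := sup_le ((hULm.trans hLmL).trans le_sup_left) le_sup_right
      have hLmU : Lm ≤ normalizer (U : Set Γ) := Subgroup.le_normalizer_iff_commutator_le_left.mpr
        ((commutator_mono hULm le_rfl).trans (hLmcomm.trans hYU))
      rcases hirr (U ⊔ M₀) le_sup_right hWL (by
        rw [← hXeq]
        exact Coprime.le_normalizer_sup (sup_le (hinvLm U hU) hLmU) (sup_le (hX3X.trans hXM) hLmM))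
        (mem_normalizer_iff_le.mpr (Coprime.le_normalizer_sup (mem_normalizer_iff_le.mp hU.1)
          (mem_normalizer_iff_le.mp hsM))) with h | h
      · exact Or.inl (le_antisymm (le_inf hULm (le_sup_left.trans h.le)) hYU)
      · refine Or.inr (le_antisymm hULm fun x hx => ?_)
        have h1 : x ∈ U ⊔ M₀ := h.ge (mem_sup_left (hLmL hx))
        rw [sup_comm] at h1
        obtain ⟨a, ha, b, hb, he⟩ := (Coprime.mem_sup_of_le_normalizer hUM).mp h1
        have h2 : a ∈ Ym := by
          refine ⟨?_, ha⟩
          have h3 : a = x * b⁻¹ := by rw [← he, mul_inv_cancel_right]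
          rw [h3]
          exact Lm.mul_mem hx (Lm.inv_mem (hULm hb))
        rw [← he]
        exact U.mul_mem (hYU h2) hb
    have hYP : ⁅Ym, P m⁆ ≤ Dm := by
      refine le_inf ((commutator_mono inf_le_left le_rfl).trans hgen.le) ?_
      by_contra hcon
      have h1 := hmin' Ym inf_le_left hsY hX3Y hcon
      exact hLmnM (h1.ge.trans inf_le_right)
    have hsD : s ∈ normalizer (Dm : Set Γ) := mem_normalizer_iff_le.mpr
      (Coprime.le_normalizer_inf (mem_normalizer_iff_le.mp hsLm) (mem_normalizer_iff_le.mp hsK))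
    have hX3D : X3 ≤ normalizer (Dm : Set Γ) := Coprime.le_normalizer_inf hX3Lm (hX3X.trans hXK)
    have hLmD : Lm ≤ normalizer (Dm : Set Γ) := Coprime.le_normalizer_inf Subgroup.le_normalizer hLmK'
    have hLY : ⁅Lm, Ym⁆ ≤ Dm := by
      refine le_inf ((commutator_mono le_rfl inf_le_left).trans (Subgroup.commutator_le_self Lm)) ?_
      have hY1 : ⁅Ym, P m⁆ ≤ K := hYP.trans inf_le_right
      have hPK : P m ≤ normalizer (K : Set Γ) := (hPX3 m le_rfl).trans (hX3X.trans hXK)
      have h1 : ⁅⁅P m, Lm⁆, Ym⁆ ≤ K := by
        refine rotate_le hPK hLmK' (inf_le_left.trans hLmK') ?_ ?_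
        · refine le_trans (commutator_mono ?_ le_rfl) hY1
          rw [commutator_comm]
          exact Coprime.commutator_le_of_le_normalizer hLmY
        · refine (commutator_mono hY1 le_rfl).trans ?_
          exact Coprime.commutator_le_of_le_normalizer hLmK'
      rwa [commutator_comm (P m), hgen] at h1
    have hDm_eq : ∀ x ∈ P m, x ∈ D m ↔ ∀ y ∈ Lm, ⁅y, x⁆ ∈ Dm := by
      intro x hx
      rw [hDm, Subgroup.mem_inf, and_iff_right hx]
      constructor
      · intro hxC
        let A : Subgroup Γ := P m ⊓ C
        have hAP : A ≤ P m := inf_le_left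
        have hAL : A ≤ normalizer (Lm : Set Γ) := hAP.trans hPLm
        have h1 : ⁅Lm, A⁆ ≤ Ym := le_inf (Coprime.commutator_le_of_le_normalizer hAL)
          (commutator_le.mpr fun l hl a ha => ha.2.2 l (hLmL hl))
        have h2 : ⁅⁅Lm, A⁆, A⁆ ≤ Dm := (commutator_mono h1 hAP).trans hYP
        rw [Coprime.commutator_commutator_eq hAL ((hcopU Lm hLmL).coprime_dvd_left (card_dvd_of_le hAP))
          (Or.inl (Coprime.isSolvable_of_le hAP hsolvP))] at h2
        exact fun y hy => h2 (commutator_mem_commutator hy ⟨hx, hxC⟩)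
      · intro h
        refine ⟨⟨hPL hx, hPM hx⟩, fun l hl => ?_⟩
        have h1 : l ∈ Lm ⊔ M₀ := hM'eq.ge (mem_sup_left hl)
        rw [sup_comm] at h1
        obtain ⟨a, ha, b, hb, rfl⟩ := (Coprime.mem_sup_of_le_normalizer hLmM).mp h1
        have e : ⁅a * b, x⁆ = a * ⁅b, x⁆ * (x * a⁻¹ * x⁻¹) := by
          simp only [commutatorElement_def]; group
        rw [e]
        exact M₀.mul_mem (M₀.mul_mem ha (hKM (h b hb).2))
          ((Subgroup.mem_normalizer_iff.mp (hPM hx) _).mp (M₀.inv_mem ha))
    have hfix : ∀ y ∈ Lm, (∀ x ∈ P m, ⁅y, x⁆ ∈ Ym) → y ∈ Ym := by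
      intro y hy hyx
      by_contra hyY
      -- the fixed part is invariant
      let Fx : Subgroup Γ :=
        { carrier := {y | y ∈ Lm ∧ ∀ x ∈ P m, ⁅y, x⁆ ∈ Ym}
          one_mem' := ⟨one_mem _, fun x _ => by rw [commutatorElement_one_left]; exact one_mem _⟩
          mul_mem' := fun {a b} ha hb => ⟨mul_mem ha.1 hb.1, fun x hx => by
            have e : ⁅a * b, x⁆ = a * ⁅b, x⁆ * a⁻¹ * ⁅a, x⁆ := by
              simp only [commutatorElement_def]; group
            rw [e]
            exact Ym.mul_mem ((Subgroup.mem_normalizer_iff.mp (hLmY ha.1) _).mp (hb.2 x hx)) (ha.2 x hx)⟩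
          inv_mem' := fun {a} ha => ⟨inv_mem ha.1, fun x hx => by
            have e : ⁅a⁻¹, x⁆ = a⁻¹ * ⁅a, x⁆⁻¹ * a⁻¹⁻¹ := by
              simp only [commutatorElement_def]; group
            rw [e]
            exact (Subgroup.mem_normalizer_iff.mp (hLmY (inv_mem ha.1)) _).mp (Ym.inv_mem (ha.2 x hx))⟩ }
      have hYFx : Ym ≤ Fx := fun z hz => ⟨hz.1, fun x hx => hDY (hYP (commutator_mem_commutator hz hx))⟩
      have hFxinv : ∀ g : Γ, g ∈ normalizer (Lm : Set Γ) → g ∈ normalizer (P m : Set Γ) →
          g ∈ normalizer (Ym : Set Γ) → g ∈ normalizer (Fx : Set Γ) := by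
        have key : ∀ g : Γ, g ∈ normalizer (Lm : Set Γ) → g ∈ normalizer (P m : Set Γ) →
            g ∈ normalizer (Ym : Set Γ) → ∀ z ∈ Fx, g * z * g⁻¹ ∈ Fx := by
          intro g hgL hgP hgY z hz
          refine ⟨(Subgroup.mem_normalizer_iff.mp hgL _).mp hz.1, fun x hx => ?_⟩
          have e : ⁅g * z * g⁻¹, x⁆ = g * ⁅z, g⁻¹ * x * g⁆ * g⁻¹ := by
            simp only [commutatorElement_def]; group
          rw [e]
          exact (Subgroup.mem_normalizer_iff.mp hgY _).mp
            (hz.2 _ ((Subgroup.mem_normalizer_iff''.mp hgP _).mp hx))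
        intro g hgL hgP hgY
        rw [Subgroup.mem_normalizer_iff]
        intro z
        refine ⟨key g hgL hgP hgY z, fun h => ?_⟩
        have h1 := key g⁻¹ (inv_mem hgL) (inv_mem hgP) (inv_mem hgY) _ h
        simpa [mul_assoc] using h1
      rcases hirrLm Fx hYFx (fun z hz => hz.1) ⟨hFxinv s hsLm hsPm hsY, fun j hj => by
        rw [Function.update_of_ne (show j ≠ m + 1 by omega)]
        have hj' : j ≤ m := by omega
        exact fun g hg => hFxinv g (hX3Lm (hPX3 j hj' hg)) (hX3Pm (hPX3 j hj' hg)) (hX3Y (hPX3 j hj' hg))⟩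
        with h | h
      · exact hyY (h.le ⟨hy, hyx⟩)
      · refine hLmnM (hgen.ge.trans (le_trans ?_ (inf_le_right : Ym ≤ M₀) : ⁅Lm, P m⁆ ≤ M₀))
        exact commutator_le.mpr fun z hz x hx => (h.ge hz).2 x hx
    -- assemble
    have hup' : ∀ j ≤ m, Function.update P (m + 1) Lm j = P j := fun j hj =>
      Function.update_of_ne (show j ≠ m + 1 by omega) _ _
    have hInvAt : ∀ i ≤ m, ∀ U, InvAt s (Function.update P (m + 1) Lm) i U ↔ InvAt s P i U := by
      intro i hi U
      refine and_congr_right fun _ => forall₂_congr fun j hj => ?_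
      rw [hup' j (by omega)]
    have hInvTop : ∀ U : Subgroup Γ, s ∈ normalizer (U : Set Γ) → X3 ≤ normalizer (U : Set Γ) →
        InvAt s (Function.update P (m + 1) Lm) (m + 1) U := fun U h1 h2 => ⟨h1, fun j hj => by
      rw [hup' j (by omega)]; exact (hPX3 j (by omega)).trans h2⟩
    have hupto : ∀ (f : ℕ → Subgroup Γ) (j : ℕ), (∀ i ≤ j, f i = P i) → Upto f j = Upto P j := by
      intro f j
      induction j with
      | zero => intro h; exact h 0 le_rfl
      | succ j ihj => intro h; change Upto f j ⊔ f (j + 1) = _; rw [ihj fun i hi => h i (by omega), h _ le_rfl]; rfl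
    refine ⟨Function.update P (m + 1) Lm, Function.update D (m + 1) Dm, Function.update Y (m + 1) Ym,
      Function.update qs (m + 1) q, ?_, ?_, ?_, ?_, ?_⟩
    rotate_left
    · rw [Function.update_self, Function.update_self]
    · change Upto (Function.update P (m + 1) Lm) m ⊔ Function.update P (m + 1) Lm (m + 1) = X
      rw [hupto _ m hup', Function.update_self, hup, hXeq]
    · rw [Function.update_self, ← hXeq]; exact hLmser (m + 1) le_rfl
    · rw [Function.update_self]; exact hLmK
    have hsmall : ∀ U : Subgroup Γ, U ≤ Lm → InvAt s (Function.update P (m + 1) Lm) (m + 1) U → ¬ U ≤ Ym →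
        U = Lm := by
      intro U hU hUinv hUY
      refine hmin' U hU hUinv.1 (hinvLm U hUinv) fun hUK => hLmK ?_
      -- the section is generated by `U`
      rcases hirrLm (U ⊔ Ym) le_sup_right (sup_le hU inf_le_left)
        (hInvTop _ (mem_normalizer_iff_le.mpr (Coprime.le_normalizer_sup (mem_normalizer_iff_le.mp hUinv.1)
          (mem_normalizer_iff_le.mp hsY))) (Coprime.le_normalizer_sup (hinvLm U hUinv) hX3Y)) with h | h
      · exact absurd (le_sup_left.trans h.le) hUY
      · refine (hgen.ge.trans (commutator_le.mpr fun z hz x hx => ?_))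
        have h1 : z ∈ U ⊔ Ym := h.ge hz
        rw [sup_comm] at h1
        obtain ⟨a, ha, b, hb, rfl⟩ := (Coprime.mem_sup_of_le_normalizer (hU.trans hLmY)).mp h1
        have e : ⁅a * b, x⁆ = a * ⁅b, x⁆ * a⁻¹ * ⁅a, x⁆ := by
          simp only [commutatorElement_def]; group
        rw [e]
        refine K.mul_mem ((Subgroup.mem_normalizer_iff.mp (hLmK' ha.1) _).mp
          (hUK (commutator_mem_commutator hb hx))) (hYP (commutator_mem_commutator ha hx)).2
    have hcases : ∀ i, i ≤ m + 1 → i ≤ m ∨ i = m + 1 := fun i hi => by omega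
    have hle' : ∀ i < m, i + 1 ≤ m := fun i hi => hi
    exact
      { prime := fun i hi => by
          rcases hcases i hi with h | rfl
          · rw [Function.update_of_ne (by omega)]; exact hlay.prime i h
          · rw [Function.update_self]; exact hqf.out
        pgrp := fun i hi => by
          rcases hcases i hi with h | rfl
          · rw [Function.update_of_ne (by omega), hup' i h]; exact hlay.pgrp i h
          · rw [Function.update_self, Function.update_self]; exact hLmq
        invP := fun i hi => by
          rcases hcases i hi with h | rfl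
          · rw [hInvAt i h, hup' i h]; exact hlay.invP i h
          · rw [show Function.update P (m + 1) Lm (m + 1) = Lm from Function.update_self _ _ _]
            exact hInvTop Lm hsLm hX3Lm
        invD := fun i hi => by
          rcases hcases i hi with h | rfl
          · rw [hInvAt i h, Function.update_of_ne (by omega)]; exact hlay.invD i h
          · rw [Function.update_self]; exact hInvTop Dm hsD hX3D
        invY := fun i hi => by
          rcases hcases i hi with h | rfl
          · rw [hInvAt i h, Function.update_of_ne (by omega)]; exact hlay.invY i h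
          · rw [Function.update_self]; exact hInvTop Ym hsY hX3Y
        normD := fun i hi => by
          rcases hcases i hi with h | rfl
          · rw [hup' i h, Function.update_of_ne (by omega)]; exact hlay.normD i h
          · rw [Function.update_self, Function.update_self]; exact hLmD
        normY := fun i hi => by
          rcases hcases i hi with h | rfl
          · rw [hup' i h, Function.update_of_ne (by omega)]; exact hlay.normY i h
          · rw [Function.update_self, Function.update_self]; exact hLmY
        le := fun i hi => by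
          rcases hcases i hi with h | rfl
          · rw [hup' i h, Function.update_of_ne (by omega), Function.update_of_ne (by omega)]
            exact hlay.le i h
          · rw [Function.update_self, Function.update_self, Function.update_self]
            exact ⟨hDY, inf_le_left, fun h => hLmnM (h.trans inf_le_right)⟩
        comm := fun i hi => by
          rcases hcases i hi with h | rfl
          · rw [hup' i h, Function.update_of_ne (by omega)]; exact hlay.comm i h
          · rw [Function.update_self, Function.update_self]; exact hLmcomm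
        pow := fun i hi => by
          rcases hcases i hi with h | rfl
          · rw [hup' i h, Function.update_of_ne (by omega), Function.update_of_ne (by omega)]
            exact hlay.pow i h
          · rw [Function.update_self, Function.update_self, Function.update_self]
            exact fun x hx => ⟨pow_mem hx q, hpow x (hLmL hx)⟩
        centY := fun i hi => by
          rcases hcases i hi with h | rfl
          · rw [hup' i h, Function.update_of_ne (by omega), Function.update_of_ne (by omega)]
            exact hlay.centY i h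
          · rw [Function.update_self, Function.update_self, Function.update_self]; exact hLY
        irred := fun i hi U => by
          rcases hcases i hi with h | rfl
          · rw [hup' i h, Function.update_of_ne (by omega), hInvAt i h]; exact hlay.irred i h U
          · rw [Function.update_self, Function.update_self]; exact hirrLm U
        small := fun i hi U => by
          rcases hcases i hi with h | rfl
          · rw [hup' i h, Function.update_of_ne (by omega), hInvAt i h]; exact hlay.small i h U
          · rw [Function.update_self, Function.update_self]; exact hsmall U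
        ne := fun i hi => by
          rcases Nat.lt_or_eq_of_le (Nat.lt_succ_iff.mp hi) with h | rfl
          · rw [Function.update_of_ne (by omega), Function.update_of_ne (by omega)]; exact hlay.ne i h
          · rw [Function.update_self, Function.update_of_ne (by omega)]; exact hqne
        ker := fun i hi => by
          rcases Nat.lt_or_eq_of_le (Nat.lt_succ_iff.mp hi) with h | rfl
          · rw [hup' i h.le, hup' (i + 1) h, Function.update_of_ne (by omega), Function.update_of_ne (by omega)]
            exact hlay.ker i h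
          · rw [hup' i le_rfl, Function.update_self, Function.update_self, Function.update_of_ne (by omega)]
            exact hDm_eq
        gen := fun i hi => by
          rcases Nat.lt_or_eq_of_le (Nat.lt_succ_iff.mp hi) with h | rfl
          · rw [hup' i h.le, hup' (i + 1) h]; exact hlay.gen i h
          · rw [hup' i le_rfl, Function.update_self]; exact hgen
        actY := fun i hi => by
          rcases Nat.lt_or_eq_of_le (Nat.lt_succ_iff.mp hi) with h | rfl
          · rw [hup' i h.le, Function.update_of_ne (by omega), Function.update_of_ne (by omega)]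
            exact hlay.actY i h
          · rw [hup' i le_rfl, Function.update_self, Function.update_self]; exact hYP
        fixY := fun i hi => by
          rcases Nat.lt_or_eq_of_le (Nat.lt_succ_iff.mp hi) with h | rfl
          · rw [hup' i h.le, hup' (i + 1) h, Function.update_of_ne (by omega)]
            exact hlay.fixY i h
          · rw [hup' i le_rfl, Function.update_self, Function.update_self]; exact hfix }

end Cfsg.Agent.Turull
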