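import Cfsg.Agent.CoprimeFitting.Basic

/-!
Computing modulo a subgroup inside its normaliser.
-/

set_option autoImplicit false

open Subgroup
open scoped commutatorElement

namespace Cfsg.Agent.Turull

open CoprimeFitting (ser nres)

universe u

variable {Γ : Type u} [Group Γ]

/-- The image of a subgroup of the normaliser of `K` in the quotient by `K`. -/
noncomputable def img (K H : Subgroup Γ) :
    Subgroup ((normalizer (K : Set Γ) : Subgroup Γ) ⧸ K.subgroupOf (normalizer (K : Set Γ))) :=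
  (H.subgroupOf (normalizer (K : Set Γ))).map (QuotientGroup.mk' _)

theorem le_sup_of_img_le {K H J : Subgroup Γ} (hH : H ≤ normalizer (K : Set Γ))
    (h : img K H ≤ img K J) : H ≤ J ⊔ K := by
  intro x hx
  obtain ⟨y, hy, he⟩ := h (mem_map_of_mem _
    (show (⟨x, hH hx⟩ : (normalizer (K : Set Γ) : Subgroup Γ)) ∈ H.subgroupOf _ from hx))
  have h1 : (y : Γ)⁻¹ * x ∈ K := (QuotientGroup.eq (s := K.subgroupOf _)).mp he
  have h2 : (y : Γ) * ((y : Γ)⁻¹ * x) ∈ J ⊔ K := mul_mem_sup hy h1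
  rwa [mul_inv_cancel_left] at h2

theorem img_eq_bot_iff {K H : Subgroup Γ} (hH : H ≤ normalizer (K : Set Γ)) : img K H = ⊥ ↔ H ≤ K := by
  rw [img, Subgroup.map_eq_bot_iff, QuotientGroup.ker_mk']
  refine ⟨fun h x hx => h (x := ⟨x, hH hx⟩) hx, fun h x hx => h hx⟩

theorem img_mono {K H J : Subgroup Γ} (h : H ≤ J) : img K H ≤ img K J :=
  map_mono fun _ hy => h hy

theorem img_sup_left {K J : Subgroup Γ} (hJ : J ≤ normalizer (K : Set Γ)) : img K (J ⊔ K) = img K J := by
  have hK : (K.subgroupOf (normalizer (K : Set Γ))).map (QuotientGroup.mk' (K.subgroupOf _)) = ⊥ := by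
    rw [Subgroup.map_eq_bot_iff, QuotientGroup.ker_mk']
  rw [img, img, Subgroup.subgroupOf_sup hJ Subgroup.le_normalizer, Subgroup.map_sup, hK, sup_bot_eq]

theorem img_commutator {K H J : Subgroup Γ} (hH : H ≤ normalizer (K : Set Γ))
    (hJ : J ≤ normalizer (K : Set Γ)) : img K ⁅H, J⁆ = ⁅img K H, img K J⁆ := by
  rw [img, img, img, ← Subgroup.map_commutator]
  congr 1
  apply map_injective (normalizer (K : Set Γ)).subtype_injective
  rw [map_subgroupOf_eq_of_le (((commutator_mono hH hJ).trans (commutator_le_self _))),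
    Subgroup.map_commutator, map_subgroupOf_eq_of_le hH, map_subgroupOf_eq_of_le hJ]

theorem img_ser [Finite Γ] {K H : Subgroup Γ} (hH : H ≤ normalizer (K : Set Γ)) (m : ℕ) :
    img K (ser H m) = ser (img K H) m := by
  rw [img, img, ← CoprimeFitting.map_ser]
  congr 1
  apply map_injective (normalizer (K : Set Γ)).subtype_injective
  rw [map_subgroupOf_eq_of_le ((CoprimeFitting.ser_le H m).trans hH), CoprimeFitting.map_ser,
    map_subgroupOf_eq_of_le hH]

/-- The three subgroup lemma modulo `K`. -/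
theorem rotate_le {K A B C : Subgroup Γ} (hA : A ≤ normalizer (K : Set Γ))
    (hB : B ≤ normalizer (K : Set Γ)) (hC : C ≤ normalizer (K : Set Γ)) (h1 : ⁅⁅B, C⁆, A⁆ ≤ K)
    (h2 : ⁅⁅C, A⁆, B⁆ ≤ K) : ⁅⁅A, B⁆, C⁆ ≤ K := by
  have hN : ∀ {U V : Subgroup Γ}, U ≤ normalizer (K : Set Γ) → V ≤ normalizer (K : Set Γ) →
      ⁅U, V⁆ ≤ normalizer (K : Set Γ) := fun hU hV => (commutator_mono hU hV).trans (commutator_le_self _)
  rw [← img_eq_bot_iff (hN (hN hA hB) hC), img_commutator (hN hA hB) hC, img_commutator hA hB]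
  refine commutator_commutator_eq_bot_of_rotate ?_ ?_
  · rw [← img_commutator hB hC, ← img_commutator (hN hB hC) hA, img_eq_bot_iff (hN (hN hB hC) hA)]
    exact h1
  · rw [← img_commutator hC hA, ← img_commutator (hN hC hA) hB, img_eq_bot_iff (hN (hN hC hA) hB)]
    exact h2

theorem ser_le_sup [Finite Γ] {X X2 M : Subgroup Γ} (hX : X ≤ normalizer (M : Set Γ)) (h : X = X2 ⊔ M)
    (m : ℕ) : ser X m ≤ ser X2 m ⊔ M := by
  have hX2 : X2 ≤ normalizer (M : Set Γ) := (le_sup_left.trans h.ge).trans hX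
  refine le_sup_of_img_le ((CoprimeFitting.ser_le X m).trans hX) ?_
  rw [img_ser hX, img_ser hX2, h, img_sup_left hX2]

theorem ser_succ_le_lcs (H : Subgroup Γ) (m k : ℕ) : ser H (m + 1) ≤ (ser H m).lowerCentralSeries k :=
  iInf_le _ k

/-- The next term is the commutator of the term with itself. -/
theorem ser_succ_eq_commutator [Finite Γ] (H : Subgroup Γ) (m : ℕ) :
    ser H (m + 1) = ⁅ser H (m + 1), ser H m⁆ := by
  obtain ⟨N, hN⟩ := CoprimeFitting.exists_nres_eq (ser H m)
  have h1 : ser H (m + 1) = (ser H m).lowerCentralSeries N := (hN N le_rfl).symm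
  have h2 : ser H (m + 1) = (ser H m).lowerCentralSeries (N + 1) := (hN (N + 1) (Nat.le_succ N)).symm
  rw [Subgroup.lowerCentralSeries_succ, ← h1] at h2
  exact h2

end Cfsg.Agent.Turull
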