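import Cfsg.Agent.Turull.Classify

/-!
An element of odd prime power order normalising a nondegenerate group of operators, commuting with
the operator of prime order and fixing its fixed points, centralises the operators.
-/

set_option autoImplicit false
set_option maxHeartbeats 1000000

namespace Cfsg.Agent.Turull

open Module

variable {E : Type*} [Field E] {W : Type*} [AddCommGroup W] [Module E W] {N : Type*} [Group N]
variable {ρ : N →* Module.End E W} {σ : N ≃* N} {S : Module.End E W} {r : ℕ}

theorem scalar_of_central {V : Type*} [AddCommGroup V] [Module E V] (M : Module.End E V)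
    (h : ∀ X, Commute M X) : ∃ k : E, M = k • (1 : Module.End E V) := by
  rcases subsingleton_or_nontrivial V with hV | hV
  · exact ⟨0, Subsingleton.elim _ _⟩
  obtain ⟨u, hu⟩ := exists_ne (0 : V)
  obtain ⟨f, hf⟩ := Projective.exists_dual_eq_one E hu
  refine ⟨f (M u), LinearMap.ext fun v => ?_⟩
  have h1 := LinearMap.congr_fun (h ((f : V →ₗ[E] E).smulRight v)).eq u
  rw [Module.End.mul_apply, Module.End.mul_apply, LinearMap.smulRight_apply, LinearMap.smulRight_apply,
    hf, one_smul] at h1
  rw [h1]
  rfl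

theorem scalar_on {V : Type*} [AddCommGroup V] [Module E V] (b : Module.End E V) (U : Submodule E V)
    (h : ∀ w ∈ U, ∃ k : E, b w = k • w) : ∃ k : E, ∀ w ∈ U, b w = k • w := by
  by_cases hU : U = ⊥
  · exact ⟨0, fun w hw => by rw [hU, Submodule.mem_bot] at hw; rw [hw, map_zero, smul_zero]⟩
  obtain ⟨w₀, hw₀, hw₀0⟩ := Submodule.exists_mem_ne_zero_of_ne_bot hU
  obtain ⟨k, hk⟩ := h w₀ hw₀
  refine ⟨k, fun w hw => ?_⟩
  by_cases hd : ∃ t : E, t • w₀ = w
  · obtain ⟨t, rfl⟩ := hd
    rw [map_smul, hk, smul_comm]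
  push Not at hd
  obtain ⟨k₁, hk₁⟩ := h w hw
  obtain ⟨k₂, hk₂⟩ := h (w + w₀) (U.add_mem hw hw₀)
  rw [map_add, hk, hk₁, smul_add] at hk₂
  have h1 : (k₁ - k₂) • w = (k₂ - k) • w₀ := by
    rw [sub_smul, sub_smul, sub_eq_sub_iff_add_eq_add, hk₂, add_comm]
  by_cases h2 : k₁ = k₂
  · rw [h2, sub_self, zero_smul] at h1
    rw [hk₁, h2, sub_eq_zero.mp ((smul_eq_zero.mp h1.symm).resolve_right hw₀0)]
  · exact absurd (by rw [← smul_smul, ← h1, smul_smul, inv_mul_cancel₀ (sub_ne_zero.mpr h2), one_smul])
      (hd ((k₁ - k₂)⁻¹ * (k₂ - k)))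

theorem mem_scal_of_eq {g k : N} (h : ρ g = ρ k) :
    (QuotientGroup.mk g : N ⧸ scal ρ) = QuotientGroup.mk k :=
  QuotientGroup.eq.mpr ⟨1, by rw [map_mul, ← h, rho_cancel', one_smul]⟩

/-- The induced map of an element normalising the operators. -/
noncomputable def barOf (x x' : Module.End E W) (φ : N → N) (hx : ∀ g, x * ρ g = ρ (φ g) * x)
    (hxx : x * x' = 1) : N ⧸ scal ρ →* N ⧸ scal ρ := by
  have hφ : ∀ g, ρ (φ g) = x * ρ g * x' := fun g => by rw [hx, mul_assoc, hxx, mul_one]
  have hmul : ∀ g k, (QuotientGroup.mk (φ (g * k)) : N ⧸ scal ρ) =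
      QuotientGroup.mk (φ g) * QuotientGroup.mk (φ k) := fun g k => by
    rw [← QuotientGroup.mk_mul]
    refine mem_scal_of_eq ?_
    rw [hφ, map_mul, map_mul ρ (φ g)]
    calc x * (ρ g * ρ k) * x' = x * ρ g * (ρ k * x') := by simp only [mul_assoc]
      _ = ρ (φ g) * x * (ρ k * x') := by rw [hx]
      _ = ρ (φ g) * ρ (φ k) := by rw [hφ k]; simp only [mul_assoc]
  refine QuotientGroup.lift (scal ρ) (MonoidHom.mk' (fun g => QuotientGroup.mk (φ g)) hmul) ?_
  rintro g ⟨c, hc⟩
  rw [MonoidHom.mem_ker, MonoidHom.mk'_apply, QuotientGroup.eq_one_iff]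
  exact ⟨c, by rw [hφ, hc, mul_smul_comm, mul_one, smul_mul_assoc, hxx]⟩

theorem barOf_mk {x x' : Module.End E W} {φ : N → N} (hx : ∀ g, x * ρ g = ρ (φ g) * x) (hxx : x * x' = 1)
    (g : N) : barOf x x' φ hx hxx (QuotientGroup.mk g) = QuotientGroup.mk (φ g) := rfl

theorem rel_pow {x : Module.End E W} {φ : N → N} (hx : ∀ g, x * ρ g = ρ (φ g) * x) (n : ℕ) (g : N) :
    x ^ n * ρ g = ρ (φ^[n] g) * x ^ n := by
  induction n generalizing g with
  | zero => simp
  | succ n ihn => rw [pow_succ', mul_assoc, ihn, ← mul_assoc, hx, mul_assoc, Function.iterate_succ_apply']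

theorem pow_fix {x : Module.End E W} {v : W} (hv : x v = v) (n : ℕ) : (x ^ n) v = v := by
  induction n with
  | zero => simp
  | succ n ihn => rw [pow_succ', Module.End.mul_apply, ihn, hv]

/-- No element of odd prime order acts. -/
theorem Nondeg.no_odd [IsAlgClosed E] [FiniteDimensional E W] [Nontrivial W] [Finite N] {t : ℕ}
    [ht' : Fact t.Prime] (hN : IsPGroup t N) (ht : (t : E) ≠ 0) (hr : (r : E) ≠ 0) (hn : Nondeg ρ)
    (h : Act ρ σ S r) (hexc : ¬ (t = 2 ∧ Nat.card (N ⧸ scal ρ) = (r - 1) ^ 2))
    {o : ℕ} (ho : o.Prime) (hodd : 3 ≤ o) (hor : o ≠ r) (hot : o = t → r ≠ 2) :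
    ∀ (e : ℕ) (x : Module.End E W) (φ : N → N), (∀ g, x * ρ g = ρ (φ g) * x) → Commute x S →
      (∀ v, S v = v → x v = v) → x ^ o ^ e = 1 → ∀ g, Commute x (ρ g) := by
  classical
  intro e
  induction e with
  | zero =>
    intro x _ _ _ _ hp g
    rw [pow_zero, pow_one] at hp
    rw [hp]
    exact Commute.one_left _
  | succ e ih =>
    intro x φ hx hxS hfix hp
    have hxo : ∀ g, Commute (x ^ o) (ρ g) := by
      exact ih (x ^ o) φ^[o] (fun g => rel_pow hx o g) (hxS.pow_left o) (fun v hv => pow_fix (hfix v hv) o)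
        (by rw [← pow_mul, ← pow_succ', hp])
    have hpos : 0 < o ^ (e + 1) := pow_pos ho.pos _
    set x' := x ^ (o ^ (e + 1) - 1) with hx'
    have hxx : x * x' = 1 := by rw [← pow_succ', Nat.sub_add_cancel hpos, hp]
    have hx'x : x' * x = 1 := by rw [← pow_succ, Nat.sub_add_cancel hpos, hp]
    have hφ : ∀ g, ρ (φ g) = x * ρ g * x' := fun g => by rw [hx, mul_assoc, hxx, mul_one]
    by_contra hcon
    push Not at hcon
    obtain ⟨g₀, hg₀⟩ := hcon
    set bar := barOf x x' φ hx hxx
    -- the element moves a class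
    obtain ⟨g₁, hg₁⟩ : ∃ g, bar (QuotientGroup.mk g) ≠ (QuotientGroup.mk g : N ⧸ scal ρ) := by
      by_contra hall
      push Not at hall
      have hlam : ∀ g, ∃ c : E, x * ρ g = c • (ρ g * x) := fun g => by
        obtain ⟨c, hc⟩ := QuotientGroup.eq.mp (hall g).symm
        refine ⟨c, ?_⟩
        rw [hx, show φ g = g * (g⁻¹ * φ g) from (mul_inv_cancel_left _ _).symm, map_mul ρ g (g⁻¹ * φ g), hc,
          mul_smul_comm, mul_one, smul_mul_assoc]
      choose lam hlam using hlam
      have hS' : S ^ (r - 1) * S = 1 := by rw [← pow_succ, Nat.sub_add_cancel h.prime.one_le, h.pow]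
      have hρσ : ∀ g, ρ (σ g) = S * ρ g * S ^ (r - 1) := fun g => by rw [h.rel, mul_assoc, h.cancel, mul_one]
      have hσlam : ∀ g, x * ρ (σ g) = lam g • (ρ (σ g) * x) := fun g => by
        rw [hρσ, ← mul_assoc, ← mul_assoc, hxS.eq, mul_assoc S, hlam, mul_smul_comm, smul_mul_assoc]
        congr 1
        rw [mul_assoc S (ρ g) (S ^ (r - 1)), mul_assoc S (ρ g * S ^ (r - 1)) x, mul_assoc (ρ g) (S ^ (r - 1)) x,
          ← (hxS.pow_right (r - 1)).eq]
        simp only [mul_assoc]
      let K : Subgroup N :=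
        { carrier := {g | Commute x (ρ g)}
          one_mem' := by simp
          mul_mem' := fun {g k} hg hk => by
            change Commute x (ρ (g * k))
            rw [map_mul]
            exact hg.mul_right hk
          inv_mem' := fun {g} hg => by
            change Commute x (ρ g⁻¹)
            have h1 : x * ρ g⁻¹ = ρ g⁻¹ * (ρ g * x) * ρ g⁻¹ := by
              rw [← mul_assoc (ρ g⁻¹), rho_cancel', one_mul]
            rw [← show x * ρ g = ρ g * x from hg, mul_assoc, mul_assoc x, rho_cancel, mul_one] at h1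
            exact h1 }
      have hle : Subgroup.closure (Set.range fun g : N => g⁻¹ * σ g) ≤ K := by
        rw [Subgroup.closure_le]
        rintro _ ⟨g, rfl⟩
        change x * ρ (g⁻¹ * σ g) = ρ (g⁻¹ * σ g) * x
        have hne : lam g ≠ 0 := fun h0 => by
          have h1 := hlam g
          rw [h0, zero_smul] at h1
          have h2 := congrArg (fun T => x' * T * ρ g⁻¹) h1
          simp only [← mul_assoc, hx'x, one_mul, rho_cancel, mul_zero, zero_mul] at h2
          exact one_ne_zero h2
        have h3 : ρ g⁻¹ * x = lam g • (x * ρ g⁻¹) := by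
          have h1 := congrArg (fun T => ρ g⁻¹ * T * ρ g⁻¹) (hlam g)
          simp only [mul_smul_comm, smul_mul_assoc] at h1
          rw [mul_assoc, mul_assoc x, rho_cancel, mul_one, ← mul_assoc, rho_cancel', one_mul] at h1
          exact h1
        rw [map_mul, mul_assoc (ρ g⁻¹), ← smul_right_inj hne, ← mul_smul_comm (lam g) (ρ g⁻¹), ← hσlam,
          ← mul_assoc, ← mul_assoc, h3, smul_mul_assoc]
      exact hg₀ (hle (h.gen.symm ▸ Subgroup.mem_top g₀))
    -- the model
    obtain ⟨J, τ, Φ, a, a', c, M, hJ0, hk, hcard, hrel⟩ := exists_act_model hN ht hn h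
    haveI : Nontrivial J := Submodule.nontrivial_iff_ne_bot.mpr hJ0
    haveI : Fintype (N ⧸ scal ρ) := Fintype.ofFinite _
    let bb : Basis (N ⧸ scal ρ) E (Module.End E J) := Basis.mk M.indep (fun X _ => M.span X)
    have hbb : ∀ q, bb q = τ q.out := fun q => by rw [Basis.mk_apply]
    have hΦinj : Function.Injective Φ := by
      rw [injective_iff_map_eq_zero]
      intro X hX
      rw [← bb.sum_repr X, map_sum] at hX
      simp only [map_smul, hbb, M.phi] at hX
      have h1 := Fintype.linearIndependent_iff.mp hn.indep _ hX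
      rw [← bb.sum_repr X]
      exact Finset.sum_eq_zero fun q _ => by rw [h1 q, zero_smul]
    -- conjugation on the model
    let f₀ : Module.End E (Module.End E J) := bb.constr E fun q => τ (φ q.out)
    have hf₀ : ∀ X, Φ (f₀ X) = x * Φ X * x' := by
      intro X
      refine LinearMap.congr_fun (show Φ.toLinearMap.comp f₀ =
        ((LinearMap.mulLeft E x).comp (LinearMap.mulRight E x')).comp Φ.toLinearMap from
        bb.ext fun q => ?_) X |>.trans ?_
      · rw [LinearMap.comp_apply, show f₀ (bb q) = τ (φ q.out) from bb.constr_basis E _ q]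
        simp only [LinearMap.comp_apply, AlgHom.toLinearMap_apply, hbb, M.phi,
          LinearMap.mulLeft_apply, LinearMap.mulRight_apply, hφ, mul_assoc]
      · simp [mul_assoc]
    have hf₀m : ∀ X Y, f₀ (X * Y) = f₀ X * f₀ Y := fun X Y => hΦinj (by
      rw [hf₀, map_mul, map_mul, hf₀, hf₀]
      calc x * (Φ X * Φ Y) * x' = x * Φ X * (1 * (Φ Y * x')) := by rw [one_mul]; simp only [mul_assoc]
        _ = x * Φ X * x' * (x * Φ Y * x') := by rw [← hx'x]; simp only [mul_assoc])
    have hf₀1 : f₀ 1 = 1 := hΦinj (by rw [hf₀, map_one, mul_one, hxx])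
    let f₁ : Module.End E J →ₐ[E] Module.End E J := AlgHom.ofLinearMap f₀ hf₀1 hf₀m
    have hf₁inj : Function.Injective f₁ := by
      intro X Y hXY
      refine hΦinj ?_
      have h1 : x * Φ X * x' = x * Φ Y * x' := by rw [← hf₀, ← hf₀]; exact congrArg Φ hXY
      have h2 := congrArg (fun T => x' * T * x) h1
      simp only [← mul_assoc, hx'x, one_mul] at h2
      simpa only [mul_assoc, hx'x, mul_one] using h2
    obtain ⟨T, hT⟩ := (AlgEquiv.ofBijective f₁ ⟨hf₁inj,
      LinearMap.injective_iff_surjective.mp (show Function.Injective f₀ from hf₁inj)⟩).eq_linearEquivConjAlgEquiv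
    let b₀ : Module.End E J := T.toLinearMap
    let b₀' : Module.End E J := T.symm.toLinearMap
    have hb₀ : b₀ * b₀' = 1 := LinearMap.ext fun v => T.apply_symm_apply v
    have hb₀' : b₀' * b₀ = 1 := LinearMap.ext fun v => T.symm_apply_apply v
    have hconj₀ : ∀ X, Φ (b₀ * X * b₀') = x * Φ X * x' := fun X => by
      rw [← hf₀]
      refine congrArg Φ ?_
      change _ = f₁ X
      rw [show f₁ X = T.conjAlgEquiv E X from congrArg (fun F : Module.End E J ≃ₐ[E] Module.End E J => F X) hT]
      rfl
    -- normalising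
    have hS'' : ∀ X, Φ (a * X * a') = S * Φ X * S ^ (r - 1) := fun X => by
      rw [hrel, mul_assoc _ S, h.cancel, mul_one]
    obtain ⟨β, hβ⟩ := scalar_of_central (b₀ ^ o) fun X => by
      have h1 : ∀ n : ℕ, Φ (b₀ ^ n * X * b₀' ^ n) = x ^ n * Φ X * x' ^ n := by
        intro n
        induction n with
        | zero => simp
        | succ n ihn =>
          rw [pow_succ' b₀, pow_succ b₀', show b₀ * b₀ ^ n * X * (b₀' ^ n * b₀') =
            b₀ * (b₀ ^ n * X * b₀' ^ n) * b₀' by simp only [mul_assoc], hconj₀, ihn, pow_succ' x, pow_succ x']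
          simp only [mul_assoc]
      have hcX : Commute (x ^ o) (Φ X) :=
        M.span_induction (P := fun X => Commute (x ^ o) (Φ X)) (by simp) (fun g => by rw [M.phi]; exact hxo g)
          (fun X Y hX hY => by rw [map_add]; exact hX.add_right hY)
          (fun e X hX => by rw [map_smul]; exact hX.smul_right e) X
      have h2 : b₀ ^ o * X * b₀' ^ o = X := hΦinj (by
        rw [h1, hcX.eq, mul_assoc, ← Commute.mul_pow (show Commute x x' from hxx.trans hx'x.symm), hxx,
          one_pow, mul_one])
      have h3 : b₀' ^ o * b₀ ^ o = 1 := by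
        rw [← Commute.mul_pow (show Commute b₀' b₀ from hb₀'.trans hb₀.symm), hb₀', one_pow]
      change b₀ ^ o * X = X * b₀ ^ o
      conv_rhs => rw [← h2]
      rw [mul_assoc, h3, mul_one]
    have hβ0 : β ≠ 0 := by
      rintro rfl
      rw [zero_smul] at hβ
      exact (IsUnit.pow o ⟨⟨b₀, b₀', hb₀, hb₀'⟩, rfl⟩ : IsUnit (b₀ ^ o)).ne_zero hβ
    obtain ⟨ν, hν⟩ := IsAlgClosed.exists_pow_nat_eq β ho.pos
    have hν0 : ν ≠ 0 := fun h0 => hβ0 (by rw [← hν, h0, zero_pow ho.ne_zero])
    let b₁ : Module.End E J := ν⁻¹ • b₀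
    let b₁' : Module.End E J := ν • b₀'
    have hb₁ : b₁ * b₁' = 1 := by simp [b₁, b₁', smul_mul_smul_comm, hb₀, hν0]
    have hb₁' : b₁' * b₁ = 1 := by simp [b₁, b₁', smul_mul_smul_comm, hb₀', hν0]
    have hb₁o : b₁ ^ o = 1 := by
      simp only [b₁, smul_pow, hβ, smul_smul, inv_pow, hν, inv_mul_cancel₀ hβ0, one_smul]
    have hconj₁ : ∀ X, Φ (b₁ * X * b₁') = x * Φ X * x' := fun X => by
      simp only [b₁, b₁', smul_mul_assoc, mul_smul_comm, smul_smul, mul_inv_cancel₀ hν0, inv_mul_cancel₀ hν0,
        one_smul]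
      exact hconj₀ X
    -- commuting with the intertwiner
    have hab : Commute b₁ a := by
      obtain ⟨k, hk⟩ := scalar_of_central (a' * b₁' * a * b₁) fun X => by
        have h1 : a * (b₁ * X * b₁') * a' = b₁ * (a * X * a') * b₁' := hΦinj (by
          rw [hS'', hconj₁, hconj₁, hS'', ← mul_assoc, ← mul_assoc, ← hxS.eq, mul_assoc _ x' (S ^ (r - 1)),
            (((show Commute x' S by rw [hx']; exact hxS.pow_left _).pow_right (r - 1))).eq]
          simp only [mul_assoc])
        have h2 := congrArg (fun Y => a' * b₁' * Y * (a * b₁)) h1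
        simp only [mul_assoc] at h2
        rw [← mul_assoc a' a, M.inv', one_mul, ← mul_assoc b₁' b₁, hb₁', one_mul, ← mul_assoc a' a, M.inv', one_mul] at h2
        change a' * b₁' * a * b₁ * X = X * (a' * b₁' * a * b₁)
        simp only [mul_assoc]
        rw [mul_one] at h2
        exact h2
      have hk' : a * b₁ = k • (b₁ * a) := by
        have h1 := congrArg (fun Y => b₁ * (a * Y)) hk
        simp only [mul_smul_comm, mul_one] at h1
        rw [← h1, mul_assoc a' b₁', mul_assoc a' (b₁' * a), ← mul_assoc a a', M.inv, one_mul, mul_assoc b₁' a,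
          ← mul_assoc b₁ b₁', hb₁, one_mul]
      have hk0 : k ≠ 0 := fun h0 => by
        rw [h0, zero_smul] at hk'
        exact (IsUnit.mul ⟨⟨a, a', M.inv, M.inv'⟩, rfl⟩ ⟨⟨b₁, b₁', hb₁, hb₁'⟩, rfl⟩ :
          IsUnit (a * b₁)).ne_zero hk'
      have hko : ∀ n : ℕ, a * b₁ ^ n = k ^ n • (b₁ ^ n * a) := by
        intro n
        induction n with
        | zero => simp
        | succ n ihn =>
          rw [pow_succ, ← mul_assoc, ihn, smul_mul_assoc, mul_assoc, hk', mul_smul_comm, smul_smul, ← pow_succ,
            ← mul_assoc, ← pow_succ]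
      have hkr : ∀ n : ℕ, a ^ n * b₁ = k ^ n • (b₁ * a ^ n) := by
        intro n
        induction n with
        | zero => simp
        | succ n ihn =>
          rw [pow_succ', mul_assoc, ihn, mul_smul_comm, ← mul_assoc, hk', smul_mul_assoc, smul_smul, mul_assoc b₁,
            ← pow_succ', ← pow_succ]
      have ha0 : a ≠ 0 := IsUnit.ne_zero (⟨⟨a, a', M.inv, M.inv'⟩, rfl⟩ : IsUnit a)
      have e1 : k ^ o = 1 := by
        have h1 := hko o
        rw [hb₁o, mul_one, one_mul] at h1
        exact (smul_left_injective E ha0 ((one_smul E a).trans h1)).symm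
      have e2 : k ^ r = 1 := by
        have h1 := hkr r
        rw [M.apow, smul_mul_assoc, one_mul, mul_smul_comm, mul_one] at h1
        have hb0 : b₁ ≠ 0 := IsUnit.ne_zero (⟨⟨b₁, b₁', hb₁, hb₁'⟩, rfl⟩ : IsUnit b₁)
        have h2 := smul_left_injective E hb0 (h1.trans (smul_smul (k ^ r) c b₁))
        exact (mul_right_cancel₀ M.cne (h2.symm.trans (one_mul c).symm))
      have e3 : k ^ Nat.gcd o r = 1 := pow_gcd_eq_one.mpr ⟨e1, e2⟩
      rw [(Nat.coprime_primes ho h.prime).mpr hor, pow_one] at e3
      rw [e3, one_smul] at hk'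
      exact hk'.symm
    -- all eigenvalues of the intertwiner occur
    have hu : 1 < Module.finrank E J := by
      by_contra hu
      have h1 : Module.finrank E J ^ 2 ≤ 1 := Nat.pow_le_one_iff (by norm_num) |>.mpr (by omega)
      rw [hcard] at h1
      haveI := Finite.card_le_one_iff_subsingleton.mp h1
      exact hg₁ (Subsingleton.elim _ _)
    obtain ⟨ι, _, eJ, lam, hlam, hlamr, hall⟩ := M.eigenbasis hn h hr hk hu
    have hall' : ∀ μ : E, μ ^ r = c → ∃ v : J, v ≠ 0 ∧ a v = μ • v := fun μ hμ => by
      obtain ⟨p, hp⟩ := (hall.resolve_right fun hh => hexc ⟨hh.1, by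
        rw [← hcard, ← hh.2, Nat.add_sub_cancel]⟩) μ hμ
      exact ⟨eJ p, eJ.ne_zero p, by rw [hlam, hp]⟩
    -- a block on which the element is scalar
    let S' : Module.End E W := Φ a' * S
    have hS : S = Φ a * S' := by
      simp only [S']
      rw [← mul_assoc, ← map_mul, M.inv, map_one, one_mul]
    have hS'X : ∀ X, S' * Φ X = Φ X * S' := fun X => by
      simp only [S']
      rw [mul_assoc, hrel, ← mul_assoc, ← map_mul, ← mul_assoc, ← mul_assoc, M.inv', one_mul, map_mul, mul_assoc]
    obtain ⟨μ, hμ⟩ := Module.End.exists_eigenvalue S'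
    obtain ⟨v, hv⟩ := hμ.exists_hasEigenvector
    have hSa' : S * Φ a' = Φ a' * S := by rw [hrel, M.inv, one_mul]
    have hμr : μ ^ r = c⁻¹ := by
      have h1 : ∀ n : ℕ, (S' ^ n) v = μ ^ n • v := by
        intro n
        induction n with
        | zero => simp
        | succ n ihn => rw [pow_succ', Module.End.mul_apply, ihn, map_smul, hv.apply_eq_smul, smul_smul, pow_succ]
      have h2 : S' ^ r = c⁻¹ • (1 : Module.End E W) := by
        rw [show S' ^ r = Φ a' ^ r * S ^ r from Commute.mul_pow hSa'.symm r, h.pow, mul_one, ← map_pow]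
        have h3 : a ^ r * a' ^ r = 1 := by
          rw [← Commute.mul_pow (show Commute a a' from M.inv.trans M.inv'.symm), M.inv, one_pow]
        rw [M.apow, smul_mul_assoc, one_mul] at h3
        have h4 : a' ^ r = c⁻¹ • (1 : Module.End E J) := by
          rw [← h3, smul_smul, inv_mul_cancel₀ M.cne, one_smul]
        rw [h4, map_smul, map_one]
      have h5 := h1 r
      rw [h2] at h5
      exact (smul_left_injective E hv.2 h5).symm
    have hμ0 : μ ≠ 0 := fun h0 => inv_ne_zero M.cne (by rw [← hμr, h0, zero_pow h.prime.ne_zero])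
    have hl₀ : μ⁻¹ ^ r = c := by rw [inv_pow, hμr, inv_inv]
    let x₁ : Module.End E W := Φ b₁' * x
    have hx₁ : x = Φ b₁ * x₁ := by
      simp only [x₁]
      rw [← mul_assoc, ← map_mul, hb₁, map_one, one_mul]
    have hx₁X : ∀ X, x₁ * Φ X = Φ X * x₁ := fun X => by
      simp only [x₁]
      have h1 : x * Φ X = Φ (b₁ * X * b₁') * x := by rw [hconj₁, mul_assoc, hx'x, mul_one]
      rw [mul_assoc, h1, ← mul_assoc, ← map_mul, ← mul_assoc, ← mul_assoc, hb₁', one_mul, map_mul, mul_assoc]
    have hscal : ∀ w ∈ Module.End.eigenspace a μ⁻¹, ∃ k : E, b₁ w = k • w := by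
      intro w hw
      rw [Module.End.mem_eigenspace_iff] at hw
      by_contra hno
      push Not at hno
      have hwm : w ∉ Submodule.span E {b₁ w} := by
        rw [Submodule.mem_span_singleton]
        rintro ⟨k, hk⟩
        rcases eq_or_ne k 0 with rfl | hk0
        · rw [zero_smul] at hk
          exact hno 0 (by rw [← hk, map_zero, smul_zero])
        · refine hno k⁻¹ ?_
          conv_rhs => arg 2; rw [← hk]
          rw [smul_smul, inv_mul_cancel₀ hk0, one_smul]
      obtain ⟨g, hg1, hg2⟩ := Submodule.exists_dual_map_eq_bot_of_notMem hwm inferInstance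
      have hgb : g (b₁ w) = 0 := by
        have h1 : g (b₁ w) ∈ (Submodule.span E {b₁ w}).map g :=
          Submodule.mem_map_of_mem (Submodule.subset_span rfl)
        rwa [hg2, Submodule.mem_bot] at h1
      have key : ∀ (f : J →ₗ[E] E) (u : J), Φ (f.smulRight u) v = 0 := by
        intro f u
        have hfix' : S (Φ (f.smulRight w) v) = Φ (f.smulRight w) v := by
          rw [hS, Module.End.mul_apply, ← Module.End.mul_apply S', hS'X, Module.End.mul_apply,
            hv.apply_eq_smul, map_smul, map_smul, ← Module.End.mul_apply (Φ a), ← map_mul]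
          have h1 : a * f.smulRight w = μ⁻¹ • f.smulRight w := LinearMap.ext fun j => by
            rw [Module.End.mul_apply, LinearMap.smulRight_apply, map_smul, hw, LinearMap.smul_apply,
              LinearMap.smulRight_apply, smul_comm]
          rw [h1, map_smul, LinearMap.smul_apply, smul_smul, mul_inv_cancel₀ hμ0, one_smul]
        have h2 := hfix _ hfix'
        have h3 : b₁ * f.smulRight w = f.smulRight (b₁ w) := LinearMap.ext fun j => by simp
        rw [hx₁, Module.End.mul_apply, ← Module.End.mul_apply x₁, hx₁X, Module.End.mul_apply,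
          ← Module.End.mul_apply (Φ b₁), ← map_mul, h3] at h2
        have h4 := congrArg (Φ (g.smulRight u)) h2
        rw [← Module.End.mul_apply (Φ (g.smulRight u)), ← map_mul,
          ← Module.End.mul_apply (Φ (g.smulRight u)), ← map_mul] at h4
        have h5 : ∀ z, g.smulRight u * f.smulRight z = g z • f.smulRight u := fun z => LinearMap.ext fun j => by
          simp [smul_smul, mul_comm]
        rw [h5, h5, hgb, zero_smul, map_zero, LinearMap.zero_apply, map_smul, LinearMap.smul_apply] at h4
        exact (smul_eq_zero.mp h4.symm).resolve_left hg1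
      refine hv.2 ?_
      let eb := Module.finBasis E J
      have hone : (1 : Module.End E J) = ∑ p, (eb.coord p).smulRight (eb p) := LinearMap.ext fun j => by
        simp [eb.sum_repr]
      have h6 : v = Φ 1 v := by rw [map_one]; rfl
      rw [h6, hone, map_sum, LinearMap.sum_apply]
      exact Finset.sum_eq_zero fun p _ => key _ _
    obtain ⟨k, hk'⟩ := scalar_on b₁ (Module.End.eigenspace a μ⁻¹) hscal
    obtain ⟨w₀, hw₀, hw₀a⟩ := hall' μ⁻¹ hl₀
    have hk0 : k ≠ 0 := fun h0 => by
      have h1 := congrArg b₁' (hk' w₀ (Module.End.mem_eigenspace_iff.mpr hw₀a))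
      rw [h0, zero_smul, map_zero, ← Module.End.mul_apply, hb₁'] at h1
      exact hw₀ h1
    have hko : k ^ o = 1 := by
      have h1 : ∀ n : ℕ, (b₁ ^ n) w₀ = k ^ n • w₀ := by
        intro n
        induction n with
        | zero => simp
        | succ n ihn => rw [pow_succ', Module.End.mul_apply, ihn, map_smul,
            hk' w₀ (Module.End.mem_eigenspace_iff.mpr hw₀a), smul_smul, pow_succ]
      have h2 := h1 o
      rw [hb₁o, Module.End.one_apply] at h2
      exact (smul_left_injective E hw₀ ((one_smul E w₀).trans h2)).symm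
    -- the data
    have hbar : Function.Injective bar := (injective_iff_map_eq_one _).mpr fun q hq => by
      obtain ⟨g, rfl⟩ := QuotientGroup.mk'_surjective (scal ρ) q
      obtain ⟨d, hd⟩ := (QuotientGroup.eq_one_iff (φ g)).mp hq
      refine (QuotientGroup.eq_one_iff g).mpr ⟨d, ?_⟩
      have h1 : x' * (x * ρ g * x') * x = ρ g := by
        rw [← mul_assoc, ← mul_assoc, hx'x, one_mul, mul_assoc, hx'x, mul_one]
      rw [← h1, ← hφ, hd, mul_smul_comm, mul_one, smul_mul_assoc, hx'x]
    have hbarσ : Function.Injective h.bar := (injective_iff_map_eq_one _).mpr fun q hq => by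
      obtain ⟨g, rfl⟩ := QuotientGroup.mk'_surjective (scal ρ) q
      obtain ⟨d, hd⟩ := (QuotientGroup.eq_one_iff (σ g)).mp hq
      refine (QuotientGroup.eq_one_iff g).mpr ⟨d, ?_⟩
      have h1 := h.rel g
      rw [hd, smul_mul_assoc, one_mul] at h1
      have h2 : S ^ (r - 1) * S = 1 := by rw [← pow_succ, Nat.sub_add_cancel h.prime.one_le, h.pow]
      calc ρ g = S ^ (r - 1) * S * ρ g := by rw [h2, one_mul]
        _ = d • (1 : Module.End E W) := by rw [mul_assoc, h1, mul_smul_comm, h2]
    let π : Equiv.Perm (N ⧸ scal ρ) :=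
      Equiv.ofBijective h.bar ⟨hbarσ, Finite.injective_iff_surjective.mp hbarσ⟩
    let πB : Equiv.Perm (N ⧸ scal ρ) := Equiv.ofBijective bar ⟨hbar, Finite.injective_iff_surjective.mp hbar⟩
    have hcomm : ∀ q, bar (h.bar q) = h.bar (bar q) := by
      intro q
      induction q using QuotientGroup.induction_on with
      | H g =>
        rw [h.bar_mk, barOf_mk, barOf_mk, h.bar_mk]
        refine mem_scal_of_eq ?_
        have hρσ : ∀ g, ρ (σ g) = S * ρ g * S ^ (r - 1) := fun g => by rw [h.rel, mul_assoc, h.cancel, mul_one]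
        rw [hφ, hρσ, hρσ, hφ, ← mul_assoc, ← mul_assoc, hxS.eq, mul_assoc _ (S ^ (r - 1)) x',
          ← (((show Commute x' S by rw [hx']; exact hxS.pow_left _).pow_right (r - 1))).eq]
        simp only [mul_assoc]
    have hzS : ∀ q : N ⧸ scal ρ, ∃ d : E, conjBy a a' (bb q) = d • bb (π q) := by
      intro q
      obtain ⟨z, ⟨d, hd⟩, hz'⟩ := exists_out ρ (σ q.out)
      have e1 : (QuotientGroup.mk (σ q.out) : N ⧸ scal ρ) = π q := by
        change _ = h.bar q
        rw [← h.bar_mk, QuotientGroup.out_eq']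
      refine ⟨d, ?_⟩
      rw [conjBy_apply, hbb, hbb, M.inter, mul_assoc, M.inv, mul_one, hz', map_mul, M.scalar z d hd, mul_smul_comm,
        mul_one, e1]
    let b : Module.End E J := k⁻¹ • b₁
    let b' : Module.End E J := k • b₁'
    have hbo : b ^ o = 1 := by simp only [b, smul_pow, hb₁o, inv_pow, hko, inv_one, one_smul]
    have hconj : ∀ X, Φ (b * X * b') = x * Φ X * x' := fun X => by
      simp only [b, b', smul_mul_assoc, mul_smul_comm, smul_smul, mul_inv_cancel₀ hk0, inv_mul_cancel₀ hk0,
        one_smul]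
      exact hconj₁ X
    have hzB : ∀ q : N ⧸ scal ρ, ∃ d : E, conjBy b b' (bb q) = d • bb (πB q) := by
      intro q
      obtain ⟨z, ⟨d, hd⟩, hz'⟩ := exists_out ρ (φ q.out)
      have e1 : (QuotientGroup.mk (φ q.out) : N ⧸ scal ρ) = πB q := by
        change _ = bar q
        rw [← barOf_mk hx hxx, QuotientGroup.out_eq']
      refine ⟨d, hΦinj ?_⟩
      rw [conjBy_apply, hconj, hbb, hbb, M.phi, map_smul, M.phi, ← hφ, hz', map_mul, hd, mul_smul_comm, mul_one,
        e1]
    choose cQ hcQ using hzS
    choose dQ hdQ using hzB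
    have hone : ∃ d : E, bb 1 = d • (1 : Module.End E J) := by
      obtain ⟨d, hd⟩ : (1 : N ⧸ scal ρ).out ∈ scal ρ :=
        (QuotientGroup.eq_one_iff _).mp (QuotientGroup.out_eq' _)
      exact ⟨d, by rw [hbb, M.scalar _ d hd]⟩
    obtain ⟨d₁, hd₁⟩ := hone
    have hbinv : b * b' = 1 := by simp [b, b', smul_mul_smul_comm, hb₁, hk0]
    have hbinv' : b' * b = 1 := by simp [b, b', smul_mul_smul_comm, hb₁', hk0]
    have hfix1 : ∀ (f f' : Module.End E J), f * f' = 1 → conjBy f f' (bb 1) = bb 1 := fun f f' hff => by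
      rw [conjBy_apply, hd₁, mul_smul_comm, mul_one, smul_mul_assoc, hff]
    have hpow : ∀ (f f' : Module.End E J) (n : ℕ) (X : Module.End E J),
        (conjBy f f' ^ n) X = f ^ n * X * f' ^ n := by
      intro f f' n X
      induction n with
      | zero => simp
      | succ n ihn =>
        rw [pow_succ', Module.End.mul_apply, ihn, conjBy_apply, pow_succ' f, pow_succ f']
        simp only [mul_assoc]
    have ha'r : a' ^ r = c⁻¹ • (1 : Module.End E J) := by
      have h3 : a ^ r * a' ^ r = 1 := by
        rw [← Commute.mul_pow (show Commute a a' from M.inv.trans M.inv'.symm), M.inv, one_pow]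
      rw [M.apow, smul_mul_assoc, one_mul] at h3
      rw [← h3, smul_smul, inv_mul_cancel₀ M.cne, one_smul]
    have hbo' : b' ^ o = 1 := by
      have h3 : b ^ o * b' ^ o = 1 := by
        rw [← Commute.mul_pow (show Commute b b' from hbinv.trans hbinv'.symm), hbinv, one_pow]
      rwa [hbo, one_mul] at h3
    have hcl : Classy bb a a' b b' c π πB cQ dQ r o 1 :=
      { inv := M.inv
        inv' := M.inv'
        apow := M.apow
        cne := M.cne
        binv := hbinv
        binv' := hbinv'
        bpow := hbo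
        comm := hab.smul_left k⁻¹
        oprime := ho
        rne := hr
        pair :=
          { prime := h.prime
            cop := (Nat.coprime_primes h.prime ho).mpr (Ne.symm hor)
            mapC := hcQ
            mapB := hdQ
            powC := LinearMap.ext fun X => by
              rw [hpow, M.apow, ha'r, smul_mul_assoc, one_mul, smul_mul_assoc, mul_smul_comm, mul_one, smul_smul,
                mul_inv_cancel₀ M.cne, one_smul]
              rfl
            powB := LinearMap.ext fun X => by rw [hpow, hbo, hbo', one_mul, mul_one]; rfl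
            comm := hcomm
            fix := fun q => ⟨fun hq => h.bar_fpf hn hq, fun hq => by rw [hq]; exact map_one h.bar⟩
            fixB := map_one bar
            c₁ := by
              have h1 := hcQ 1
              rw [hfix1 a a' M.inv, show π 1 = 1 from map_one h.bar] at h1
              exact (smul_left_injective E (bb.ne_zero 1) ((one_smul E (bb 1)).trans h1)).symm
            d₁ := by
              have h1 := hdQ 1
              rw [hfix1 b b' hbinv, show πB 1 = 1 from map_one bar] at h1
              exact (smul_left_injective E (bb.ne_zero 1) ((one_smul E (bb 1)).trans h1)).symm } }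
    obtain ⟨ho3, hcount⟩ := hcl.classify hall' hl₀ (fun w hw => by
      change k⁻¹ • b₁ w = w
      rw [hk' w (Module.End.mem_eigenspace_iff.mpr hw), smul_smul, inv_mul_cancel₀ hk0, one_smul]) hodd
      (q₀ := QuotientGroup.mk g₁) hg₁
    -- the index of the fixed classes
    let ψ : N ⧸ scal ρ →* N ⧸ scal ρ :=
      { toFun := fun q => q⁻¹ * bar q
        map_one' := by rw [inv_one, one_mul, map_one]
        map_mul' := fun q q' => by
          calc (q * q')⁻¹ * bar (q * q') = q'⁻¹ * (q⁻¹ * bar q) * bar q' := by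
                rw [map_mul, mul_inv_rev]; simp only [mul_assoc]
            _ = q⁻¹ * bar q * (q'⁻¹ * bar q') := by rw [hn.comm_quot q'⁻¹, mul_assoc] }
    have hker : Nat.card ψ.ker = (Finset.univ.filter fun q => πB q = q).card := by
      rw [← Fintype.card_subtype, ← Nat.card_eq_fintype_card]
      refine Nat.card_congr (Equiv.subtypeEquivRight fun q => ?_)
      rw [MonoidHom.mem_ker]
      change q⁻¹ * bar q = 1 ↔ bar q = q
      rw [inv_mul_eq_one]
      exact eq_comm
    have hprod : Nat.card ψ.range * Nat.card ψ.ker = Nat.card (N ⧸ scal ρ) := by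
      rw [Subgroup.card_eq_card_quotient_mul_card_subgroup ψ.ker,
        Nat.card_congr (QuotientGroup.quotientKerEquivRange ψ).toEquiv]
    have hle : Nat.card ψ.range ≤ 4 := by
      rw [← hker, ← Nat.card_eq_fintype_card, ← hprod] at hcount
      exact Nat.le_of_mul_le_mul_right hcount (Nat.card_pos)
    haveI : Nontrivial ψ.range := by
      refine nontrivial_of_ne ⟨ψ (QuotientGroup.mk g₁), _, rfl⟩ 1 fun h1 => hg₁ ?_
      exact ((inv_mul_eq_one).mp (congrArg Subtype.val h1)).symm
    obtain ⟨j, hj, hjt⟩ := (IsPGroup.nontrivial_iff_card ((hN.to_quotient (scal ρ)).to_subgroup ψ.range)).mp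
      inferInstance
    let πR : Equiv.Perm ψ.range := π.subtypePerm fun q => by
      refine ⟨?_, fun ⟨w, hw⟩ => ⟨h.bar w, ?_⟩⟩
      · intro hq
        obtain ⟨w, hw⟩ := hq
        refine ⟨π.symm w, hbarσ ?_⟩
        change h.bar ((π.symm w)⁻¹ * bar (π.symm w)) = h.bar q
        rw [map_mul, map_inv, ← hcomm]
        have h2 : h.bar (π.symm w) = w := π.apply_symm_apply w
        rw [h2]
        exact hw
      · change (h.bar w)⁻¹ * bar (h.bar w) = h.bar q
        rw [hcomm, ← map_inv, ← map_mul]
        exact congrArg h.bar hw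
    have hπr : πR ^ r ^ 1 = 1 := by
      rw [pow_one]
      refine Equiv.ext fun q => Subtype.ext ?_
      rw [Equiv.Perm.subtypePerm_pow, Equiv.Perm.subtypePerm_apply]
      exact perm_periodic hcl.pair.mapC hcl.pair.powC q
    haveI := Fact.mk h.prime
    have hmod := Equiv.Perm.card_compl_support_modEq hπr
    have hone : (πR.support)ᶜ = {1} := by
      ext q
      rw [Finset.mem_compl, Equiv.Perm.mem_support, not_not, Finset.mem_singleton, Subtype.ext_iff]
      exact ⟨fun hq => Subtype.ext (h.bar_fpf hn hq), fun hq => by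
        subst hq
        exact map_one h.bar⟩
    rw [hone, Finset.card_singleton, ← Nat.card_eq_fintype_card, hjt] at hmod
    rw [hjt] at hle
    have hdvd : r ∣ t ^ j - 1 :=
      (Nat.modEq_iff_dvd' (Nat.one_le_pow _ _ ht'.out.pos)).mp hmod
    have h2t : 2 ≤ t ^ j := by
      calc 2 ≤ t ^ 1 := by rw [pow_one]; exact ht'.out.two_le
        _ ≤ t ^ j := Nat.pow_le_pow_right ht'.out.pos hj
    have hr3 := Nat.le_of_dvd (by omega) hdvd
    have hr2 := h.prime.two_le
    rcases (show r = 2 ∨ r = 3 by omega) with rfl | rfl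
    · have h4 : t ^ j = 3 := by omega
      have h5 : t ∣ 3 := h4 ▸ dvd_pow_self t hj.ne'
      exact hot (ho3.trans ((Nat.prime_dvd_prime_iff_eq ht'.out Nat.prime_three).mp h5).symm) rfl
    · exact hor ho3

end Cfsg.Agent.Turull
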