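import Cfsg.Agent.HallHigman.Critical
import Cfsg.Agent.Turull.Eigen

/-!
Groups of operators that commute up to scalars and whose centre is scalar.
-/

set_option autoImplicit false

namespace Cfsg.Agent.Turull

open Module

variable {E : Type*} [Field E] {W : Type*} [AddCommGroup W] [Module E W] {N : Type*} [Group N]

/-- Commuting up to scalars, with scalar centre. -/
structure Nondeg (ρ : N →* Module.End E W) : Prop where
  comm : ∀ g h, ∃ c : E, ρ g * ρ h = c • (ρ h * ρ g)
  center : ∀ g, (∀ h, Commute (ρ g) (ρ h)) → ∃ c : E, ρ g = c • (1 : Module.End E W)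

variable {ρ : N →* Module.End E W}

theorem rho_cancel (ρ : N →* Module.End E W) (g : N) : ρ g * ρ g⁻¹ = 1 := by
  rw [← map_mul, mul_inv_cancel, map_one]

theorem rho_cancel' (ρ : N →* Module.End E W) (g : N) : ρ g⁻¹ * ρ g = 1 := by
  rw [← map_mul, inv_mul_cancel, map_one]

theorem rho_ne_zero [Nontrivial W] (ρ : N →* Module.End E W) (g : N) : ρ g ≠ 0 := fun h => by
  have h1 := rho_cancel ρ g
  rw [h, zero_mul] at h1
  exact zero_ne_one h1

/-- The elements acting as scalars. -/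
def scal (ρ : N →* Module.End E W) : Subgroup N where
  carrier := {g | ∃ c : E, ρ g = c • (1 : Module.End E W)}
  one_mem' := ⟨1, by simp⟩
  mul_mem' := by
    rintro g h ⟨c, hc⟩ ⟨d, hd⟩
    exact ⟨c * d, by rw [map_mul, hc, hd, smul_mul_smul_comm, one_mul]⟩
  inv_mem' := by
    rintro g ⟨c, hc⟩
    refine ⟨c⁻¹, ?_⟩
    have h1 := rho_cancel' ρ g
    rw [hc, mul_smul_comm, mul_one] at h1
    rcases eq_or_ne c 0 with rfl | hc0
    · rw [zero_smul] at h1
      haveI := subsingleton_of_zero_eq_one h1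
      exact Subsingleton.elim _ _
    · rw [← h1, smul_smul, inv_mul_cancel₀ hc0, one_smul]

theorem mem_scal {g : N} : g ∈ scal ρ ↔ ∃ c : E, ρ g = c • (1 : Module.End E W) := Iff.rfl

instance scal_normal (ρ : N →* Module.End E W) : (scal ρ).Normal := by
  refine ⟨?_⟩
  rintro g ⟨c, hc⟩ h
  exact ⟨c, by rw [map_mul, map_mul, hc, mul_smul_comm, mul_one, smul_mul_assoc, rho_cancel]⟩

/-- A representative and the element differ by a scalar. -/
theorem exists_out (ρ : N →* Module.End E W) (g : N) :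
    ∃ z ∈ scal ρ, g = (QuotientGroup.mk g : N ⧸ scal ρ).out * z := by
  obtain ⟨z, hz⟩ := QuotientGroup.mk_out_eq_mul (scal ρ) g
  exact ⟨(z : N)⁻¹, inv_mem z.2, by rw [hz, mul_inv_cancel_right]⟩

theorem Nondeg.mem_scal_of_comm (hn : Nondeg ρ) [Nontrivial W] {g : N}
    (h : ∀ k, ∀ c : E, ρ g * ρ k = c • (ρ k * ρ g) → c = 1) : g ∈ scal ρ := by
  refine hn.center g fun k => ?_
  obtain ⟨c, hc⟩ := hn.comm g k
  rw [h k c hc, one_smul] at hc
  exact hc

theorem Nondeg.indep (hn : Nondeg ρ) [Nontrivial W] :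
    LinearIndependent E (fun q : N ⧸ scal ρ => ρ q.out) := by
  classical
  choose χ hχ using fun g h => hn.comm g h
  let F : N → Module.End E (Module.End E W) := fun h =>
    (LinearMap.mulLeft E (ρ h)).comp (LinearMap.mulRight E (ρ h⁻¹))
  refine indep_of_chars F _ (fun q h => χ h q.out) (fun q => rho_ne_zero ρ _) ?_ ?_
  · intro q h
    simp only [F, LinearMap.comp_apply, LinearMap.mulLeft_apply, LinearMap.mulRight_apply]
    rw [← mul_assoc, hχ h q.out, smul_mul_assoc, mul_assoc, rho_cancel, mul_one]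
  · intro q q' he
    have hmem : q.out⁻¹ * q'.out ∈ scal ρ := by
      refine hn.center _ fun h => ?_
      have e1 := hχ h q.out
      have e2 := hχ h q'.out
      rw [show χ h q'.out = χ h q.out from (congrFun he h).symm] at e2
      have hc0 : χ h q.out ≠ 0 := fun h0 => by
        rw [h0, zero_smul, ← map_mul] at e1
        exact rho_ne_zero ρ _ e1
      show ρ (q.out⁻¹ * q'.out) * ρ h = ρ h * ρ (q.out⁻¹ * q'.out)
      have e3 : ρ h * ρ q.out⁻¹ = (χ h q.out)⁻¹ • (ρ q.out⁻¹ * ρ h) := by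
        have e4 : ρ q.out⁻¹ * ρ h = χ h q.out • (ρ h * ρ q.out⁻¹) := by
          calc ρ q.out⁻¹ * ρ h = ρ q.out⁻¹ * (ρ h * ρ q.out) * ρ q.out⁻¹ := by
                rw [mul_assoc, mul_assoc (ρ h), rho_cancel, mul_one]
            _ = χ h q.out • (ρ h * ρ q.out⁻¹) := by
                rw [e1, mul_smul_comm, ← mul_assoc, rho_cancel', one_mul, smul_mul_assoc]
        rw [e4, smul_smul, inv_mul_cancel₀ hc0, one_smul]
      calc ρ (q.out⁻¹ * q'.out) * ρ h = ρ q.out⁻¹ * (ρ q'.out * ρ h) := by rw [map_mul, mul_assoc]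
        _ = (χ h q.out)⁻¹ • (ρ q.out⁻¹ * (ρ h * ρ q'.out)) := by
            rw [e2, mul_smul_comm, smul_smul, inv_mul_cancel₀ hc0, one_smul]
        _ = ρ h * ρ (q.out⁻¹ * q'.out) := by
            rw [map_mul, ← mul_assoc, ← mul_assoc, e3, smul_mul_assoc]
    have h1 := (QuotientGroup.eq (s := scal ρ)).mpr hmem
    rwa [QuotientGroup.out_eq', QuotientGroup.out_eq'] at h1

/-- The algebra of the operators. -/
def spanAlg (ρ : N →* Module.End E W) : Subalgebra E (Module.End E W) :=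
  Algebra.adjoin E (Set.range ρ)

theorem rho_mem_spanAlg (ρ : N →* Module.End E W) (g : N) : ρ g ∈ spanAlg ρ :=
  Algebra.subset_adjoin ⟨g, rfl⟩

theorem spanAlg_le (ρ : N →* Module.End E W) :
    Subalgebra.toSubmodule (spanAlg ρ) ≤ Submodule.span E (Set.range fun q : N ⧸ scal ρ => ρ q.out) := by
  rw [spanAlg, Algebra.adjoin_eq_span, Submodule.span_le]
  intro X hX
  have h1 : X ∈ MonoidHom.mrange ρ :=
    (Submonoid.closure_le (S := MonoidHom.mrange ρ)).mpr (fun y hy => hy) hX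
  obtain ⟨g, rfl⟩ := h1
  obtain ⟨z, ⟨c, hc⟩, hg⟩ := exists_out ρ g
  rw [hg, map_mul, hc, mul_smul_comm, mul_one]
  exact Submodule.smul_mem _ _ (Submodule.subset_span ⟨_, rfl⟩)

variable (ρ) in
/-- The restriction to an invariant subspace. -/
noncomputable def res (J : Submodule E W) (hJ : ∀ g, ∀ v ∈ J, ρ g v ∈ J) : N →* Module.End E J where
  toFun g := (ρ g).restrict (hJ g)
  map_one' := LinearMap.ext fun v => Subtype.ext (by rw [LinearMap.coe_restrict_apply, map_one]; rfl)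
  map_mul' g h := LinearMap.ext fun v => Subtype.ext (by rw [LinearMap.coe_restrict_apply, map_mul]; rfl)

theorem res_apply {J : Submodule E W} (hJ : ∀ g, ∀ v ∈ J, ρ g v ∈ J) (g : N) (v : J) :
    ((res ρ J hJ g v : J) : W) = ρ g v := rfl

theorem res_smul_one {J : Submodule E W} (hJ : ∀ g, ∀ v ∈ J, ρ g v ∈ J) {g : N} {c : E}
    (h : ρ g = c • (1 : Module.End E W)) : res ρ J hJ g = c • (1 : Module.End E J) := by
  refine LinearMap.ext fun v => Subtype.ext ?_
  rw [res_apply, h]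
  rfl

theorem Nondeg.res (hn : Nondeg ρ) {J : Submodule E W} (hJ : ∀ g, ∀ v ∈ J, ρ g v ∈ J) (hJ0 : J ≠ ⊥) :
    Nondeg (Turull.res ρ J hJ) ∧ scal (Turull.res ρ J hJ) = scal ρ := by
  obtain ⟨v, hvJ, hv0⟩ := Submodule.exists_mem_ne_zero_of_ne_bot hJ0
  haveI : Nontrivial W := nontrivial_of_ne v 0 hv0
  have hc : ∀ g h, ∀ c : E, ρ g * ρ h = c • (ρ h * ρ g) → Commute (Turull.res ρ J hJ g) (Turull.res ρ J hJ h) →
      c = 1 := by
    intro g h c hgh hcm
    have h1 : ρ g (ρ h v) = ρ h (ρ g v) := congrArg Subtype.val (LinearMap.congr_fun hcm.eq ⟨v, hvJ⟩)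
    have h2 : ρ g (ρ h v) = c • ρ h (ρ g v) := LinearMap.congr_fun hgh v
    have h3 : ρ h (ρ g v) ≠ 0 := fun h0 => hv0 (by
      have h4 : ρ (h * g)⁻¹ (ρ (h * g) v) = v := by
        rw [← Module.End.mul_apply, rho_cancel', Module.End.one_apply]
      rw [map_mul ρ h g, Module.End.mul_apply, h0, map_zero] at h4
      exact h4.symm)
    have h5 : (c - 1) • ρ h (ρ g v) = 0 := by rw [sub_smul, one_smul, ← h2, h1, sub_self]
    exact sub_eq_zero.mp ((smul_eq_zero.mp h5).resolve_right h3)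
  have hs : ∀ g, (∀ h, Commute (Turull.res ρ J hJ g) (Turull.res ρ J hJ h)) → g ∈ scal ρ := fun g hg =>
    hn.mem_scal_of_comm fun h c hgh => hc g h c hgh (hg h)
  refine ⟨⟨fun g h => ?_, fun g hg => ?_⟩, le_antisymm (fun g hg => ?_) (fun g hg => ?_)⟩
  · obtain ⟨c, hgh⟩ := hn.comm g h
    refine ⟨c, LinearMap.ext fun w => Subtype.ext ?_⟩
    exact LinearMap.congr_fun hgh (w : W)
  · obtain ⟨c, hc'⟩ := hs g hg
    exact ⟨c, res_smul_one hJ hc'⟩
  · obtain ⟨c, hc'⟩ := hg
    refine hs g fun h => ?_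
    rw [hc']
    exact ((Commute.one_left _).smul_left c)
  · obtain ⟨c, hc'⟩ := hg
    exact ⟨c, res_smul_one hJ hc'⟩

/-- The operators span a matrix algebra. -/
theorem Nondeg.exists_model [IsAlgClosed E] [FiniteDimensional E W] [Nontrivial W] [Finite N]
    {t : ℕ} [Fact t.Prime] (hN : IsPGroup t N) (ht : (t : E) ≠ 0) (hn : Nondeg ρ) :
    ∃ (J : Submodule E W) (hJ : ∀ g, ∀ v ∈ J, ρ g v ∈ J), J ≠ ⊥ ∧
      HallHigman.Irred (Turull.res ρ J hJ) ∧
      (∃ k : ℕ, Module.finrank E J = t ^ k) ∧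
      Module.finrank E J ^ 2 = Nat.card (N ⧸ scal ρ) ∧
      (∀ X : Module.End E J, X ∈ Submodule.span E (Set.range fun q : N ⧸ scal ρ => Turull.res ρ J hJ q.out)) ∧
      ∃ Φ : Module.End E J →ₐ[E] Module.End E W, ∀ g, Φ (Turull.res ρ J hJ g) = ρ g := by
  classical
  obtain ⟨J, ⟨hJ, hJ0⟩, hmin⟩ := wellFounded_lt.has_min
    {J : Submodule E W | (∀ g, ∀ v ∈ J, ρ g v ∈ J) ∧ J ≠ ⊥}
    ⟨⊤, fun _ _ _ => Submodule.mem_top, top_ne_bot⟩
  haveI : Nontrivial J := Submodule.nontrivial_iff_ne_bot.mpr hJ0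
  set τ := Turull.res ρ J hJ with hτ
  have hirr : HallHigman.Irred τ := by
    intro U hU
    by_contra hcon
    push Not at hcon
    refine hmin (U.map J.subtype) ⟨?_, ?_⟩ ?_
    · rintro g _ ⟨u, hu, rfl⟩
      exact ⟨τ g u, hU g u hu, rfl⟩
    · intro h
      exact hcon.1 (Submodule.map_injective_of_injective J.injective_subtype (h.trans (Submodule.map_bot _).symm))
    · refine lt_of_le_of_ne (Submodule.map_subtype_le _ _) fun he => hcon.2 ?_
      exact Submodule.map_injective_of_injective J.injective_subtype (he.trans (Submodule.map_subtype_top J).symm)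
  obtain ⟨k, hk⟩ := HallHigman.finrank_eq_pow (Nat.card N) N hN le_rfl J τ hirr
  obtain ⟨hnJ, hsc⟩ := hn.res hJ hJ0
  have hind : LinearIndependent E (fun q : N ⧸ scal ρ => τ q.out) := by
    have := hnJ.indep
    rw [hsc] at this
    exact this
  have hspan : ∀ X : Module.End E J, X ∈ Submodule.span E (Set.range fun q : N ⧸ scal ρ => τ q.out) := by
    intro X
    letI := Fintype.ofFinite N
    have hd : (Module.finrank E J : E) ≠ 0 := by rw [hk, Nat.cast_pow]; exact pow_ne_zero _ ht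
    have hcard : (Fintype.card N : E) ≠ 0 := by
      obtain ⟨m, hm⟩ := IsPGroup.iff_card.mp hN
      rw [← Nat.card_eq_fintype_card, hm, Nat.cast_pow]
      exact pow_ne_zero _ ht
    have h1 := HallHigman.sum_trace_smul hirr hd X
    rw [← Submodule.smul_mem_iff _ (div_ne_zero hcard hd), ← h1]
    refine Submodule.sum_mem _ fun g _ => Submodule.smul_mem _ _ ?_
    obtain ⟨z, ⟨c, hc⟩, hg⟩ := exists_out ρ g
    rw [hg, map_mul, res_smul_one hJ hc, mul_smul_comm, mul_one]
    exact Submodule.smul_mem _ _ (Submodule.subset_span ⟨_, rfl⟩)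
  haveI : Fintype (N ⧸ scal ρ) := Fintype.ofFinite _
  have hcard : Module.finrank E J ^ 2 = Nat.card (N ⧸ scal ρ) := by
    let bb := Basis.mk hind (fun X _ => hspan X)
    rw [Nat.card_eq_fintype_card, ← Module.finrank_eq_card_basis bb, Module.finrank_linearMap, sq]
  refine ⟨J, hJ, hJ0, hirr, ⟨k, hk⟩, hcard, hspan, ?_⟩
  have hAJ : ∀ X ∈ spanAlg ρ, ∀ v ∈ J, X v ∈ J := by
    intro X hX
    refine Algebra.adjoin_induction (fun Y hY => ?_) (fun c => ?_) (fun Y Z _ _ hY hZ => ?_)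
      (fun Y Z _ _ hY hZ => ?_) hX
    · obtain ⟨g, rfl⟩ := hY
      exact hJ g
    · intro v hv
      simpa using J.smul_mem c hv
    · intro v hv
      exact J.add_mem (hY v hv) (hZ v hv)
    · intro v hv
      exact hY _ (hZ v hv)
  let R : spanAlg ρ →ₐ[E] Module.End E J :=
    { toFun := fun X => (X : Module.End E W).restrict (hAJ X X.2)
      map_one' := LinearMap.ext fun v => Subtype.ext rfl
      map_mul' := fun X Y => LinearMap.ext fun v => Subtype.ext rfl
      map_zero' := LinearMap.ext fun v => Subtype.ext rfl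
      map_add' := fun X Y => LinearMap.ext fun v => Subtype.ext rfl
      commutes' := fun c => LinearMap.ext fun v => Subtype.ext rfl }
  have hRρ : ∀ g, R ⟨ρ g, rho_mem_spanAlg ρ g⟩ = τ g := fun g => rfl
  have hsurj : Function.Surjective R := by
    intro X
    have h1 : X ∈ R.range.toSubmodule := by
      refine Submodule.span_le.mpr ?_ (hspan X)
      rintro _ ⟨q, rfl⟩
      exact ⟨_, hRρ q.out⟩
    exact h1
  have hinj : Function.Injective R := by
    rw [injective_iff_map_eq_zero]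
    intro X hX
    obtain ⟨c, hc⟩ := Submodule.mem_span_range_iff_exists_fun E |>.mp (spanAlg_le ρ X.2)
    have h1 : X = ∑ q, c q • (⟨ρ q.out, rho_mem_spanAlg ρ _⟩ : spanAlg ρ) := by
      refine Subtype.ext ?_
      rw [← hc]
      push_cast
      rfl
    rw [h1, map_sum] at hX
    simp only [map_smul, hRρ] at hX
    have h2 := Fintype.linearIndependent_iff.mp hind c hX
    rw [h1]
    exact Finset.sum_eq_zero fun q _ => by rw [h2 q, zero_smul]
  let e := AlgEquiv.ofBijective R ⟨hinj, hsurj⟩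
  refine ⟨(spanAlg ρ).val.comp e.symm.toAlgHom, fun g => ?_⟩
  rw [AlgHom.comp_apply, show τ g = e ⟨ρ g, rho_mem_spanAlg ρ g⟩ from (hRρ g).symm]
  simp

end Cfsg.Agent.Turull
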