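import Cfsg.Agent.Turull.Dichotomy

/-!
An operator commuting with a group of class two and with an operator of prime order normalising it
vanishes if it kills the fixed points.
-/

set_option autoImplicit false
set_option maxHeartbeats 1000000

namespace Cfsg.Agent.Turull

open Module

variable {E : Type*} [Field E] {W : Type*} [AddCommGroup W] [Module E W] {N : Type*} [Group N]
variable {ρ : N →* Module.End E W} {σ : N ≃* N} {S T : Module.End E W} {r : ℕ}

theorem rel_iterate (hrel : ∀ g, S * ρ g = ρ (σ g) * S) (k : ℕ) (g : N) :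
    S ^ k * ρ g = ρ (σ^[k] g) * S ^ k := by
  induction k generalizing g with
  | zero => simp
  | succ k ih =>
    rw [pow_succ', mul_assoc, ih, ← mul_assoc, hrel, mul_assoc, Function.iterate_succ_apply']

theorem rho_iterate_r (hrel : ∀ g, S * ρ g = ρ (σ g) * S) (hS : S ^ r = 1) (g : N) :
    ρ (σ^[r] g) = ρ g := by
  have h1 := rel_iterate hrel r g
  rw [hS, one_mul, mul_one] at h1
  exact h1.symm

/-- Regular orbits: the fixed points see everything that moved weights carry. -/
theorem orbit_kill (hr : r.Prime) (hS : S ^ r = 1) (hrel : ∀ g, S * ρ g = ρ (σ g) * S)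
    {A : Subgroup N} (hA : ∀ a ∈ A, σ a ∈ A) {U : Submodule E W}
    (hUA : ∀ a ∈ A, ∀ u ∈ U, ρ a u ∈ U) (hUS : ∀ u ∈ U, S u ∈ U)
    (hTU : ∀ u ∈ U, T u ∈ U) (hT : ∀ a ∈ A, ∀ u ∈ U, T (ρ a u) = ρ a (T u))
    (hTS : ∀ u ∈ U, T (S u) = S (T u))
    (hAc : ∀ a ∈ A, ∀ b ∈ A, ∀ u ∈ U, ρ a (ρ b u) = ρ b (ρ a u))
    (hfpf : ∀ u ∈ U, (∀ b ∈ A, ρ (σ b) u = ρ b u) → u = 0)
    (hfix : ∀ u ∈ U, S u = u → T u = 0) {u : W} (hu : u ∈ U) : T u = 0 := by
  classical
  have hAk : ∀ k, ∀ a ∈ A, σ^[k] a ∈ A := by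
    intro k
    induction k with
    | zero => exact fun a ha => ha
    | succ k ih => intro a ha; rw [Function.iterate_succ_apply']; exact hA _ (ih a ha)
  have hSk : ∀ k, ∀ v ∈ U, (S ^ k) v ∈ U := by
    intro k
    induction k with
    | zero => exact fun v hv => by simpa using hv
    | succ k ih => intro v hv; rw [pow_succ', Module.End.mul_apply]; exact hUS _ (ih v hv)
  have hfpfk : ∀ j, 0 < j → j < r → ∀ w ∈ U, (∀ b ∈ A, ρ (σ^[j] b) w = ρ b w) → w = 0 := by
    intro j hj hjr w hw hwj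
    refine hfpf w hw fun b hb => ?_
    have hcop : Nat.Coprime j r := (Nat.coprime_of_lt_prime (by omega) hjr hr).symm
    obtain ⟨i, hi⟩ := Nat.exists_mul_mod_eq_one_of_coprime hcop hr.one_lt |>.imp fun _ h => h.2
    have hmul : ∀ i : ℕ, ∀ b ∈ A, ρ (σ^[j * i] b) w = ρ b w := by
      intro i
      induction i with
      | zero => intro b _; simp
      | succ i ih =>
        intro b hb
        rw [Nat.mul_succ, Function.iterate_add_apply, ih _ (hAk _ b hb), hwj b hb]
    have hmod : ∀ m : ℕ, ∀ b : N, ρ (σ^[1 + r * m] b) = ρ (σ b) := by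
      intro m
      induction m with
      | zero => intro b; simp
      | succ m ih =>
        intro b
        rw [Nat.mul_succ, ← Nat.add_assoc, Nat.add_comm (1 + r * m) r, Function.iterate_add_apply,
          rho_iterate_r hrel hS, ih]
    rw [← hmul i b hb, ← Nat.mod_add_div (j * i) r, hi, hmod]
  have key : ∀ s : Finset ℕ, (∀ i ∈ s, i < r ∧ i ≠ 0) → ∀ w : ℕ → W, (∀ i, w i ∈ U) →
      (∀ a ∈ A, ∑ i ∈ insert 0 s, ρ (σ^[i] a) (w i) = 0) → w 0 = 0 := by
    intro s
    induction s using Finset.induction_on with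
    | empty =>
      intro _ w _ h
      have h1 := h 1 A.one_mem
      simpa using h1
    | insert j s hjs ih =>
      intro hs w hw h
      have hj := hs j (Finset.mem_insert_self _ _)
      refine hfpfk j (Nat.pos_of_ne_zero hj.2) hj.1 (w 0) (hw 0) fun b hb => ?_
      let w' : ℕ → W := fun i => ρ (σ^[i] b) (w i) - ρ (σ^[j] b) (w i)
      have h1 := ih (fun i hi => hs i (Finset.mem_insert_of_mem hi)) w'
        (fun i => U.sub_mem (hUA _ (hAk _ b hb) _ (hw i)) (hUA _ (hAk _ b hb) _ (hw i)))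
        (fun a ha => ?_)
      · have h2 : ρ b (w 0) - ρ (σ^[j] b) (w 0) = 0 := h1
        exact (sub_eq_zero.mp h2).symm
      · have e1 : ∑ i ∈ insert 0 (insert j s), ρ (σ^[i] a) (w' i) = 0 := by
          have e2 : ∀ i, ρ (σ^[i] a) (w' i) = ρ (σ^[i] (a * b)) (w i) - ρ (σ^[j] b) (ρ (σ^[i] a) (w i)) := by
            intro i
            simp only [w', map_sub]
            rw [iterate_map_mul, map_mul, Module.End.mul_apply,
              hAc _ (hAk i a ha) _ (hAk j b hb) _ (hw i)]
          rw [Finset.sum_congr rfl fun i _ => e2 i, Finset.sum_sub_distrib, ← map_sum,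
            h _ (A.mul_mem ha hb), h a ha, map_zero, sub_zero]
        rw [Finset.insert_comm, Finset.sum_insert (by simp [hjs, hj.2])] at e1
        have e3 : w' j = 0 := sub_self _
        rwa [e3, map_zero, zero_add] at e1
  have hr1 : r - 1 + 1 = r := Nat.sub_add_cancel hr.one_le
  have hins : insert 0 ((Finset.range r).erase 0) = Finset.range r :=
    Finset.insert_erase (Finset.mem_range.mpr hr.pos)
  have h0 := key ((Finset.range r).erase 0)
    (fun i hi => ⟨Finset.mem_range.mp (Finset.mem_of_mem_erase hi), Finset.ne_of_mem_erase hi⟩)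
    (fun i => T ((S ^ i) u)) (fun i => hTU _ (hSk i u hu)) ?_
  · simpa using h0
  intro a ha
  rw [hins]
  set y := ∑ i ∈ Finset.range r, ρ (σ^[i] a) ((S ^ i) u) with hy
  have hyU : y ∈ U := U.sum_mem fun i _ => hUA _ (hAk _ a ha) _ (hSk i u hu)
  have hSy : S y = y := by
    rw [hy, map_sum]
    have e1 : ∀ i, S (ρ (σ^[i] a) ((S ^ i) u)) = ρ (σ^[i + 1] a) ((S ^ (i + 1)) u) := fun i => by
      rw [← Module.End.mul_apply, hrel, Module.End.mul_apply, Function.iterate_succ_apply',
        pow_succ' S, Module.End.mul_apply]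
    rw [Finset.sum_congr rfl fun i _ => e1 i]
    have e2 := Finset.sum_range_succ' (fun i => ρ (σ^[i] a) ((S ^ i) u)) r
    rw [Finset.sum_range_succ] at e2
    have e3 : ρ (σ^[r] a) ((S ^ r) u) = ρ (σ^[0] a) ((S ^ 0) u) := by
      rw [hS, rho_iterate_r hrel hS]
      rfl
    rw [e3] at e2
    exact (add_right_cancel e2).symm
  have h1 := hfix y hyU hSy
  rw [hy, map_sum] at h1
  rw [← h1]
  exact Finset.sum_congr rfl fun i _ => (hT _ (hAk _ a ha) _ (hSk i u hu)).symm

end Cfsg.Agent.Turull
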