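import Cfsg.Agent.Turull.Family
import Cfsg.Agent.Turull.Rad

/-!
Fixed elements that act nontrivially on the moved part propagate up the tower.
-/

set_option autoImplicit false
set_option maxHeartbeats 1000000

open Subgroup
open scoped commutatorElement

namespace Cfsg.Agent.Turull

universe u

variable {Γ : Type u} [Group Γ] [Finite Γ] {s : Γ} {r : ℕ} {G₀ : Subgroup Γ} {m : ℕ}
  {P D Y : ℕ → Subgroup Γ} {q : ℕ → ℕ} {k : ℕ}

theorem Tw.movedSub_top_map (w : Tw s r G₀ m P D Y q k) {i : ℕ} (hi : i ≤ m) :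
    (movedSub (conjOn (P i) (w.lay.invP i hi).1) ⊤).map (P i).subtype = ⁅P i, zpowers s⁆ := by
  have htop : (⊤ : Subgroup (P i)).map (P i).subtype = P i := by
    rw [← MonoidHom.range_eq_map, Subgroup.range_subtype]
  rw [map_movedSub, htop]
  rw [htop]
  exact (w.lay.invP i hi).1

theorem Tw.moved_top_idem (w : Tw s r G₀ m P D Y q k) {i : ℕ} (hi : i ≤ m) :
    movedSub (conjOn (P i) (w.lay.invP i hi).1) (movedSub (conjOn (P i) (w.lay.invP i hi).1) ⊤) =
      movedSub (conjOn (P i) (w.lay.invP i hi).1) ⊤ := by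
  have htop : (⊤ : Subgroup (P i)).map (P i).subtype = P i := by
    rw [← MonoidHom.range_eq_map, Subgroup.range_subtype]
  refine movedSub_idem _ _ ?_ ?_
  · rw [htop]; exact (w.lay.invP i hi).1
  · rw [htop]; exact w.coprime_s hi le_rfl

theorem Tw.moved_Y_idem (w : Tw s r G₀ m P D Y q k) {i : ℕ} (hi : i ≤ m) :
    movedSub (conjOn (P i) (w.lay.invP i hi).1)
        (movedSub (conjOn (P i) (w.lay.invP i hi).1) ((Y i).subgroupOf (P i))) =
      movedSub (conjOn (P i) (w.lay.invP i hi).1) ((Y i).subgroupOf (P i)) := by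
  have hY : ((Y i).subgroupOf (P i)).map (P i).subtype = Y i := map_subgroupOf_eq_of_le (w.lay.le i hi).2.1
  refine movedSub_idem _ _ ?_ ?_
  · rw [hY]; exact (w.lay.invY i hi).1
  · rw [hY]; exact w.coprime_s hi (w.lay.le i hi).2.1

section rep

variable {i : ℕ} {M : Type u} [AddCommGroup M] [Module (ZMod (q (i + 1))) M]

/-- The action of a layer on the next section. -/
def Tw.act (w : Tw s r G₀ m P D Y q k) (hi : i < m) (ξ : SecRep (P (i + 1)) (Y (i + 1)) (q (i + 1)) M) :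
    P i →* Module.End (ZMod (q (i + 1))) M :=
  ξ.rep.comp (Subgroup.inclusion (w.le_nrm hi (Nat.lt_succ_self i)))

theorem Tw.act_eq (w : Tw s r G₀ m P D Y q k) (hi : i < m) (ξ : SecRep (P (i + 1)) (Y (i + 1)) (q (i + 1)) M)
    (g : P i) : w.act hi ξ g = ξ.rep ⟨g, w.le_nrm hi (Nat.lt_succ_self i) g.2⟩ := rfl

theorem Tw.act_D (w : Tw s r G₀ m P D Y q k) (hi : i < m) (ξ : SecRep (P (i + 1)) (Y (i + 1)) (q (i + 1)) M)
    (g : P i) (hg : (g : Γ) ∈ D i) : w.act hi ξ g = 1 := by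
  rw [w.act_eq, ξ.rep_eq_one_iff]
  exact (w.trivial_iff hi g.2).mpr hg

theorem Tw.act_rel (w : Tw s r G₀ m P D Y q k) (hi : i < m) (ξ : SecRep (P (i + 1)) (Y (i + 1)) (q (i + 1)) M)
    (g : P i) : ξ.rep ⟨s, w.s_mem_nrm hi⟩ * w.act hi ξ g =
      w.act hi ξ (conjOn (P i) (w.lay.invP i hi.le).1 g) * ξ.rep ⟨s, w.s_mem_nrm hi⟩ := by
  rw [w.act_eq, w.act_eq, ← map_mul, ← map_mul]
  refine congrArg ξ.rep (Subtype.ext ?_)
  simp [conjOn_apply]

theorem Tw.s_pow (w : Tw s r G₀ m P D Y q k) (hi : i < m) (ξ : SecRep (P (i + 1)) (Y (i + 1)) (q (i + 1)) M) :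
    ξ.rep ⟨s, w.s_mem_nrm hi⟩ ^ r = 1 := by
  rw [← map_pow, show (⟨s, w.s_mem_nrm hi⟩ : nrm P Y (i + 1)) ^ r = 1 from Subtype.ext w.ctx.pow, map_one]

theorem Tw.act_cent (w : Tw s r G₀ m P D Y q k) (hi : i < m) (ξ : SecRep (P (i + 1)) (Y (i + 1)) (q (i + 1)) M)
    {y : P i} (hy : (y : Γ) ∈ Y i) (g : P i) : Commute (w.act hi ξ y) (w.act hi ξ g) := by
  have h1 : w.act hi ξ ⁅g, y⁆ = 1 := w.act_D hi ξ _ (w.lay.centY i hi.le (commutator_mem_commutator g.2 hy))
  have h2 : ⁅g, y⁆ * (y * g) = g * y := by rw [commutatorElement_def]; group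
  have h3 := congrArg (w.act hi ξ) h2
  rw [map_mul, h1, one_mul, map_mul, map_mul] at h3
  exact h3

end rep

/-- The exceptional case does not occur above the bottom layer. -/
theorem Tw.not_exceptional (w : Tw s r G₀ m P D Y q k) {j : ℕ} (hj : j + 1 < m) {M : Type u} [AddCommGroup M]
    [Module (ZMod (q (j + 1 + 1))) M] (ξ : SecRep (P (j + 1 + 1)) (Y (j + 1 + 1)) (q (j + 1 + 1)) M)
    {E : Type*} [Field E] (htE : (q (j + 1) : E) ≠ 0) (χ : P (j + 1) → E)
    (hmul : ∀ y ∈ (Y (j + 1)).subgroupOf (P (j + 1)), ∀ z ∈ (Y (j + 1)).subgroupOf (P (j + 1)),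
      χ (y * z) = χ y * χ z)
    (hker : ∀ y ∈ (Y (j + 1)).subgroupOf (P (j + 1)), w.act hj ξ y = 1 → χ y = 1)
    (hσχ : ∀ y ∈ (Y (j + 1)).subgroupOf (P (j + 1)), χ (conjOn (P (j + 1)) (w.lay.invP _ hj.le).1 y) = χ y)
    (Rd : Subgroup (movedSub (conjOn (P (j + 1)) (w.lay.invP _ hj.le).1) ⊤ : Subgroup (P (j + 1))))
    (hRd : ∀ g : (movedSub (conjOn (P (j + 1)) (w.lay.invP _ hj.le).1) ⊤ : Subgroup (P (j + 1))),
      g ∈ Rd ↔ ∀ l : (movedSub (conjOn (P (j + 1)) (w.lay.invP _ hj.le).1) ⊤ : Subgroup (P (j + 1))),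
        χ ⁅(g : P (j + 1)), (l : P (j + 1))⁆ = 1) :
    ¬ (q (j + 1) = 2 ∧ Rd.index = (r - 1) ^ 2) := by
  classical
  rintro ⟨ht2, hidx⟩
  let σ := conjOn (P (j + 1)) (w.lay.invP _ hj.le).1
  have hσ : σ = conjOn (P (j + 1)) (w.lay.invP _ hj.le).1 := rfl
  let Y' := (Y (j + 1)).subgroupOf (P (j + 1))
  have hjm : j ≤ m := by omega
  haveI := w.fact hjm
  have hRR : ∀ g l : P (j + 1), ⁅g, l⁆ ∈ Y' := fun g l =>
    w.lay.comm (j + 1) hj.le (commutator_mem_commutator g.2 l.2)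
  have hDY : ∀ d : P (j + 1), (d : Γ) ∈ D (j + 1) → d ∈ Y' ∧ χ d = 1 := fun d hd =>
    ⟨(w.lay.le (j + 1) hj.le).1 hd, hker _ ((w.lay.le (j + 1) hj.le).1 hd) (w.act_D hj ξ d hd)⟩
  have hP : Pairing Y' χ :=
    { comm := hRR
      mul := hmul
      one := hker 1 Y'.one_mem (map_one _)
      conj := fun a y hy => by
        have h1 := hDY ⁅a, y⁆ (w.lay.centY (j + 1) hj.le (commutator_mem_commutator a.2 hy))
        rw [show a * y * a⁻¹ = ⁅a, y⁆ * y by rw [commutatorElement_def]; group, hmul _ h1.1 _ hy, h1.2, one_mul]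
      cent := fun y hy g => by
        refine (hDY ⁅y, g⁆ ?_).2
        have h1 := (D (j + 1)).inv_mem (w.lay.centY (j + 1) hj.le (commutator_mem_commutator g.2 hy))
        rw [commutatorElement_inv] at h1
        exact h1 }
  have h2E : (2 : E) ≠ 0 := by
    have := htE
    rwa [ht2, Nat.cast_ofNat] at this
  obtain ⟨X, _, _, _, π, β, hπs, hπm, hπ0, hβ, hnd, hfun⟩ := hP.exists_quot h2E fun g => by
    have h1 := w.lay.pow (j + 1) hj.le g g.2
    rwa [ht2] at h1
  obtain ⟨fS, hfS, hfSβ⟩ := hfun σ hσχ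
  let φ : ∀ l : P j, MulAut (P (j + 1)) := fun l =>
    conjOn (P (j + 1)) ((w.lay.invP (j + 1) hj.le).2 j (by omega) l.2)
  have hφχ : ∀ l, ∀ y ∈ Y', χ (φ l y) = χ y := fun l y hy => by
    have hd : ⁅(l : Γ), ((y : P (j + 1)) : Γ)⁆ ∈ D (j + 1) := by
      rw [← commutatorElement_inv]
      exact (D (j + 1)).inv_mem (w.lay.actY j (by omega) (commutator_mem_commutator hy l.2))
    have hdP : ⁅(l : Γ), ((y : P (j + 1)) : Γ)⁆ ∈ P (j + 1) :=
      (w.lay.le _ hj.le).2.1 ((w.lay.le _ hj.le).1 hd)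
    obtain ⟨h1, h2⟩ := hDY ⟨_, hdP⟩ hd
    have e : φ l y = ⟨_, hdP⟩ * y := Subtype.ext (by simp [φ, conjOn_apply, commutatorElement_def, mul_assoc])
    rw [e, hmul _ h1 _ hy, h2, one_mul]
  choose fL hfL hfLβ using fun l => hfun (φ l) (hφχ l)
  let ρL : P j →* Module.End (ZMod 2) X :=
    { toFun := fL
      map_one' := LinearMap.ext fun x => by
        obtain ⟨g, rfl⟩ := hπs x
        rw [hfL, Module.End.one_apply]
        exact congrArg π (Subtype.ext (by simp [φ, conjOn_apply]))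
      map_mul' := fun a b => LinearMap.ext fun x => by
        obtain ⟨g, rfl⟩ := hπs x
        rw [Module.End.mul_apply, hfL, hfL, hfL]
        exact congrArg π (Subtype.ext (by simp [φ, conjOn_apply, mul_assoc])) }
  have hρL : ∀ l g, ρL l (π g) = π (φ l g) := hfL
  set σL := conjOn (P j) (w.lay.invP j hjm).1 with hσL
  have hrel : ∀ l, fS * ρL l = ρL (σL l) * fS := fun l => LinearMap.ext fun x => by
    obtain ⟨g, rfl⟩ := hπs x
    rw [Module.End.mul_apply, Module.End.mul_apply, hρL, hfS, hfS, hρL]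
    exact congrArg π (Subtype.ext (by simp [φ, σ, σL, conjOn_apply, mul_assoc]))
  have hfSn : ∀ (n : ℕ) g, (fS ^ n) (π g) = π (σ^[n] g) := by
    intro n
    induction n with
    | zero => intro g; simp
    | succ n ih => intro g; rw [pow_succ', Module.End.mul_apply, ih, hfS, Function.iterate_succ_apply']
  have hSr : fS ^ r = 1 := LinearMap.ext fun x => by
    obtain ⟨g, rfl⟩ := hπs x
    rw [hfSn, Module.End.one_apply]
    exact congrArg π (Subtype.ext (by rw [hσ, conjOn_iterate, w.ctx.pow]; group))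
  have hclass : ∀ g l a : P j, Commute (ρL ⁅g, l⁆) (ρL a) := by
    intro g l a
    have hd : ρL ⁅⁅g, l⁆, a⁆ = 1 := LinearMap.ext fun x => by
      obtain ⟨z, rfl⟩ := hπs x
      set d := ⁅⁅g, l⁆, a⁆ with hd
      have h1 := (D j).inv_mem (w.lay.centY j hjm (commutator_mem_commutator a.2
        (w.lay.comm j hjm (commutator_mem_commutator g.2 l.2))))
      rw [commutatorElement_inv] at h1
      have hdD : (d : Γ) ∈ D j := h1
      have h2 : ⁅(d : Γ), (z : Γ)⁆ ∈ D (j + 1) := by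
        rw [← commutatorElement_inv]
        exact (D (j + 1)).inv_mem ((w.lay.ker j (by omega) _ d.2).mp hdD z z.2)
      have h2P : ⁅(d : Γ), (z : Γ)⁆ ∈ P (j + 1) := (w.lay.le _ hj.le).2.1 ((w.lay.le _ hj.le).1 h2)
      rw [hρL, show φ d z = ⟨_, h2P⟩ * z from
        Subtype.ext (by simp [φ, conjOn_apply, commutatorElement_def, mul_assoc]), hπm,
        (hπ0 _).mpr (hP.le_rad (hDY ⟨_, h2P⟩ h2).1), zero_add]
      rfl
    have h3 : ⁅⁅g, l⁆, a⁆ * (a * ⁅g, l⁆) = ⁅g, l⁆ * a := by rw [commutatorElement_def ⁅g, l⁆ a]; group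
    have h4 := congrArg ρL h3
    rw [map_mul, hd, one_mul, map_mul, map_mul] at h4
    exact h4.symm
  have hpF : (q j : ZMod 2) ≠ 0 := by
    have h1 := w.cast_ne hjm hj.le (w.lay.ne j (by omega))
    rwa [ht2] at h1
  have hcL := card_ne (F := ZMod 2) (w.lay.pgrp j hjm) hpF (⊤ : Subgroup (P j))
  have hfix : ∀ x, (∀ l, ρL l x = x) → x = 0 := by
    intro x hx
    obtain ⟨g, rfl⟩ := hπs x
    have hπ1 : π 1 = 0 := (hπ0 1).mpr hP.rad.one_mem
    have hinv : ∀ a, π a⁻¹ = -π a := fun a =>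
      eq_neg_of_add_eq_zero_left (by rw [← hπm, inv_mul_cancel, hπ1])
    let H : Subgroup (P (j + 1)) :=
      { carrier := {z | avg ρL ⊤ (π z) = 0}
        one_mem' := by change avg ρL ⊤ (π 1) = 0; rw [hπ1, map_zero]
        mul_mem' := fun {a b} ha hb => by
          change avg ρL ⊤ (π (a * b)) = 0
          rw [hπm, map_add, ha, hb, add_zero]
        inv_mem' := fun {a} ha => by
          change avg ρL ⊤ (π a⁻¹) = 0
          rw [hinv, map_neg, ha, neg_zero] }
    have hH : P (j + 1) ≤ H.map (P (j + 1)).subtype := by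
      refine (w.lay.gen j (by omega)).ge.trans (commutator_le.mpr fun z hz l hl => ?_)
      have hc' : ⁅z, l⁆ ∈ P (j + 1) := (w.lay.gen j (by omega)).le (commutator_mem_commutator hz hl)
      refine ⟨⟨_, hc'⟩, ?_, rfl⟩
      change avg ρL ⊤ (π ⟨_, hc'⟩) = 0
      rw [show (⟨_, hc'⟩ : P (j + 1)) = ⟨z, hz⟩ * φ ⟨l, hl⟩ ⟨z, hz⟩⁻¹ from
        Subtype.ext (by simp [φ, conjOn_apply, commutatorElement_def, mul_assoc]), hπm, map_add, ← hρL,
        show ρL ⟨l, hl⟩ = ρL ((⟨⟨l, hl⟩, trivial⟩ : (⊤ : Subgroup (P j))) : P j) from rfl, avg_rho, ← map_add,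
        ← hπm, mul_inv_cancel, hπ1, map_zero]
    obtain ⟨z, hz, he⟩ := hH g.2
    rw [show z = g from Subtype.ext he] at hz
    exact (avg_fix hcL fun b => hx b).symm.trans hz
  -- the size of the moved part
  have hr2 : r ≠ 2 := fun h => w.q_ne_r hj.le (ht2.trans h.symm)
  have hr : r.Prime := w.ctx.prime
  have hr3 : 3 ≤ r := by have := hr.two_le; omega
  have hπinv : ∀ a, π a⁻¹ = -π a := fun a =>
    eq_neg_of_add_eq_zero_left (by rw [← hπm, inv_mul_cancel, (hπ0 1).mpr hP.rad.one_mem])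
  let f : (movedSub σ ⊤ : Subgroup (P (j + 1))) →* Multiplicative X :=
    MonoidHom.mk' (fun g => Multiplicative.ofAdd (π g)) fun a b => by
      rw [Subgroup.coe_mul, hπm]; rfl
  have hrange : ∀ x, x ∈ LinearMap.range (fS - 1) ↔ Multiplicative.ofAdd x ∈ f.range := by
    intro x
    constructor
    · rintro ⟨y, rfl⟩
      obtain ⟨g, rfl⟩ := hπs y
      refine ⟨⟨g⁻¹ * σ g, moved_mem (Subgroup.mem_top g)⟩, ?_⟩
      refine congrArg Multiplicative.ofAdd ?_
      change π (g⁻¹ * σ g) = _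
      rw [hπm, hπinv, LinearMap.sub_apply, Module.End.one_apply, hfS, neg_add_eq_sub]
    · rintro ⟨⟨g, hg⟩, he⟩
      rw [← show π g = x from Multiplicative.ofAdd.injective he]
      let H : Subgroup (P (j + 1)) :=
        { carrier := {z | π z ∈ LinearMap.range (fS - 1)}
          one_mem' := by
            change π 1 ∈ LinearMap.range (fS - 1)
            rw [(hπ0 1).mpr hP.rad.one_mem]; exact Submodule.zero_mem _
          mul_mem' := fun {a b} ha hb => by
            change π (a * b) ∈ LinearMap.range (fS - 1)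
            rw [hπm]; exact Submodule.add_mem _ ha hb
          inv_mem' := fun {a} ha => by
            change π a⁻¹ ∈ LinearMap.range (fS - 1)
            rw [hπinv]; exact Submodule.neg_mem _ ha }
      have hle : movedSub σ ⊤ ≤ H := by
        refine (Subgroup.closure_le _).mpr ?_
        rintro _ ⟨b, -, rfl⟩
        exact ⟨π b, by rw [hπm, hπinv, LinearMap.sub_apply, Module.End.one_apply, hfS, neg_add_eq_sub]⟩
      exact hle hg
  have hr1 : ((r : ℕ) : ZMod 2) = 1 := by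
    rw [ZMod.natCast_eq_one_iff_odd]
    exact hr.odd_of_ne_two hr2
  have hkerf : f.ker = Rd := by
    ext g
    rw [MonoidHom.mem_ker, hRd]
    change Multiplicative.ofAdd (π g) = 1 ↔ _
    rw [ofAdd_eq_one, hπ0, hP.mem_rad]
    refine ⟨fun h l => h l, fun h l => ?_⟩
    refine (hβ _ _).mp ?_
    have hx : π g ∈ LinearMap.range (fS - 1) := (hrange _).mpr ⟨g, rfl⟩
    have horth : ∀ y ∈ LinearMap.range (fS - 1), β (π g) y = 0 := by
      intro y hy
      obtain ⟨a, ha⟩ := (hrange y).mp hy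
      rw [← show π a = y from Multiplicative.ofAdd.injective ha]
      exact (hβ _ _).mpr (h a)
    have hfixed : ∀ z, fS z = z → β (π g) z = 0 := by
      intro z hz
      obtain ⟨y, hy⟩ := hx
      rw [← hy, LinearMap.sub_apply, Module.End.one_apply, map_sub, LinearMap.sub_apply]
      have h1 := hfSβ y z
      rw [hz] at h1
      rw [h1, sub_self]
    have hw' : fS (∑ n ∈ Finset.range r, (fS ^ n) (π l)) = ∑ n ∈ Finset.range r, (fS ^ n) (π l) := by
      rw [map_sum]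
      simp only [← Module.End.mul_apply, ← pow_succ']
      have h2 := Finset.sum_range_succ' (fun n => (fS ^ n) (π l)) r
      rw [Finset.sum_range_succ, hSr, pow_zero] at h2
      exact (add_right_cancel h2).symm
    have hdiff : π l - ∑ n ∈ Finset.range r, (fS ^ n) (π l) ∈ LinearMap.range (fS - 1) := by
      have e : π l - ∑ n ∈ Finset.range r, (fS ^ n) (π l) = ∑ n ∈ Finset.range r, (π l - (fS ^ n) (π l)) := by
        rw [Finset.sum_sub_distrib, Finset.sum_const, Finset.card_range, ← Nat.cast_smul_eq_nsmul (ZMod 2), hr1,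
          one_smul]
      rw [e]
      refine Submodule.sum_mem _ fun n hn => ?_
      clear hn
      induction n with
      | zero => simp
      | succ n ih =>
        have h2 : π l - (fS ^ (n + 1)) (π l) = (π l - (fS ^ n) (π l)) - (fS - 1) ((fS ^ n) (π l)) := by
          rw [pow_succ', Module.End.mul_apply, LinearMap.sub_apply, Module.End.one_apply]; abel
        rw [h2]
        exact Submodule.sub_mem _ ih ⟨_, rfl⟩
    rw [← sub_add_cancel (π l) (∑ n ∈ Finset.range r, (fS ^ n) (π l)), map_add, horth _ hdiff, hfixed _ hw',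
      add_zero]
  have hcard : Nat.card (LinearMap.range (fS - 1)) = (r - 1) ^ 2 := by
    rw [← hidx, ← hkerf, Subgroup.index_ker]
    exact Nat.card_congr (Equiv.subtypeEquiv Multiplicative.ofAdd fun x => hrange x)
  haveI : Fintype (LinearMap.range (fS - 1)) := Fintype.ofFinite _
  rw [Nat.card_eq_fintype_card, Module.card_eq_pow_finrank (K := ZMod 2), ZMod.card] at hcard
  obtain ⟨m', -, hm'⟩ := (Nat.dvd_prime_pow Nat.prime_two).mp (Dvd.intro _ ((sq (r - 1)).symm.trans hcard.symm))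
  have hdim : Module.finrank (ZMod 2) (LinearMap.range (fS - 1)) = 2 * m' := by
    rw [hm', ← pow_mul] at hcard
    rw [Nat.pow_right_injective le_rfl hcard, mul_comm]
  have hm1 : 1 ≤ m' := by
    rcases Nat.eq_zero_or_pos m' with h0 | h0
    · rw [h0, pow_zero] at hm'; omega
    · exact h0
  refine no_exceptional_linear (w.lay.pgrp j hjm) (ht2 ▸ w.lay.ne j (by omega)) (w.q_ne_r hjm)
    (show r = 2 ^ m' + 1 by omega) hr hm1 ρL σL fS hrel hSr β hnd hfSβ hfLβ hclass (movedSub σL ⊤)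
    (fun l => moved_mem (Subgroup.mem_top l)) (movedSub_inv fun g _ => Subgroup.mem_top _) ?_ hfix hdim
  conv_rhs => rw [hσL, ← w.moved_top_idem hjm]
  refine congrArg Subgroup.closure (Set.ext fun z => ⟨?_, ?_⟩)
  · rintro ⟨l, rfl⟩; exact ⟨l, l.2, rfl⟩
  · rintro ⟨l, hl, rfl⟩; exact ⟨⟨l, hl⟩, rfl⟩

/-- The main step in a tower. -/
theorem Tw.step (w : Tw s r G₀ m P D Y q k) {i : ℕ} (hi1 : 1 ≤ i) (hi : i < m) {M : Type u} [AddCommGroup M]
    [Module (ZMod (q (i + 1))) M] [Finite M] (ξ : SecRep (P (i + 1)) (Y (i + 1)) (q (i + 1)) M)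
    (T : Module.End (ZMod (q (i + 1))) M) (hTS : Commute T (ξ.rep ⟨s, w.s_mem_nrm hi⟩))
    (hTY : ∀ y : P i, (y : Γ) ∈ Y i → Commute T (w.act hi ξ y))
    (hTN : ∀ g ∈ movedSub (conjOn (P i) (w.lay.invP i hi.le).1) ⊤, ∀ v,
      (∀ a ∈ movedSub (conjOn (P i) (w.lay.invP i hi.le).1) ((Y i).subgroupOf (P i)), w.act hi ξ a v = v) →
      T (w.act hi ξ g v) = w.act hi ξ g (T v))
    (hT : ∀ c : P (i + 1), (c : Γ) ∈ centralizer {s} →
      ∃ z : P (i + 1), (z : Γ) ∈ centralizer {s} ∧ Good s m P Y (i + 1) z ∧ T (ξ.π c) = ξ.π z) :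
    ∀ g ∈ ⁅P i, zpowers s⁆, ∀ (hg : g ∈ P i) (v : M), T (w.act hi ξ ⟨g, hg⟩ v - v) = 0 := by
  classical
  obtain ⟨j, rfl⟩ : ∃ j, i = j + 1 := ⟨i - 1, by omega⟩
  haveI := w.fact hi.le
  haveI := w.fact (i := j + 1 + 1) hi
  obtain ⟨𝒦, hcl, hinter, hmov⟩ := w.exists_family hi ξ
  have hrq : (r : ZMod (q (j + 1 + 1))) ≠ 0 := by
    rw [Ne, ZMod.natCast_eq_zero_iff]
    exact fun hd => w.q_ne_r hi ((Nat.prime_dvd_prime_iff_eq (w.lay.prime _ hi) w.ctx.prime).mp hd)
  have htF := w.cast_ne hi.le hi (w.lay.ne _ hi)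
  have htE : (q (j + 1) : AlgebraicClosure (ZMod (q (j + 1 + 1)))) ≠ 0 := by
    rw [← map_natCast (algebraMap (ZMod (q (j + 1 + 1))) (AlgebraicClosure (ZMod (q (j + 1 + 1)))))]
    exact (map_ne_zero _).mpr htF
  have hkill := @step_kill (P (j + 1)) _ _ _ M _ _ _ _ (q (j + 1)) r _ (w.lay.pgrp _ hi.le) htF w.ctx.prime hrq
    (w.act hi ξ) (conjOn (P (j + 1)) (w.lay.invP _ hi.le).1) (ξ.rep ⟨s, w.s_mem_nrm hi⟩) (w.act_rel hi ξ)
    (w.s_pow hi ξ) ((Y (j + 1)).subgroupOf (P (j + 1)))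
    (fun y hy => (Subgroup.mem_normalizer_iff.mp (w.lay.invY _ hi.le).1 _).mp hy)
    (w.moved_Y_idem hi.le) (w.moved_top_idem hi.le)
    (fun g l => w.lay.comm _ hi.le (commutator_mem_commutator g.2 l.2))
    (fun y hy g => w.act_cent hi ξ hy g) T hTS (fun y hy => hTY y hy) hTN 𝒦
    (fun K hK g => hcl K hK (j + 1) le_rfl g g.2) hinter
    (fun v hv K hK hK' => by
      obtain ⟨c, hc, rfl⟩ := w.fixed_vec hi ξ hv
      obtain ⟨z, hz, hgood, he⟩ := hT c hc
      rw [he]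
      exact hmov z hz hgood K hK hK')
    (fun χ hmul hker hσχ Rd hRd => w.not_exceptional hi ξ htE χ hmul hker hσχ Rd hRd)
  intro g hg hgP v
  refine hkill ?_ v
  rw [← w.movedSub_top_map hi.le] at hg
  obtain ⟨g', hg', he⟩ := hg
  rwa [show (⟨g, hgP⟩ : P (j + 1)) = g' from Subtype.ext he.symm]

/-- A fixed element whose commutators with the next fixed elements are good is good. -/
theorem Tw.propagate (w : Tw s r G₀ m P D Y q k) {i : ℕ} (hi1 : 1 ≤ i) (hi : i < m) {x : Γ}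
    (hx : x ∈ fixC s P i) (hall : ∀ y ∈ fixC s P (i + 1), Good s m P Y (i + 1) ⁅x, y⁆) :
    Good s m P Y i x := by
  classical
  haveI := w.fact (i := i + 1) hi
  obtain ⟨M, _, _, _, ⟨ξ⟩⟩ := exists_secRep (w.lay.normY (i + 1) hi) (w.lay.comm (i + 1) hi) (w.lay.pow (i + 1) hi)
  let xR : P i := ⟨x, hx.1⟩
  set X := w.act hi ξ xR with hX
  set σ := conjOn (P i) (w.lay.invP i hi.le).1 with hσdef
  have hxs : s * x = x * s := (mem_centralizer_singleton_iff.mp hx.2).symm
  have hσx : σ xR = xR := Subtype.ext (by rw [conjOn_apply]; change s * x * s⁻¹ = x; rw [hxs, mul_inv_cancel_right])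
  have hXS : Commute X (ξ.rep ⟨s, w.s_mem_nrm hi⟩) := by
    have h1 := w.act_rel hi ξ xR
    rw [hσx] at h1
    exact h1.symm
  have hTN : ∀ g ∈ movedSub σ ⊤, ∀ v,
      (∀ a ∈ movedSub σ ((Y i).subgroupOf (P i)), w.act hi ξ a v = v) →
      (X - 1) (w.act hi ξ g v) = w.act hi ξ g ((X - 1) v) := by
    intro g hg v hv
    have hA : ∀ a ∈ movedSub σ ((Y i).subgroupOf (P i)), (a : Γ) ∈ Y i := fun a ha =>
      movedSub_le (σ := σ) (B := (Y i).subgroupOf (P i)) (fun y hy => (Subgroup.mem_normalizer_iff.mp (w.lay.invY i hi.le).1 (y : Γ)).mp hy) ha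
    let cx : MulAut (P i) := MulAut.conj xR
    let Fix : M → Prop := fun u => ∀ a ∈ movedSub σ ((Y i).subgroupOf (P i)), w.act hi ξ a u = u
    have hFix : ∀ h u, Fix u → Fix (w.act hi ξ h u) := fun h u hu a ha => by
      rw [← Module.End.mul_apply, (w.act_cent hi ξ (hA a ha) h).eq, Module.End.mul_apply, hu a ha]
    let K : Subgroup (P i) :=
      { carrier := {g | ∀ u, Fix u → w.act hi ξ (cx g) u = w.act hi ξ g u}
        one_mem' := fun u _ => by rw [map_one]
        mul_mem' := fun {a b} ha hb u hu => by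
          rw [map_mul cx, map_mul, map_mul, Module.End.mul_apply, Module.End.mul_apply, hb u hu,
            ha _ (hFix b u hu)]
        inv_mem' := fun {a} ha u hu => by
          have h1 := ha _ (hFix a⁻¹ u hu)
          conv_rhs at h1 => rw [← Module.End.mul_apply, rho_cancel, Module.End.one_apply]
          have h2 := congrArg (w.act hi ξ (cx a⁻¹)) h1
          rw [← Module.End.mul_apply, ← map_mul, ← map_mul cx, inv_mul_cancel, map_one, map_one,
            Module.End.one_apply] at h2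
          exact h2.symm }
    have hle : movedSub σ ⊤ ≤ K := by
      refine (Subgroup.closure_le _).mpr ?_
      rintro _ ⟨b, -, rfl⟩ u hu
      have hwY : ⁅xR, b⁆ ∈ (Y i).subgroupOf (P i) := w.lay.comm i hi.le (commutator_mem_commutator xR.2 b.2)
      have e : cx (b⁻¹ * σ b) = b⁻¹ * ((⁅xR, b⁆⁻¹ * σ ⁅xR, b⁆) * σ b) := by
        simp only [cx, MulAut.conj_apply, commutatorElement_def, map_mul, map_inv, hσx]
        group
      rw [e]
      simp only [map_mul, Module.End.mul_apply]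
      have h1 := hFix (σ b) u hu _ (moved_mem (σ := σ) hwY)
      rw [map_mul, Module.End.mul_apply] at h1
      rw [h1]
    have hv' : Fix (X v) := hFix xR v hv
    have h1 : X * w.act hi ξ g = w.act hi ξ (cx g) * X := by
      rw [hX, ← map_mul, ← map_mul]
      exact congrArg _ (by simp [cx])
    simp only [LinearMap.sub_apply, Module.End.one_apply, map_sub]
    rw [← Module.End.mul_apply X, h1, Module.End.mul_apply, hle hg _ hv']
  have hT : ∀ c : P (i + 1), (c : Γ) ∈ centralizer {s} →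
      ∃ z : P (i + 1), (z : Γ) ∈ centralizer {s} ∧ Good s m P Y (i + 1) z ∧ (X - 1) (ξ.π c) = ξ.π z := by
    intro c hc
    refine ⟨⟨⁅x, (c : Γ)⁆, ?_⟩, ?_, hall c ⟨c.2, hc⟩, ?_⟩
    · rw [commutatorElement_def]
      exact (P (i + 1)).mul_mem ((Subgroup.mem_normalizer_iff.mp
        ((w.lay.invP (i + 1) hi).2 i (by omega) hx.1) _).mp c.2) ((P (i + 1)).inv_mem c.2)
    · change ⁅x, (c : Γ)⁆ ∈ centralizer {s}
      rw [commutatorElement_def]
      exact mul_mem (mul_mem (mul_mem hx.2 hc) (inv_mem hx.2)) (inv_mem hc)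
    · rw [LinearMap.sub_apply, Module.End.one_apply]
      exact ξ.sub_eq _ c
  have hkill := w.step hi1 hi ξ (X - 1) (hXS.sub_left (Commute.one_left _))
    (fun y hy => ((w.act_cent hi ξ hy xR).symm).sub_left (Commute.one_left _)) hTN hT
  rw [Good, if_pos hi]
  intro g hg y hy
  have hgP := w.commutator_le_self hi.le hg
  have h1 := hkill g hg hgP (ξ.π ⟨y, hy⟩)
  rw [show w.act hi ξ ⟨g, hgP⟩ (ξ.π ⟨y, hy⟩) - ξ.π ⟨y, hy⟩ = ξ.π ⟨⁅g, y⁆, _⟩ from ξ.sub_eq _ _,
    LinearMap.sub_apply, Module.End.one_apply, sub_eq_zero] at h1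
  exact (ξ.fix_iff _ _).mp h1

/-- Some fixed element is bad when the layer below moves. -/
theorem Tw.exists_bad (w : Tw s r G₀ m P D Y q k) {j : ℕ} (hj1 : 1 ≤ j) (hj : j < m)
    (hN : ¬ ⁅P j, zpowers s⁆ ≤ D j) : ∃ x ∈ fixC s P (j + 1), ¬ Good s m P Y (j + 1) x := by
  by_contra hno
  push Not at hno
  haveI := w.fact (i := j + 1) hj
  obtain ⟨M, _, _, _, ⟨ξ⟩⟩ := exists_secRep (w.lay.normY (j + 1) hj) (w.lay.comm (j + 1) hj) (w.lay.pow (j + 1) hj)
  have hkill := w.step hj1 hj ξ 1 (Commute.one_left _) (fun _ _ => Commute.one_left _) (fun _ _ _ _ => rfl)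
    (fun c hc => ⟨c, hc, hno c ⟨c.2, hc⟩, rfl⟩)
  refine hN fun g hg => ?_
  have hgP := w.commutator_le_self hj.le hg
  refine (w.trivial_iff hj hgP).mp fun y hy => ?_
  have h1 := hkill g hg hgP (ξ.π ⟨y, hy⟩)
  rw [Module.End.one_apply, sub_eq_zero] at h1
  rw [← commutatorElement_inv]
  exact (Y (j + 1)).inv_mem ((ξ.fix_iff _ _).mp h1)

end Cfsg.Agent.Turull
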