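import Cfsg.Agent.Turull.Nondeg
import Cfsg.Agent.Core.Frattini

/-!
Fixed vectors that lie in every moved member of an invariant family of subspaces.
-/

set_option autoImplicit false

namespace Cfsg.Agent.Turull

open Module

variable {N : Type*} [Group N] [Finite N] {σ : N ≃* N} {r : ℕ}

/-- The abelian quotient used to separate classes. -/
theorem exists_quot (hnil : Group.IsNilpotent N)
    (hgen : Subgroup.closure (Set.range fun g : N => g⁻¹ * σ g) = ⊤) {S₀ : Subgroup N}
    (hS₀ : ∀ g ∈ S₀, σ g ∈ S₀) (hne : S₀ ≠ ⊤) :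
    ∃ M : Subgroup N, S₀ ≤ M ∧ M ≠ ⊤ ∧ M.Normal ∧ (∀ g ∈ M, σ g ∈ M) ∧
      (∀ g h : N, g⁻¹ * h⁻¹ * g * h ∈ M) ∧ ∀ g, g⁻¹ * σ g ∈ M → g ∈ M := by
  classical
  haveI := hnil
  let M : Subgroup N := S₀ ⊔ commutator N
  have hn : M.Normal := Subgroup.Normal.of_commutator_le N le_sup_right
  have hM : M ≠ ⊤ := fun h => hne (Core.eq_top_of_sup_frattini Core.commutator_le_frattini h)
  have hσ : ∀ g ∈ M, σ g ∈ M := by
    intro g hg
    have hle : M ≤ M.comap σ.toMonoidHom := by
      refine sup_le (fun s hs => le_sup_left (b := commutator N) (hS₀ s hs)) ?_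
      intro s hs
      have : σ s ∈ (commutator N).map σ.toMonoidHom := ⟨s, hs, rfl⟩
      rw [commutator_def, Subgroup.map_commutator] at this
      refine le_sup_right (a := S₀) ?_
      rw [commutator_def]
      exact Subgroup.commutator_mono le_top le_top this
    exact hle hg
  have hcomm : ∀ g h : N, g⁻¹ * h⁻¹ * g * h ∈ M := fun g h => by
    refine le_sup_right (a := S₀) ?_
    have := Subgroup.commutator_mem_commutator (Subgroup.mem_top g⁻¹) (Subgroup.mem_top h⁻¹)
    rw [← commutator_def, commutatorElement_def, inv_inv, inv_inv] at this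
    exact this
  refine ⟨M, le_sup_left, hM, hn, hσ, hcomm, ?_⟩
  have hc : ∀ a b : N ⧸ M, a * b = b * a := by
    intro a b
    induction a using QuotientGroup.induction_on with
    | H g =>
    induction b using QuotientGroup.induction_on with
    | H k =>
      rw [← QuotientGroup.mk_mul, ← QuotientGroup.mk_mul, QuotientGroup.eq]
      have h1 := hcomm k g
      have h2 := hcomm g k
      have : (g * k)⁻¹ * (k * g) = k⁻¹ * g⁻¹ * k * g := by group
      rw [this]
      exact h1
  let s : N ⧸ M →* N ⧸ M := QuotientGroup.map M M σ.toMonoidHom fun g hg => hσ g hg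
  let φ : N ⧸ M →* N ⧸ M :=
    { toFun := fun x => x⁻¹ * s x
      map_one' := by rw [inv_one, one_mul, map_one]
      map_mul' := fun x y => by
        calc (x * y)⁻¹ * s (x * y) = y⁻¹ * (x⁻¹ * s x) * s y := by
              rw [map_mul, mul_inv_rev]; simp only [mul_assoc]
          _ = x⁻¹ * s x * (y⁻¹ * s y) := by rw [hc y⁻¹, mul_assoc] }
  have hsurj : Function.Surjective φ := by
    rw [← MonoidHom.range_eq_top, eq_top_iff]
    intro x _
    obtain ⟨g, rfl⟩ := QuotientGroup.mk'_surjective M x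
    have hle : Subgroup.closure (Set.range fun g : N => g⁻¹ * σ g) ≤ φ.range.comap (QuotientGroup.mk' M) := by
      rw [Subgroup.closure_le]
      rintro _ ⟨k, rfl⟩
      exact ⟨QuotientGroup.mk k, rfl⟩
    exact hle (hgen.symm ▸ Subgroup.mem_top g)
  have hinj : Function.Injective φ := Finite.injective_iff_surjective.mpr hsurj
  intro g hg
  have h1 : φ (QuotientGroup.mk g) = 1 := (QuotientGroup.eq_one_iff _).mpr hg
  exact (QuotientGroup.eq_one_iff g).mp (hinj (h1.trans (map_one φ).symm))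

/-- An element whose orbit is spread out modulo a proper invariant subgroup. -/
theorem exists_class (hr : r.Prime) (hnil : Group.IsNilpotent N)
    (hgen : Subgroup.closure (Set.range fun g : N => g⁻¹ * σ g) = ⊤) {S₀ : Subgroup N}
    (hS₀ : ∀ g ∈ S₀, σ g ∈ S₀) (hne : S₀ ≠ ⊤) (hper : ∀ g, g⁻¹ * σ^[r] g ∈ S₀) :
    ∃ n : N, σ n⁻¹ * n ∉ S₀ ∧ ∀ i, 0 < i → i < r → σ (n⁻¹ * σ^[i] n) * (n⁻¹ * σ^[i] n)⁻¹ ∉ S₀ := by
  classical
  obtain ⟨M, hle, hM, hMn, hσ, hcomm, hfpf⟩ := exists_quot hnil hgen hS₀ hne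
  obtain ⟨n, hn⟩ : ∃ n, n ∉ M := by
    by_contra hno
    push Not at hno
    exact hM (eq_top_iff.mpr fun g _ => hno g)
  refine ⟨n, fun h => hn (hfpf n ?_), fun i hi hir h => hn ?_⟩
  · have h1 := M.inv_mem (hle h)
    rw [mul_inv_rev, map_inv, inv_inv] at h1
    exact h1
  set p := n⁻¹ * σ^[i] n with hp
  have hp' : p ∈ M := hfpf p (by
    have h1 := hMn.conj_mem _ (hle h) p⁻¹
    rw [inv_inv] at h1
    convert h1 using 1
    group)
  -- the class of `n` is fixed by the `i`-th power and hence by `σ`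
  have hiter : ∀ k, ∀ g ∈ M, σ^[k] g ∈ M := by
    intro k
    induction k with
    | zero => exact fun g hg => hg
    | succ k ih => intro g hg; rw [Function.iterate_succ_apply']; exact hσ _ (ih g hg)
  have hmul : ∀ m : ℕ, n⁻¹ * σ^[i * m] n ∈ M := by
    intro m
    induction m with
    | zero => simp
    | succ m ih =>
      have h1 := M.mul_mem hp' (hiter i _ ih)
      rw [iterate_map_mul, iterate_map_inv, ← Function.iterate_add_apply, hp] at h1
      convert h1 using 1
      rw [Nat.mul_succ, Nat.add_comm]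
      group
  have hcop : Nat.Coprime i r := (Nat.coprime_of_lt_prime (by omega) hir hr).symm
  obtain ⟨j, -, hj⟩ := Nat.exists_mul_mod_eq_one_of_coprime hcop hr.one_lt
  have hadd : ∀ m : ℕ, (σ n)⁻¹ * σ^[1 + r * m] n ∈ M := by
    intro m
    induction m with
    | zero => simp
    | succ m ih =>
      have h1 := M.mul_mem ih (hle (hper (σ^[1 + r * m] n)))
      rw [← Function.iterate_add_apply] at h1
      convert h1 using 1
      rw [show 1 + r * (m + 1) = r + (1 + r * m) by ring]
      group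
  refine hfpf n ?_
  have h1 := hmul j
  rw [← Nat.mod_add_div (i * j) r, hj] at h1
  have h2 := M.mul_mem h1 (M.inv_mem (hadd (i * j / r)))
  convert h2 using 1
  group

variable {F : Type*} [Field F] {V : Type*} [AddCommGroup V] [Module F V]
variable {ρ : N →* Module.End F V} {S : Module.End F V}

theorem comap_mul (K : Submodule F V) (a b : N) :
    K.comap (ρ (a * b)) = (K.comap (ρ a)).comap (ρ b) := by
  ext v
  simp [Submodule.mem_comap]

/-- The stabiliser of a subspace. -/
def stab (ρ : N →* Module.End F V) (K : Submodule F V) : Subgroup N where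
  carrier := {g | K.comap (ρ g) = K}
  one_mem' := by ext v; simp
  mul_mem' := fun {a b} ha hb => by
    change K.comap (ρ (a * b)) = K
    rw [comap_mul, show K.comap (ρ a) = K from ha, show K.comap (ρ b) = K from hb]
  inv_mem' := fun {a} ha => by
    change K.comap (ρ a⁻¹) = K
    conv_lhs => rw [← show K.comap (ρ a) = K from ha]
    rw [← comap_mul, mul_inv_cancel]
    ext v; simp

theorem mem_stab_of_eq (K : Submodule F V) {a b : N} (h : K.comap (ρ a) = K.comap (ρ b)) :
    a * b⁻¹ ∈ stab ρ K := by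
  change K.comap (ρ (a * b⁻¹)) = K
  rw [comap_mul, h, ← comap_mul, mul_inv_cancel]
  ext v; simp

theorem fix_iff_of_range_le {K : Submodule F V} (h : LinearMap.range (S - 1) ≤ K) (v : V) :
    S v ∈ K ↔ v ∈ K := by
  have h1 : S v - v ∈ K := h ⟨v, by simp⟩
  constructor
  · intro h2
    have := K.sub_mem h2 h1
    rwa [sub_sub_cancel] at this
  · intro h2
    have := K.add_mem h1 h2
    rwa [sub_add_cancel] at this

theorem comap_sigma (hrel : ∀ g, S * ρ g = ρ (σ g) * S) (hr : r.Prime) (hS : S ^ r = 1) {K : Submodule F V}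
    {g : N} (h1 : LinearMap.range (S - 1) ≤ K) (h2 : LinearMap.range (S - 1) ≤ K.comap (ρ g)) :
    K.comap (ρ (σ g)) = K.comap (ρ g) := by
  have hc : S * S ^ (r - 1) = 1 := by rw [← pow_succ', Nat.sub_add_cancel hr.one_le, hS]
  ext v
  obtain ⟨w, rfl⟩ : ∃ w, S w = v := ⟨(S ^ (r - 1)) v, by rw [← Module.End.mul_apply, hc]; rfl⟩
  rw [Submodule.mem_comap, ← Module.End.mul_apply, ← hrel, Module.End.mul_apply, fix_iff_of_range_le h1,
    fix_iff_of_range_le h2, Submodule.mem_comap]

theorem rel_iterate' (hrel : ∀ g, S * ρ g = ρ (σ g) * S) (k : ℕ) (g : N) :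
    S ^ k * ρ g = ρ (σ^[k] g) * S ^ k := by
  induction k generalizing g with
  | zero => simp
  | succ k ih =>
    rw [pow_succ', mul_assoc, ih, ← mul_assoc, hrel, mul_assoc, Function.iterate_succ_apply']

/-- Nothing fixed is pushed into all moved members of the family, except zero. -/
theorem push (hr : r.Prime) (hS : S ^ r = 1) (hrel : ∀ g, S * ρ g = ρ (σ g) * S)
    (hnil : Group.IsNilpotent N)
    (hgen : Subgroup.closure (Set.range fun g : N => g⁻¹ * σ g) = ⊤)
    (𝒦 : Set (Submodule F V)) (hcl : ∀ K ∈ 𝒦, ∀ g, K.comap (ρ g) ∈ 𝒦)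
    (hinter : ∀ v, (∀ K ∈ 𝒦, v ∈ K) → v = 0) {W : Submodule F V}
    (hWρ : ∀ g, ∀ w ∈ W, ρ g w ∈ W)
    (hW : ∀ K : Submodule F V, (∀ g, ∀ w ∈ W, ρ g w - w ∈ K) → W ≤ K)
    (T : Module.End F V) (hTW : ∀ w ∈ W, T w ∈ W) (hTρ : ∀ g, ∀ w ∈ W, T (ρ g w) = ρ g (T w))
    (hT : ∀ w ∈ W, S w = w → ∀ K ∈ 𝒦, ¬ LinearMap.range (S - 1) ≤ K → T w ∈ K)
    {w : V} (hw : w ∈ W) (hSw : S w = w) : T w = 0 := by
  classical
  refine hinter _ fun K hK => ?_
  by_cases hKS : LinearMap.range (S - 1) ≤ K
  swap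
  · exact hT w hw hSw K hK hKS
  by_cases htop : stab ρ K = ⊤
  · refine hW K (fun g u _ => ?_) (hTW w hw)
    have hst : ∀ g, K.comap (ρ g) = K := fun g => (htop.symm ▸ Subgroup.mem_top g : g ∈ stab ρ K)
    let H : Subgroup N :=
      { carrier := {g | ∀ v, ρ g v - v ∈ K}
        one_mem' := fun v => by simp
        mul_mem' := fun {a b} ha hb v => by
          have := K.add_mem (ha (ρ b v)) (hb v)
          rw [sub_add_sub_cancel] at this
          rwa [map_mul, Module.End.mul_apply]
        inv_mem' := fun {a} ha v => by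
          have h1 := K.neg_mem (ha (ρ a⁻¹ v))
          rw [← Module.End.mul_apply, rho_cancel, Module.End.one_apply, neg_sub] at h1
          exact h1 }
    have hle : Subgroup.closure (Set.range fun g : N => g⁻¹ * σ g) ≤ H := by
      rw [Subgroup.closure_le]
      rintro _ ⟨k, rfl⟩ v
      obtain ⟨v', rfl⟩ : ∃ v', S v' = v := ⟨(S ^ (r - 1)) v, by
        rw [← Module.End.mul_apply, ← pow_succ', Nat.sub_add_cancel hr.one_le, hS]; rfl⟩
      have e1 : ρ (σ k) (S v') = S (ρ k v') := (LinearMap.congr_fun (hrel k) v').symm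
      have e2 : S (ρ k v') - ρ k v' ∈ K := hKS ⟨ρ k v', by simp⟩
      have e3 : v' - S v' ∈ K := by
        have := K.neg_mem (hKS ⟨v', rfl⟩ : (S - 1) v' ∈ K)
        simpa using this
      have e4 : ρ k⁻¹ (S (ρ k v') - ρ k v') ∈ K := by
        have := hst k⁻¹
        rw [← this] at e2
        exact e2
      change ρ (k⁻¹ * σ k) (S v') - S v' ∈ K
      have e5 := K.add_mem e4 e3
      rw [map_sub, ← Module.End.mul_apply (ρ k⁻¹) (ρ k), rho_cancel', Module.End.one_apply,
        sub_add_sub_cancel] at e5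
      rwa [map_mul, Module.End.mul_apply, e1]
    exact hle (hgen.symm ▸ Subgroup.mem_top g) u
  have hit := rel_iterate' hrel
  have hσst : ∀ g ∈ stab ρ K, σ g ∈ stab ρ K := fun g hg => by
    have h1 : K.comap (ρ g) = K := hg
    change K.comap (ρ (σ g)) = K
    rw [comap_sigma hrel hr hS hKS (h1.symm ▸ hKS), h1]
  have hper : ∀ g, g⁻¹ * σ^[r] g ∈ stab ρ K := fun g => by
    have h1 := hit r g
    rw [hS, one_mul, mul_one] at h1
    change K.comap (ρ (g⁻¹ * σ^[r] g)) = K
    rw [map_mul, ← h1, rho_cancel']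
    ext v; simp
  obtain ⟨n, hn1, hn2⟩ := exists_class hr hnil hgen hσst htop hper
  have hmoved : ∀ g, σ g * g⁻¹ ∉ stab ρ K → ¬ LinearMap.range (S - 1) ≤ K.comap (ρ g) := fun g hg hle =>
    hg (mem_stab_of_eq K (comap_sigma hrel hr hS hKS hle))
  let y := ∑ i ∈ Finset.range r, ρ (σ^[i] n) w
  have hyW : y ∈ W := W.sum_mem fun i _ => hWρ _ w hw
  have hSy : S y = y := by
    have e1 : ∀ i, S (ρ (σ^[i] n) w) = ρ (σ^[i + 1] n) w := fun i => by
      rw [← Module.End.mul_apply, hrel, Module.End.mul_apply, hSw, Function.iterate_succ_apply']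
    simp only [y, map_sum]
    rw [Finset.sum_congr rfl fun i _ => e1 i]
    have e2 := Finset.sum_range_succ' (fun i => ρ (σ^[i] n) w) r
    rw [Finset.sum_range_succ] at e2
    have e3 : ρ (σ^[r] n) w = ρ (σ^[0] n) w := by
      have h1 := hit r n
      rw [hS, one_mul, mul_one] at h1
      rw [← h1]
      rfl
    rw [e3] at e2
    exact (add_right_cancel e2).symm
  have hK' := hmoved n⁻¹ (by rwa [inv_inv])
  have h1 := hT y hyW hSy _ (hcl K hK n⁻¹) hK'
  rw [Submodule.mem_comap, map_sum, map_sum] at h1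
  have hterm : ∀ i ∈ (Finset.range r).erase 0, ρ n⁻¹ (T (ρ (σ^[i] n) w)) ∈ K := by
    intro i hi
    obtain ⟨hi0, hir⟩ := Finset.mem_erase.mp hi
    rw [hTρ _ w hw, ← Module.End.mul_apply, ← map_mul]
    exact hT w hw hSw _ (hcl K hK _) (hmoved _ (hn2 i (Nat.pos_of_ne_zero hi0) (Finset.mem_range.mp hir)))
  rw [← Finset.add_sum_erase _ _ (Finset.mem_range.mpr hr.pos)] at h1
  have h2 := K.sub_mem h1 (K.sum_mem hterm)
  rw [add_sub_cancel_right, Function.iterate_zero_apply, hTρ _ w hw, ← Module.End.mul_apply,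
    rho_cancel', Module.End.one_apply] at h2
  exact h2

end Cfsg.Agent.Turull
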