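import Cfsg.Agent.Turull.Push
import Cfsg.Agent.Turull.ClassTwo
import Cfsg.Agent.Turull.BaseChange

/-!
What is pushed into the moved members of the family is trivial on the moved part.
-/

set_option autoImplicit false
set_option maxHeartbeats 1000000

namespace Cfsg.Agent.Turull

open Module
open scoped commutatorElement TensorProduct

variable {R : Type*} [Group R]

/-- The subgroup generated by the displacements of a subgroup. -/
def movedSub (σ : R ≃* R) (B : Subgroup R) : Subgroup R :=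
  Subgroup.closure ((fun g => g⁻¹ * σ g) '' (B : Set R))

theorem moved_mem {σ : R ≃* R} {B : Subgroup R} {g : R} (hg : g ∈ B) : g⁻¹ * σ g ∈ movedSub σ B :=
  Subgroup.subset_closure ⟨g, hg, rfl⟩

theorem movedSub_le {σ : R ≃* R} {B : Subgroup R} (hB : ∀ g ∈ B, σ g ∈ B) : movedSub σ B ≤ B := by
  refine (Subgroup.closure_le _).mpr ?_
  rintro _ ⟨g, hg, rfl⟩
  exact B.mul_mem (B.inv_mem hg) (hB g hg)

theorem movedSub_inv {σ : R ≃* R} {B : Subgroup R} (hB : ∀ g ∈ B, σ g ∈ B) :
    ∀ g ∈ movedSub σ B, σ g ∈ movedSub σ B := by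
  intro g hg
  have : movedSub σ B ≤ (movedSub σ B).comap σ.toMonoidHom := by
    refine (Subgroup.closure_le _).mpr ?_
    rintro _ ⟨b, hb, rfl⟩
    change σ (b⁻¹ * σ b) ∈ movedSub σ B
    rw [map_mul, map_inv]
    exact moved_mem (hB b hb)
  exact this hg

/-- An automorphism restricted to an invariant subgroup. -/
noncomputable def subAut [Finite R] (σ : R ≃* R) (B : Subgroup R) (hB : ∀ g ∈ B, σ g ∈ B) : B ≃* B :=
  MulEquiv.ofBijective (MonoidHom.mk' (fun g : B => (⟨σ g, hB g g.2⟩ : B))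
      (fun g k => Subtype.ext (map_mul σ (g : R) k)))
    (Finite.injective_iff_bijective.mp fun _ _ hab => Subtype.ext (σ.injective (congrArg Subtype.val hab)))

theorem subAut_apply [Finite R] {σ : R ≃* R} {B : Subgroup R} (hB : ∀ g ∈ B, σ g ∈ B) (g : B) :
    ((subAut σ B hB g : B) : R) = σ g := rfl

theorem subAut_gen [Finite R] {σ : R ≃* R} {B : Subgroup R} (hB : ∀ g ∈ B, σ g ∈ B)
    (hgen : movedSub σ B = B) :
    Subgroup.closure (Set.range fun g : B => g⁻¹ * subAut σ B hB g) = ⊤ := by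
  apply Subgroup.map_injective B.subtype_injective
  rw [MonoidHom.map_closure, ← MonoidHom.range_eq_map, Subgroup.range_subtype, ← Set.range_comp]
  refine Eq.trans ?_ hgen
  rw [movedSub]
  congr 1
  ext x
  constructor
  · rintro ⟨g, rfl⟩; exact ⟨(g : R), g.2, rfl⟩
  · rintro ⟨g, hg, rfl⟩; exact ⟨⟨g, hg⟩, rfl⟩

variable {F : Type*} [Field F] {M : Type*} [AddCommGroup M] [Module F M]

/-- The averaging projection of a subgroup. -/
noncomputable def avg [Finite R] (ρ : R →* Module.End F M) (B : Subgroup R) : Module.End F M :=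
  letI := Fintype.ofFinite B
  (Fintype.card B : F)⁻¹ • ∑ b : B, ρ b

section avg

variable [Finite R] {ρ : R →* Module.End F M} {B : Subgroup R}

theorem rho_avg (b : B) (v : M) : ρ b (avg ρ B v) = avg ρ B v := by
  letI := Fintype.ofFinite B
  simp only [avg, LinearMap.smul_apply, LinearMap.sum_apply, map_smul, map_sum, ← Module.End.mul_apply, ← map_mul]
  congr 1
  exact Fintype.sum_equiv (Equiv.mulLeft b) _ _ fun k => rfl

theorem avg_rho (b : B) (v : M) : avg ρ B (ρ b v) = avg ρ B v := by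
  letI := Fintype.ofFinite B
  simp only [avg, LinearMap.smul_apply, LinearMap.sum_apply, ← Module.End.mul_apply, ← map_mul]
  congr 1
  exact Fintype.sum_equiv (Equiv.mulRight b) _ _ fun k => rfl

theorem card_ne [Finite R] {t : ℕ} [Fact t.Prime] (hR : IsPGroup t R) (ht : (t : F) ≠ 0) (B : Subgroup R) :
    (Nat.card B : F) ≠ 0 := by
  obtain ⟨k, hk⟩ := IsPGroup.iff_card.mp (hR.to_subgroup B)
  rw [hk, Nat.cast_pow]
  exact pow_ne_zero _ ht

theorem avg_fix (hB : (Nat.card B : F) ≠ 0) {v : M} (hv : ∀ b : B, ρ b v = v) : avg ρ B v = v := by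
  letI := Fintype.ofFinite B
  rw [Nat.card_eq_fintype_card] at hB
  simp only [avg, LinearMap.smul_apply, LinearMap.sum_apply, hv, Finset.sum_const, Finset.card_univ,
    ← Nat.cast_smul_eq_nsmul F, smul_smul, inv_mul_cancel₀ hB, one_smul]

theorem avg_comm (X : Module.End F M) (v : M) (h : ∀ b : B, X (ρ b v) = ρ b (X v)) :
    X (avg ρ B v) = avg ρ B (X v) := by
  letI := Fintype.ofFinite B
  simp only [avg, LinearMap.smul_apply, LinearMap.sum_apply, map_smul, map_sum, h]

theorem avg_twist (X : Module.End F M) (e : B ≃ B) (h : ∀ b : B, X * ρ b = ρ (e b) * X) (v : M) :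
    X (avg ρ B v) = avg ρ B (X v) := by
  letI := Fintype.ofFinite B
  simp only [avg, LinearMap.smul_apply, LinearMap.sum_apply, map_smul, map_sum]
  congr 1
  exact Fintype.sum_equiv e _ _ fun b => LinearMap.congr_fun (h b) v

theorem sub_avg_ker (hB : (Nat.card B : F) ≠ 0) (v : M) : avg ρ B (v - avg ρ B v) = 0 := by
  rw [map_sub, avg_fix hB fun b => rho_avg b v, sub_self]

theorem le_of_moved (hB : (Nat.card B : F) ≠ 0) {W : Submodule F M} (hW : ∀ w ∈ W, avg ρ B w = 0)
    (K : Submodule F M) (h : ∀ g : B, ∀ w ∈ W, ρ g w - w ∈ K) : W ≤ K := by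
  letI := Fintype.ofFinite B
  rw [Nat.card_eq_fintype_card] at hB
  intro w hw
  have h1 : avg ρ B w - w = (Fintype.card B : F)⁻¹ • ∑ b : B, (ρ b w - w) := by
    simp only [avg, LinearMap.smul_apply, LinearMap.sum_apply, Finset.sum_sub_distrib, Finset.sum_const,
      Finset.card_univ, ← Nat.cast_smul_eq_nsmul F, smul_sub, smul_smul, inv_mul_cancel₀ hB, one_smul]
  have h2 : avg ρ B w - w ∈ K := h1 ▸ K.smul_mem _ (K.sum_mem fun b _ => h b w hw)
  rw [hW w hw, zero_sub] at h2
  exact K.neg_mem_iff.mp h2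

end avg

/-- The main step. -/
theorem step_kill [Finite R] [FiniteDimensional F M] {t r : ℕ} [Fact t.Prime] (hR : IsPGroup t R)
    (ht : (t : F) ≠ 0) (hr : r.Prime) (hrF : (r : F) ≠ 0)
    (ρ : R →* Module.End F M) (σ : R ≃* R) (S : Module.End F M) (hrel : ∀ g, S * ρ g = ρ (σ g) * S)
    (hS : S ^ r = 1) (Y : Subgroup R) (hYσ : ∀ y ∈ Y, σ y ∈ Y)
    (hAgen : movedSub σ (movedSub σ Y) = movedSub σ Y) (hNgen : movedSub σ (movedSub σ ⊤) = movedSub σ ⊤)
    (hRR : ∀ g k : R, ⁅g, k⁆ ∈ Y) (hYc : ∀ y ∈ Y, ∀ g, Commute (ρ y) (ρ g))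
    (T : Module.End F M) (hTS : Commute T S) (hTY : ∀ y ∈ Y, Commute T (ρ y))
    (hTN : ∀ g ∈ movedSub σ ⊤, ∀ v, (∀ a ∈ movedSub σ Y, ρ a v = v) → T (ρ g v) = ρ g (T v))
    (𝒦 : Set (Submodule F M)) (hcl : ∀ K ∈ 𝒦, ∀ g, K.comap (ρ g) ∈ 𝒦)
    (hinter : ∀ v, (∀ K ∈ 𝒦, v ∈ K) → v = 0)
    (hT : ∀ v, S v = v → ∀ K ∈ 𝒦, ¬ LinearMap.range (S - 1) ≤ K → T v ∈ K)
    (hNE : ∀ χ : R → AlgebraicClosure F, (∀ y ∈ Y, ∀ z ∈ Y, χ (y * z) = χ y * χ z) →
      (∀ y ∈ Y, ρ y = 1 → χ y = 1) → (∀ y ∈ Y, χ (σ y) = χ y) →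
      ∀ Rd : Subgroup (movedSub σ ⊤ : Subgroup R),
        (∀ g : (movedSub σ ⊤ : Subgroup R),
          g ∈ Rd ↔ ∀ k : (movedSub σ ⊤ : Subgroup R), χ ⁅(g : R), (k : R)⁆ = 1) →
        ¬ (t = 2 ∧ Rd.index = (r - 1) ^ 2))
    {g : R} (hg : g ∈ movedSub σ ⊤) (v : M) : T (ρ g v - v) = 0 := by
  classical
  set N := movedSub σ (⊤ : Subgroup R) with hN
  set A := movedSub σ Y with hA
  have hNσ : ∀ g ∈ N, σ g ∈ N := movedSub_inv fun g _ => trivial
  have hAσ : ∀ g ∈ A, σ g ∈ A := movedSub_inv hYσ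
  have hAY : A ≤ Y := movedSub_le hYσ
  have hcN := card_ne (F := F) hR ht N
  have hcA := card_ne (F := F) hR ht A
  have hSA : ∀ w, S (avg ρ A w) = avg ρ A (S w) := avg_twist S (subAut σ A hAσ).toEquiv fun b => hrel b
  have hSN : ∀ w, S (avg ρ N w) = avg ρ N (S w) := avg_twist S (subAut σ N hNσ).toEquiv fun b => hrel b
  have hρA : ∀ g w, ρ g (avg ρ A w) = avg ρ A (ρ g w) := fun g w =>
    avg_comm (ρ g) w fun b => LinearMap.congr_fun (hYc b (hAY b.2) g).eq.symm w
  have hTA : ∀ w, T (avg ρ A w) = avg ρ A (T w) := fun w =>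
    avg_comm T w fun b => LinearMap.congr_fun (hTY b (hAY b.2)).eq w
  have hAfix : ∀ w, avg ρ A w = w → ∀ a ∈ A, ρ a w = w := fun w hw a ha => by
    have h1 := rho_avg (ρ := ρ) (⟨a, ha⟩ : A) w
    rw [hw] at h1
    exact h1
  -- the part moved by the centre
  have key1 : ∀ w, avg ρ A w = 0 → T w = 0 := by
    let W1 : Submodule F M := LinearMap.ker (avg ρ A)
    have hW1ρ : ∀ g, ∀ w ∈ W1, ρ g w ∈ W1 := fun g w hw => by
      rw [LinearMap.mem_ker, ← hρA, LinearMap.mem_ker.mp hw, map_zero]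
    have hW1S : ∀ w ∈ W1, S w ∈ W1 := fun w hw => by
      rw [LinearMap.mem_ker, ← hSA, LinearMap.mem_ker.mp hw, map_zero]
    have hW1T : ∀ w ∈ W1, T w ∈ W1 := fun w hw => by
      rw [LinearMap.mem_ker, ← hTA, LinearMap.mem_ker.mp hw, map_zero]
    have hfix : ∀ w ∈ W1, S w = w → T w = 0 := fun w hw hSw =>
      push (ρ := ρ.comp A.subtype) (σ := subAut σ A hAσ) hr hS (fun g => hrel g)
        (hR.to_subgroup A).isNilpotent (subAut_gen hAσ hAgen) 𝒦 (fun K hK g => hcl K hK g) hinter
        (W := W1) (fun g w hw => hW1ρ g w hw)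
        (fun K hK => le_of_moved hcA (fun w hw => LinearMap.mem_ker.mp hw) K hK) T hW1T
        (fun g w _ => LinearMap.congr_fun (hTY g (hAY g.2)).eq w) (fun w _ hSw K hK hK' => hT w hSw K hK hK') hw hSw
    intro w hw
    refine orbit_kill hr hS hrel (A := A) hAσ (fun a _ => hW1ρ a) hW1S hW1T
      (fun a ha u _ => LinearMap.congr_fun (hTY a (hAY ha)).eq u) (fun u _ => LinearMap.congr_fun hTS.eq u)
      (fun a ha b _ u _ => LinearMap.congr_fun (hYc a (hAY ha) b).eq u) ?_ hfix (LinearMap.mem_ker.mpr hw)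
    intro u hu hub
    have hle : ∀ a ∈ A, ρ a u = u := by
      let K : Subgroup R :=
        { carrier := {g | ρ g u = u}
          one_mem' := by simp
          mul_mem' := fun {a b} ha hb => by
            change ρ (a * b) u = u
            rw [map_mul, Module.End.mul_apply, hb, ha]
          inv_mem' := fun {a} ha => by
            change ρ a⁻¹ u = u
            conv_lhs => rw [← show ρ a u = u from ha]
            rw [← Module.End.mul_apply, rho_cancel', Module.End.one_apply] }
      have hle' : movedSub σ A ≤ K := by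
        refine (Subgroup.closure_le _).mpr ?_
        rintro _ ⟨b, hb, rfl⟩
        change ρ (b⁻¹ * σ b) u = u
        rw [map_mul, Module.End.mul_apply, hub b hb, ← Module.End.mul_apply, rho_cancel', Module.End.one_apply]
      intro a ha
      exact hle' (hAgen.symm ▸ ha)
    have h1 : avg ρ A u = 0 := LinearMap.mem_ker.mp hu
    rwa [avg_fix hcA fun b => hle b b.2] at h1
  -- the part fixed by the moved centre
  have key2 : ∀ w, avg ρ A w = w → avg ρ N w = 0 → T w = 0 := by
    let W2 : Submodule F M := LinearMap.ker (avg ρ A - 1) ⊓ LinearMap.ker (avg ρ N)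
    have hmem : ∀ w, w ∈ W2 ↔ avg ρ A w = w ∧ avg ρ N w = 0 := fun w => by
      simp [W2, sub_eq_zero]
    have hρN : ∀ y ∈ Y, ∀ w, ρ y (avg ρ N w) = avg ρ N (ρ y w) := fun y hy w =>
      avg_comm (ρ y) w fun b => LinearMap.congr_fun (hYc y hy b).eq w
    have hW2N : ∀ g ∈ N, ∀ w ∈ W2, ρ g w ∈ W2 := fun g hg w hw => by
      obtain ⟨h1, h2⟩ := (hmem w).mp hw
      exact (hmem _).mpr ⟨by rw [← hρA, h1], by rw [avg_rho (⟨g, hg⟩ : N), h2]⟩
    have hW2Y : ∀ y ∈ Y, ∀ w ∈ W2, ρ y w ∈ W2 := fun y hy w hw => by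
      obtain ⟨h1, h2⟩ := (hmem w).mp hw
      exact (hmem _).mpr ⟨by rw [← hρA, h1], by rw [← hρN y hy, h2, map_zero]⟩
    have hW2S : ∀ w ∈ W2, S w ∈ W2 := fun w hw => by
      obtain ⟨h1, h2⟩ := (hmem w).mp hw
      exact (hmem _).mpr ⟨by rw [← hSA, h1], by rw [← hSN, h2, map_zero]⟩
    have hTn : ∀ g ∈ N, ∀ w ∈ W2, T (ρ g w) = ρ g (T w) := fun g hg w hw =>
      hTN g hg w (hAfix w ((hmem w).mp hw).1)
    have hW2T : ∀ w ∈ W2, T w ∈ W2 := fun w hw => by
      obtain ⟨h1, h2⟩ := (hmem w).mp hw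
      exact (hmem _).mpr ⟨by rw [← hTA, h1],
        by rw [← avg_comm T w fun b => hTn b b.2 w hw, h2, map_zero]⟩
    have hfix : ∀ w ∈ W2, S w = w → T w = 0 := fun w hw hSw =>
      push (ρ := ρ.comp N.subtype) (σ := subAut σ N hNσ) hr hS (fun g => hrel g)
        (hR.to_subgroup N).isNilpotent (subAut_gen hNσ hNgen) 𝒦 (fun K hK g => hcl K hK g) hinter
        (W := W2) (fun g w hw => hW2N g g.2 w hw)
        (fun K hK => le_of_moved hcN (fun w hw => ((hmem w).mp hw).2) K hK) T hW2T
        (fun g w hw => hTn g g.2 w hw) (fun w _ hSw K hK hK' => hT w hSw K hK hK') hw hSw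
    -- operators on the part
    let ρ2 : N →* Module.End F W2 :=
      { toFun := fun g => (ρ g).restrict (hW2N g g.2)
        map_one' := LinearMap.ext fun u => Subtype.ext (LinearMap.congr_fun (map_one ρ) (u : M))
        map_mul' := fun a b => LinearMap.ext fun u => Subtype.ext (LinearMap.congr_fun (map_mul ρ (a : R) b) (u : M)) }
    let Z2 : Y →* Module.End F W2 :=
      { toFun := fun y => (ρ y).restrict (hW2Y y y.2)
        map_one' := LinearMap.ext fun u => Subtype.ext (LinearMap.congr_fun (map_one ρ) (u : M))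
        map_mul' := fun a b => LinearMap.ext fun u => Subtype.ext (LinearMap.congr_fun (map_mul ρ (a : R) b) (u : M)) }
    let S2 : Module.End F W2 := S.restrict hW2S
    let T2 : Module.End F W2 := T.restrict hW2T
    let E := AlgebraicClosure F
    have htE : (t : E) ≠ 0 := by rw [← map_natCast (algebraMap F E)]; exact (map_ne_zero _).mpr ht
    have hrE : (r : E) ≠ 0 := by rw [← map_natCast (algebraMap F E)]; exact (map_ne_zero _).mpr hrF
    have hS2 : S2 ^ r = 1 := by
      rw [Module.End.pow_restrict r]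
      refine LinearMap.ext fun u => Subtype.ext ?_
      rw [LinearMap.coe_restrict_apply, hS]
      rfl
    have hact : Act (bcRep E ρ2) (subAut σ N hNσ) (bcH E S2) r := by
      refine ⟨fun n => ?_, hr, by rw [← map_pow, hS2, map_one], subAut_gen hNσ hNgen⟩
      rw [bcRep_apply, bcRep_apply, ← map_mul, ← map_mul]
      exact congrArg (bcH E) (LinearMap.ext fun u => Subtype.ext (LinearMap.congr_fun (hrel n) (u : M)))
    have hYS : ∀ y : Y, Commute (Z2 y) S2 := fun y => LinearMap.ext fun u => Subtype.ext (by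
      change ρ (y : R) (S (u : M)) = S (ρ (y : R) (u : M))
      have h1 := hAfix _ ((hmem _).mp (hW2S u u.2)).1 _ (moved_mem (σ := σ) y.2)
      rw [← Module.End.mul_apply S, hrel, Module.End.mul_apply]
      conv_rhs => rw [show σ (y : R) = y * ((y : R)⁻¹ * σ y) from (mul_inv_cancel_left _ _).symm, map_mul,
        Module.End.mul_apply, h1])
    have h0 : bcH E T2 = 0 := by
      refine classTwo_kill (T := bcH E T2) (hR.to_subgroup N) htE hrE hact ?_ (Z := fun y : Y => bcH E (Z2 y)) ?_ ?_ ?_ ?_ ?_ ?_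
        ?_ ?_ (no_fixed E ρ2 hcN fun u hu => Subtype.ext ?_) ?_
      · intro a b c
        refine (show Commute (ρ2 ⁅a, b⁆) (ρ2 c) from ?_).map (bcH E)
        exact LinearMap.ext fun u => Subtype.ext
          (LinearMap.congr_fun (hYc _ (hRR (a : R) b) (c : R)).eq (u : M))
      · intro y
        obtain ⟨k, hk⟩ := hR.to_subgroup Y y
        exact ⟨t ^ k, by rw [Nat.cast_pow]; exact pow_ne_zero _ htE,
          by rw [← map_pow, ← map_pow, hk, map_one, map_one]⟩
      · intro y n
        exact (show Commute (Z2 y) (ρ2 n) from LinearMap.ext fun u => Subtype.ext (LinearMap.congr_fun (hYc y y.2 n).eq (u : M))).map (bcH E)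
      · exact fun y => (hYS y).map (bcH E)
      · intro y
        exact (show Commute (Z2 y) T2 from
          LinearMap.ext fun u => Subtype.ext (LinearMap.congr_fun (hTY y y.2).eq.symm (u : M))).map (bcH E)
      · intro y y'
        exact (show Commute (Z2 y) (Z2 y') from LinearMap.ext fun u => Subtype.ext (LinearMap.congr_fun (hYc y y.2 y').eq (u : M))).map (bcH E)
      · intro n
        exact (show Commute T2 (ρ2 n) from LinearMap.ext fun u => Subtype.ext (hTn n n.2 u u.2)).map (bcH E)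
      · exact (show Commute T2 S2 from LinearMap.ext fun u => Subtype.ext (LinearMap.congr_fun hTS.eq (u : M))).map (bcH E)
      · intro x hx
        have h1 := fixed_span E hS2 hrF hx
        clear hx
        induction h1 using Submodule.span_induction with
        | mem z hz =>
          obtain ⟨u, hu, rfl⟩ := hz
          rw [bcH_tmul, show T2 u = 0 from Subtype.ext (hfix u u.2 (congrArg Subtype.val hu)), TensorProduct.tmul_zero]
        | zero => simp
        | add a b _ _ ha hb => rw [map_add, ha, hb, add_zero]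
        | smul e a _ ha => rw [map_smul, ha, smul_zero]
      · -- no fixed vectors
        have h1 := ((hmem _).mp u.2).2
        exact ((avg_fix (ρ := ρ) hcN (v := (u : M)) fun b => congrArg Subtype.val (hu b)).symm.trans h1)
      · intro U hU hU0 hUS hUZ hnd
        obtain ⟨u₀, hu₀, hu₀0⟩ := Submodule.exists_mem_ne_zero_of_ne_bot hU0
        choose cc hcc using hUZ
        let χ : R → E := fun g => if hg : g ∈ Y then cc ⟨g, hg⟩ else 1
        have hχ : ∀ y : Y, ∀ u ∈ U, bcH E (Z2 y) u = χ (y : R) • u := fun y u hu => by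
          simp only [χ, dif_pos y.2]; exact hcc y u hu
        have huniq : ∀ (y : Y) (e : E), bcH E (Z2 y) u₀ = e • u₀ → χ (y : R) = e := fun y e he =>
          smul_left_injective E hu₀0 ((hχ y u₀ hu₀).symm.trans he)
        have hmul : ∀ y ∈ Y, ∀ z ∈ Y, χ (y * z) = χ y * χ z := by
          intro y hy z hz
          refine huniq ⟨y * z, Y.mul_mem hy hz⟩ _ ?_
          rw [show (⟨y * z, Y.mul_mem hy hz⟩ : Y) = ⟨y, hy⟩ * ⟨z, hz⟩ from rfl, map_mul, map_mul,
            Module.End.mul_apply, hχ ⟨z, hz⟩ u₀ hu₀, map_smul, hχ ⟨y, hy⟩ u₀ hu₀, smul_smul, mul_comm]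
        have hker : ∀ y ∈ Y, ρ y = 1 → χ y = 1 := by
          intro y hy h1
          refine huniq ⟨y, hy⟩ _ ?_
          rw [show Z2 ⟨y, hy⟩ = 1 from LinearMap.ext fun u => Subtype.ext (LinearMap.congr_fun h1 (u : M)),
            map_one, one_smul]
          rfl
        have hσχ : ∀ y ∈ Y, χ (σ y) = χ y := by
          intro y hy
          refine huniq ⟨σ y, hYσ y hy⟩ _ ?_
          rw [← hχ ⟨y, hy⟩ u₀ hu₀]
          refine LinearMap.congr_fun (congrArg (bcH E) (LinearMap.ext fun u => Subtype.ext ?_)) u₀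
          change ρ (σ y) (u : M) = ρ y (u : M)
          rw [show σ y = y * (y⁻¹ * σ y) from (mul_inv_cancel_left _ _).symm, map_mul, Module.End.mul_apply,
            hAfix _ ((hmem _).mp u.2).1 _ (moved_mem hy)]
        have hrad : ∀ g : N, g ∈ scal (res (bcRep E ρ2) U hU) ↔ ∀ k : N, χ ⁅(g : R), (k : R)⁆ = 1 := by
          intro g
          have hco : ∀ (k : N) (u : U), res (bcRep E ρ2) U hU ⁅g, k⁆ u = χ ⁅(g : R), (k : R)⁆ • u := fun k u =>
            Subtype.ext (by
              rw [res_apply, SetLike.val_smul, ← hχ ⟨_, hRR (g : R) k⟩ (u : E ⊗[F] W2) u.2]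
              rfl)
          constructor
          · rintro ⟨e, he⟩ k
            refine smul_left_injective E (M := U) (show (⟨u₀, hu₀⟩ : U) ≠ 0 from fun h0 => hu₀0 (congrArg Subtype.val h0)) ?_
            change χ ⁅(g : R), (k : R)⁆ • (⟨u₀, hu₀⟩ : U) = (1 : E) • (⟨u₀, hu₀⟩ : U)
            have hc : Commute (res (bcRep E ρ2) U hU g) (res (bcRep E ρ2) U hU k) := by
              rw [he]; exact (Commute.one_left _).smul_left e
            rw [← hco k, one_smul, commutatorElement_def, map_mul, map_mul, map_mul, hc.eq]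
            simp only [← map_mul]
            rw [mul_inv_cancel_right, mul_inv_cancel, map_one]
            rfl
          · intro hk
            refine hnd.center g fun k => LinearMap.ext fun u => ?_
            have h1 := hco k (res (bcRep E ρ2) U hU (k * g) u)
            rw [hk k, one_smul, ← Module.End.mul_apply, ← map_mul,
              show ⁅g, k⁆ * (k * g) = g * k by rw [commutatorElement_def]; group, map_mul, map_mul] at h1
            exact h1
        have h1 := hNE χ hmul hker hσχ _ hrad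
        rwa [Subgroup.index_eq_card] at h1
    intro w h1 h2
    have h3 : T2 = 0 := bcH_injective E (h0.trans (map_zero (bcH E)).symm)
    exact congrArg Subtype.val (LinearMap.congr_fun h3 ⟨w, (hmem w).mpr ⟨h1, h2⟩⟩)
  set u := ρ g v - v
  have hu : avg ρ N u = 0 := by rw [map_sub, avg_rho (⟨g, hg⟩ : N), sub_self]
  have e1 := key1 (u - avg ρ A u) (sub_avg_ker hcA u)
  have e2 := key2 (avg ρ A u) (avg_fix hcA fun b => rho_avg b u) (by
    rw [avg_comm (avg ρ N) u fun b =>
      (avg_comm (ρ (b : R)) u fun n => LinearMap.congr_fun (hYc b (hAY b.2) n).eq u).symm, hu, map_zero])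
  rw [map_sub, e2, sub_zero] at e1
  exact e1

end Cfsg.Agent.Turull
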