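import Cfsg.Agent.Turull.Lift
import Cfsg.Agent.Turull.Step

/-!
The sections of a tower as modules.
-/

set_option autoImplicit false
set_option maxHeartbeats 1000000

open Subgroup
open scoped commutatorElement

namespace Cfsg.Agent.Turull

universe u

variable {Γ : Type u} [Group Γ]

/-- A section as a space over the prime field with the action of its normaliser. -/
structure SecRep (P Y : Subgroup Γ) (q : ℕ) (M : Type u) [AddCommGroup M] [Module (ZMod q) M] where
  π : P → M
  rep : ↥(normalizer (P : Set Γ) ⊓ normalizer (Y : Set Γ)) →* Module.End (ZMod q) M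
  surj : Function.Surjective π
  mul : ∀ a b, π (a * b) = π a + π b
  ker : ∀ a : P, π a = 0 ↔ (a : Γ) ∈ Y
  conj : ∀ (h : ↥(normalizer (P : Set Γ) ⊓ normalizer (Y : Set Γ))) (x : P),
    rep h (π x) = π ⟨(h : Γ) * x * (h : Γ)⁻¹, (Subgroup.mem_normalizer_iff.mp h.2.1 x).mp x.2⟩

theorem secRep_of_surj {P Y : Subgroup Γ} {q : ℕ} {A : Type u} [AddCommGroup A] [Module (ZMod q) A] (π : P → A)
    (surj : Function.Surjective π) (mul : ∀ a b, π (a * b) = π a + π b)
    (ker : ∀ a : P, π a = 0 ↔ (a : Γ) ∈ Y) : Nonempty (SecRep P Y q A) := by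
  classical
  let H := normalizer (P : Set Γ) ⊓ normalizer (Y : Set Γ)
  let cj : H → P → P := fun h x => ⟨(h : Γ) * x * (h : Γ)⁻¹, (Subgroup.mem_normalizer_iff.mp h.2.1 x).mp x.2⟩
  have hone : π 1 = 0 := (ker 1).mpr Y.one_mem
  have hinv : ∀ a, π a⁻¹ = -π a := fun a => eq_neg_of_add_eq_zero_left (by rw [← mul, inv_mul_cancel, hone])
  have hwd : ∀ (h : H) (x y : P), π x = π y → π (cj h x) = π (cj h y) := by
    intro h x y e
    have h1 : π (x * y⁻¹) = 0 := by rw [mul, hinv, e, add_neg_cancel]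
    have h2 : π (cj h (x * y⁻¹)) = 0 := (ker _).mpr ((Subgroup.mem_normalizer_iff.mp h.2.2 _).mp ((ker _).mp h1))
    have h3 : cj h (x * y⁻¹) = cj h x * (cj h y)⁻¹ := Subtype.ext (by simp [cj, mul_assoc])
    rw [h3, mul, hinv, ← sub_eq_add_neg] at h2
    exact sub_eq_zero.mp h2
  let f : H → A → A := fun h v => π (cj h (Function.surjInv surj v))
  have hf : ∀ (h : H) (x : P), f h (π x) = π (cj h x) := fun h x => hwd h _ _ (Function.surjInv_eq surj _)
  have hadd : ∀ (h : H) (v w : A), f h (v + w) = f h v + f h w := by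
    intro h v w
    obtain ⟨x, rfl⟩ := surj v
    obtain ⟨y, rfl⟩ := surj w
    rw [← mul, hf, hf, hf, ← mul]
    exact congrArg π (Subtype.ext (by simp [cj, mul_assoc]))
  let rep : H →* Module.End (ZMod q) A :=
    { toFun := fun h => (AddMonoidHom.mk' (f h) (hadd h)).toZModLinearMap q
      map_one' := LinearMap.ext fun v => by
        obtain ⟨x, rfl⟩ := surj v
        change f 1 (π x) = π x
        rw [hf]
        exact congrArg π (Subtype.ext (by simp [cj]))
      map_mul' := fun a b => LinearMap.ext fun v => by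
        obtain ⟨x, rfl⟩ := surj v
        change f (a * b) (π x) = f a (f b (π x))
        rw [hf (a * b), hf b, hf a]
        exact congrArg π (Subtype.ext (by simp [cj, mul_assoc])) }
  exact ⟨⟨π, rep, surj, mul, ker, fun h x => hf h x⟩⟩

theorem exists_secRep [Finite Γ] {P Y : Subgroup Γ} {q : ℕ} [Fact q.Prime] (hn : P ≤ normalizer (Y : Set Γ))
    (hcomm : ⁅P, P⁆ ≤ Y) (hpow : ∀ x ∈ P, x ^ q ∈ Y) :
    ∃ (M : Type u) (_ : AddCommGroup M) (_ : Module (ZMod q) M) (_ : Finite M), Nonempty (SecRep P Y q M) := by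
  classical
  haveI : (Y.subgroupOf P).Normal := normal_subgroupOf_of_le_normalizer hn
  have hc : ∀ a b : P ⧸ Y.subgroupOf P, a * b = b * a := by
    intro a b
    induction a using QuotientGroup.induction_on with
    | H g =>
    induction b using QuotientGroup.induction_on with
    | H k =>
      rw [← QuotientGroup.mk_mul, ← QuotientGroup.mk_mul, QuotientGroup.eq, Subgroup.mem_subgroupOf]
      have e : (((g * k)⁻¹ * (k * g) : P) : Γ) = ⁅(k : Γ)⁻¹, (g : Γ)⁻¹⁆ := by
        simp only [commutatorElement_def, Subgroup.coe_mul, Subgroup.coe_inv]; group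
      rw [e]
      exact hcomm (commutator_mem_commutator (P.inv_mem k.2) (P.inv_mem g.2))
  letI : CommGroup (P ⧸ Y.subgroupOf P) :=
    { (inferInstance : Group (P ⧸ Y.subgroupOf P)) with mul_comm := hc }
  have hq : ∀ x : Additive (P ⧸ Y.subgroupOf P), q • x = 0 := by
    intro x
    obtain ⟨g, hg⟩ := QuotientGroup.mk'_surjective (Y.subgroupOf P) (Additive.toMul x)
    apply Additive.toMul.injective
    rw [toMul_nsmul, toMul_zero, ← hg, ← map_pow]
    exact (QuotientGroup.eq_one_iff (g ^ q)).mpr (hpow g g.2)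
  letI : Module (ZMod q) (Additive (P ⧸ Y.subgroupOf P)) := AddCommGroup.zmodModule hq
  let π : P → Additive (P ⧸ Y.subgroupOf P) := fun g => Additive.ofMul (QuotientGroup.mk g)
  have hker : ∀ a : P, π a = 0 ↔ (a : Γ) ∈ Y := fun a => (QuotientGroup.eq_one_iff a).trans Iff.rfl
  have hsurj : Function.Surjective π := fun x => by
    obtain ⟨g, hg⟩ := QuotientGroup.mk'_surjective (Y.subgroupOf P) (Additive.toMul x)
    exact ⟨g, congrArg Additive.ofMul hg⟩
  exact ⟨_, inferInstance, inferInstance, inferInstance, secRep_of_surj π hsurj (fun a b => rfl) hker⟩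

namespace SecRep

variable {P Y : Subgroup Γ} {q : ℕ} {M : Type u} [AddCommGroup M] [Module (ZMod q) M]

theorem map_one (σ : SecRep P Y q M) : σ.π 1 = 0 := (σ.ker 1).mpr Y.one_mem

theorem map_inv (σ : SecRep P Y q M) (a : P) : σ.π a⁻¹ = -σ.π a :=
  eq_neg_of_add_eq_zero_left (by rw [← σ.mul, inv_mul_cancel, σ.map_one])

theorem sub_eq (σ : SecRep P Y q M) (h : ↥(normalizer (P : Set Γ) ⊓ normalizer (Y : Set Γ))) (x : P) :
    σ.rep h (σ.π x) - σ.π x = σ.π ⟨⁅(h : Γ), (x : Γ)⁆, by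
      rw [commutatorElement_def]
      exact P.mul_mem ((Subgroup.mem_normalizer_iff.mp h.2.1 x).mp x.2) (P.inv_mem x.2)⟩ := by
  rw [σ.conj, sub_eq_add_neg, ← σ.map_inv, ← σ.mul]
  exact congrArg σ.π (Subtype.ext rfl)

theorem fix_iff (σ : SecRep P Y q M) (h : ↥(normalizer (P : Set Γ) ⊓ normalizer (Y : Set Γ))) (x : P) :
    σ.rep h (σ.π x) = σ.π x ↔ ⁅(h : Γ), (x : Γ)⁆ ∈ Y := by
  rw [← sub_eq_zero, σ.sub_eq, σ.ker]

theorem rep_eq_one_iff (σ : SecRep P Y q M) (h : ↥(normalizer (P : Set Γ) ⊓ normalizer (Y : Set Γ))) :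
    σ.rep h = 1 ↔ ∀ x ∈ P, ⁅x, (h : Γ)⁆ ∈ Y := by
  constructor
  · intro h1 x hx
    have h2 := (σ.fix_iff h ⟨x, hx⟩).mp (by rw [h1]; rfl)
    rw [← commutatorElement_inv]
    exact Y.inv_mem h2
  · intro h1
    refine LinearMap.ext fun v => ?_
    obtain ⟨x, rfl⟩ := σ.surj v
    refine (σ.fix_iff h x).mpr ?_
    rw [← commutatorElement_inv]
    exact Y.inv_mem (h1 x x.2)

/-- The image of a subgroup. -/
def imgSub (σ : SecRep P Y q M) (U : Subgroup Γ) : Submodule (ZMod q) M :=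
  AddSubgroup.toZModSubmodule q
    { carrier := {v | ∃ x : P, (x : Γ) ∈ U ∧ σ.π x = v}
      zero_mem' := ⟨1, U.one_mem, σ.map_one⟩
      add_mem' := by
        rintro _ _ ⟨a, ha, rfl⟩ ⟨b, hb, rfl⟩
        exact ⟨a * b, U.mul_mem ha hb, σ.mul a b⟩
      neg_mem' := by
        rintro _ ⟨a, ha, rfl⟩
        exact ⟨a⁻¹, U.inv_mem ha, σ.map_inv a⟩ }

theorem mem_imgSub (σ : SecRep P Y q M) (U : Subgroup Γ) (v : M) :
    v ∈ σ.imgSub U ↔ ∃ x : P, (x : Γ) ∈ U ∧ σ.π x = v := Iff.rfl

/-- The preimage of a subspace. -/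
def preSub (σ : SecRep P Y q M) (K : Submodule (ZMod q) M) : Subgroup Γ :=
  ({ carrier := {x : P | σ.π x ∈ K}
     one_mem' := by change σ.π 1 ∈ K; rw [σ.map_one]; exact K.zero_mem
     mul_mem' := fun {a b} ha hb => by
      change σ.π (a * b) ∈ K
      rw [σ.mul]
      exact K.add_mem ha hb
     inv_mem' := fun {a} ha => by
      change σ.π a⁻¹ ∈ K
      rw [σ.map_inv]
      exact K.neg_mem ha } : Subgroup P).map P.subtype

theorem mem_preSub (σ : SecRep P Y q M) (K : Submodule (ZMod q) M) (x : Γ) :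
    x ∈ σ.preSub K ↔ ∃ hx : x ∈ P, σ.π ⟨x, hx⟩ ∈ K := by
  constructor
  · rintro ⟨a, ha, rfl⟩
    exact ⟨a.2, ha⟩
  · rintro ⟨hx, h⟩
    exact ⟨⟨x, hx⟩, h, rfl⟩

end SecRep

/-- Commutation with `s` and its powers. -/
theorem commutator_zpowers_eq [Finite Γ] {s : Γ} {B : Subgroup Γ} (hs : s ∈ normalizer (B : Set Γ)) :
    ⁅B, zpowers s⁆ = Subgroup.closure ((fun b => ⁅b, s⁆) '' (B : Set Γ)) := by
  refine le_antisymm (commutator_le.mpr fun b hb t ht => ?_) ((closure_le _).mpr ?_)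
  · set T := Subgroup.closure ((fun b => ⁅b, s⁆) '' (B : Set Γ))
    have hconj : ∀ z ∈ T, s * z * s⁻¹ ∈ T := by
      intro z hz
      have hle : T ≤ T.comap (MulAut.conj s).toMonoidHom := by
        refine (closure_le _).mpr ?_
        rintro _ ⟨a, ha, rfl⟩
        refine subset_closure ⟨s * a * s⁻¹, (Subgroup.mem_normalizer_iff.mp hs a).mp ha, ?_⟩
        change ⁅s * a * s⁻¹, s⁆ = MulAut.conj s ⁅a, s⁆
        rw [MulAut.conj_apply, commutatorElement_def, commutatorElement_def]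
        group
      exact hle hz
    obtain ⟨n, rfl⟩ := mem_powers_iff_mem_zpowers.mpr ht
    have key : ∀ n : ℕ, ∀ a ∈ B, ⁅a, s ^ n⁆ ∈ T := by
      intro n
      induction n with
      | zero => intro a _; rw [pow_zero, commutatorElement_one_right]; exact T.one_mem
      | succ n ih =>
        intro a ha
        have e : ⁅a, s ^ (n + 1)⁆ = ⁅a, s⁆ * (s * ⁅a, s ^ n⁆ * s⁻¹) := by
          rw [pow_succ']; simp only [commutatorElement_def]; group
        rw [e]
        exact T.mul_mem (subset_closure ⟨a, ha, rfl⟩) (hconj _ (ih a ha))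
    exact key n b hb
  · rintro _ ⟨b, hb, rfl⟩
    exact commutator_mem_commutator hb (mem_zpowers s)

/-- Conjugation by an element of the normaliser. -/
def conjOn (P : Subgroup Γ) {g : Γ} (hg : g ∈ normalizer (P : Set Γ)) : P ≃* P where
  toFun x := ⟨g * x * g⁻¹, (Subgroup.mem_normalizer_iff.mp hg x).mp x.2⟩
  invFun x := ⟨g⁻¹ * x * g, (Subgroup.mem_normalizer_iff''.mp hg x).mp x.2⟩
  left_inv x := Subtype.ext (by simp [mul_assoc])
  right_inv x := Subtype.ext (by simp [mul_assoc])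
  map_mul' a b := Subtype.ext (by simp [mul_assoc])

theorem conjOn_apply {P : Subgroup Γ} {g : Γ} (hg : g ∈ normalizer (P : Set Γ)) (x : P) :
    ((conjOn P hg x : P) : Γ) = g * x * g⁻¹ := rfl

theorem conjOn_iterate {P : Subgroup Γ} {g : Γ} (hg : g ∈ normalizer (P : Set Γ)) (n : ℕ) (x : P) :
    (((conjOn P hg)^[n] x : P) : Γ) = g ^ n * x * (g ^ n)⁻¹ := by
  induction n with
  | zero => simp
  | succ n ih => rw [Function.iterate_succ_apply', conjOn_apply, ih, pow_succ', mul_inv_rev]; simp only [mul_assoc]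

theorem map_movedSub [Finite Γ] {P : Subgroup Γ} {s : Γ} (hs : s ∈ normalizer (P : Set Γ)) (B : Subgroup P)
    (hsB : s ∈ normalizer ((B.map P.subtype : Subgroup Γ) : Set Γ)) :
    (movedSub (conjOn P hs) B).map P.subtype = ⁅B.map P.subtype, zpowers s⁆ := by
  rw [commutator_zpowers_eq hsB, movedSub, MonoidHom.map_closure, ← Set.image_comp, Subgroup.coe_map,
    ← Set.image_comp]
  refine congrArg _ (Set.ext fun z => ⟨?_, ?_⟩)
  · rintro ⟨b, hb, rfl⟩
    refine ⟨b⁻¹, B.inv_mem hb, ?_⟩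
    simp [commutatorElement_def, conjOn_apply, mul_assoc]
  · rintro ⟨b, hb, rfl⟩
    refine ⟨b⁻¹, B.inv_mem hb, ?_⟩
    simp [commutatorElement_def, conjOn_apply, mul_assoc]

/-- Moving twice is moving once. -/
theorem movedSub_idem [Finite Γ] {P : Subgroup Γ} {s : Γ} (hs : s ∈ normalizer (P : Set Γ)) (B : Subgroup P)
    (hsB : s ∈ normalizer ((B.map P.subtype : Subgroup Γ) : Set Γ))
    (hcop : (Nat.card (zpowers s)).Coprime (Nat.card (B.map P.subtype : Subgroup Γ))) :
    movedSub (conjOn P hs) (movedSub (conjOn P hs) B) = movedSub (conjOn P hs) B := by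
  apply Subgroup.map_injective P.subtype_injective
  have h1 := map_movedSub hs B hsB
  have h2 : s ∈ normalizer ((⁅B.map P.subtype, zpowers s⁆ : Subgroup Γ) : Set Γ) :=
    Coprime.le_normalizer_commutator (mem_sup_right (mem_zpowers s))
  rw [map_movedSub hs _ (h1.symm ▸ h2), h1]
  exact Coprime.commutator_commutator_eq (mem_normalizer_iff_le.mp hsB) hcop
    (Or.inl (isSolvable_of_comm fun a b => mul_comm' a b))

end Cfsg.Agent.Turull
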