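import Cfsg.Agent.Turull.Sections

/-!
A tower together with the first layer that the operator moves.
-/

set_option autoImplicit false
set_option maxHeartbeats 1000000

open Subgroup
open scoped commutatorElement

namespace Cfsg.Agent.Turull

universe u

variable {Γ : Type u} [Group Γ]

/-- A tower and the first layer `k` that `s` moves. -/
structure Tw (s : Γ) (r : ℕ) (G₀ : Subgroup Γ) (m : ℕ) (P D Y : ℕ → Subgroup Γ) (q : ℕ → ℕ) (k : ℕ) :
    Prop where
  ctx : Ctx s r G₀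
  lay : Layers s m P D Y q
  sub : ∀ i ≤ m, P i ≤ G₀
  below : ∀ j ≤ m, j < k → P j ≤ centralizer {s}
  moved : k ≤ m → ¬ P k ≤ centralizer {s}

/-- The elements normalising a layer and its Frattini part. -/
abbrev nrm (P Y : ℕ → Subgroup Γ) (i : ℕ) : Subgroup Γ :=
  normalizer (P i : Set Γ) ⊓ normalizer (Y i : Set Γ)

/-- The fixed elements of a layer. -/
abbrev fixC (s : Γ) (P : ℕ → Subgroup Γ) (i : ℕ) : Subgroup Γ := P i ⊓ centralizer {s}

/-- An element that acts trivially on the moved part of the next section. -/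
def Good (s : Γ) (m : ℕ) (P Y : ℕ → Subgroup Γ) (i : ℕ) (x : Γ) : Prop :=
  if i < m then ∀ g ∈ ⁅P i, zpowers s⁆, ∀ y ∈ P (i + 1), ⁅x, ⁅g, y⁆⁆ ∈ Y (i + 1) else x ∈ Y i

theorem mem_centralizer_zpowers_iff {s x : Γ} :
    x ∈ centralizer (zpowers s : Set Γ) ↔ x ∈ centralizer {s} := by
  rw [mem_centralizer_iff, mem_centralizer_iff]
  refine ⟨fun h a ha => ha ▸ h s (mem_zpowers s), fun h a ha => ?_⟩
  obtain ⟨n, rfl⟩ := mem_zpowers_iff.mp ha
  exact ((show Commute s x from h s rfl).zpow_left n).eq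

theorem le_zpowers_normalizer {s : Γ} {K : Subgroup Γ} (h : s ∈ normalizer (K : Set Γ)) :
    zpowers s ≤ normalizer (K : Set Γ) := mem_normalizer_iff_le.mp h

theorem commutator_zpowers_invariant {A : Subgroup Γ} {s : Γ} {B : Subgroup Γ}
    (hB : A ≤ normalizer (B : Set Γ)) (hs : A ≤ centralizer {s}) :
    A ≤ normalizer ((⁅B, zpowers s⁆ : Subgroup Γ) : Set Γ) := by
  refine le_normalizer_commutator' hB fun a ha => ?_
  have h1 : a ∈ centralizer (zpowers s : Set Γ) := mem_centralizer_zpowers_iff.mpr (hs ha)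
  rw [Subgroup.mem_normalizer_iff]
  intro z
  constructor
  · intro hz
    rwa [← (mem_centralizer_iff.mp h1 z hz), mul_inv_cancel_right]
  · intro hz
    have h2 := mem_centralizer_iff.mp h1 _ hz
    have h3 : a * z * a⁻¹ = z := by
      have : a⁻¹ * (a * z * a⁻¹ * a) = a⁻¹ * (a * (a * z * a⁻¹)) := by rw [h2]
      simp only [mul_assoc, inv_mul_cancel, mul_one, inv_mul_cancel_left] at this
      simpa [mul_assoc] using this.symm
    rwa [h3] at hz

variable [Finite Γ] {s : Γ} {r : ℕ} {G₀ : Subgroup Γ} {m : ℕ} {P D Y : ℕ → Subgroup Γ} {q : ℕ → ℕ} {k : ℕ}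

namespace Tw

theorem fact (w : Tw s r G₀ m P D Y q k) {i : ℕ} (hi : i ≤ m) : Fact (q i).Prime := ⟨w.lay.prime i hi⟩

theorem ne_bot (w : Tw s r G₀ m P D Y q k) {i : ℕ} (hi : i ≤ m) : P i ≠ ⊥ := fun h =>
  (w.lay.le i hi).2.2 (h ▸ bot_le)

theorem q_ne_r (w : Tw s r G₀ m P D Y q k) {i : ℕ} (hi : i ≤ m) : q i ≠ r := by
  haveI := w.fact hi
  haveI : Nontrivial (P i) := (Subgroup.nontrivial_iff_ne_bot _).mpr (w.ne_bot hi)
  obtain ⟨n, hn, hc⟩ := (IsPGroup.nontrivial_iff_card (w.lay.pgrp i hi)).mp inferInstance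
  intro he
  refine w.ctx.cop (Dvd.dvd.trans ?_ (card_dvd_of_le (w.sub i hi)))
  rw [hc, he]
  exact dvd_pow_self r hn.ne'

theorem coprime_le (w : Tw s r G₀ m P D Y q k) {i j : ℕ} (hi : i ≤ m) (hj : j ≤ m) (hne : q i ≠ q j)
    {A B : Subgroup Γ} (hA : A ≤ P i) (hB : B ≤ P j) : (Nat.card A).Coprime (Nat.card B) := by
  haveI := w.fact hi
  haveI := w.fact hj
  obtain ⟨a, ha⟩ := IsPGroup.iff_card.mp ((w.lay.pgrp i hi).to_le hA)
  obtain ⟨b, hb⟩ := IsPGroup.iff_card.mp ((w.lay.pgrp j hj).to_le hB)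
  rw [ha, hb]
  exact Nat.Coprime.pow _ _ ((Nat.coprime_primes (w.lay.prime i hi) (w.lay.prime j hj)).mpr hne)

theorem coprime_s (w : Tw s r G₀ m P D Y q k) {i : ℕ} (hi : i ≤ m) {A : Subgroup Γ} (hA : A ≤ P i) :
    (Nat.card (zpowers s)).Coprime (Nat.card A) := w.ctx.coprime (hA.trans (w.sub i hi))

theorem solvable_zpowers (x : Γ) : Group.IsSolvable (zpowers x) :=
  Group.isSolvable_of_comm fun a b => mul_comm' a b

theorem le_nrm (w : Tw s r G₀ m P D Y q k) {i j : ℕ} (hi : i ≤ m) (hj : j < i) : P j ≤ nrm P Y i :=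
  le_inf ((w.lay.invP i hi).2 j hj) ((w.lay.invY i hi).2 j hj)

theorem self_le_nrm (w : Tw s r G₀ m P D Y q k) {i : ℕ} (hi : i ≤ m) : P i ≤ nrm P Y i :=
  le_inf Subgroup.le_normalizer (w.lay.normY i hi)

theorem s_mem_nrm (w : Tw s r G₀ m P D Y q k) {i : ℕ} (hi : i ≤ m) : s ∈ nrm P Y i :=
  ⟨(w.lay.invP i hi).1, (w.lay.invY i hi).1⟩

/-- A class fixed by `s` contains a fixed element. -/
theorem exists_fixed (w : Tw s r G₀ m P D Y q k) {i : ℕ} (hi : i ≤ m) {N : Subgroup Γ} (hN : N ≤ P i)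
    (hs : s ∈ normalizer (N : Set Γ)) {x : Γ} (hx : x ∈ P i) (h : x⁻¹ * (s * x * s⁻¹) ∈ N) :
    ∃ c ∈ fixC s P i, x⁻¹ * c ∈ N := by
  obtain ⟨n, hn, hc⟩ := Coprime.exists_fixed_mem_leftCoset (A := zpowers s) (N := N)
    (le_zpowers_normalizer hs) (w.coprime_s hi hN) (Or.inl (solvable_zpowers s)) (k := x) (by
      intro a ha
      obtain ⟨n, rfl⟩ := mem_powers_iff_mem_zpowers.mpr ha
      induction n with
      | zero => simp
      | succ n ih =>
        have e : x⁻¹ * (s ^ (n + 1) * x * (s ^ (n + 1))⁻¹) =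
            x⁻¹ * (s * x * s⁻¹) * (s * (x⁻¹ * (s ^ n * x * (s ^ n)⁻¹)) * s⁻¹) := by
          rw [pow_succ']; group
        rw [e]
        exact N.mul_mem h ((Subgroup.mem_normalizer_iff.mp hs _).mp (ih (pow_mem (mem_zpowers s) n))))
  exact ⟨x * n, ⟨(P i).mul_mem hx (hN hn), mem_centralizer_zpowers_iff.mp hc⟩, by
    rwa [inv_mul_cancel_left]⟩

/-- Trivial action on the next section is trivial action on the next layer. -/
theorem trivial_iff (w : Tw s r G₀ m P D Y q k) {i : ℕ} (hi : i < m) {x : Γ} (hx : x ∈ P i) :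
    (∀ y ∈ P (i + 1), ⁅y, x⁆ ∈ Y (i + 1)) ↔ x ∈ D i := by
  refine ⟨fun h => ?_, fun h y hy => (w.lay.le (i + 1) hi).1 ((w.lay.ker i hi x hx).mp h y hy)⟩
  have hzP : zpowers x ≤ P i := zpowers_le.mpr hx
  have hn : zpowers x ≤ normalizer (P (i + 1) : Set Γ) := hzP.trans ((w.lay.invP (i + 1) hi).2 i (by omega))
  have h1 : ⁅P (i + 1), zpowers x⁆ ≤ Y (i + 1) := by
    rw [commutator_le]
    intro y hy t ht
    obtain ⟨n, rfl⟩ := mem_powers_iff_mem_zpowers.mpr ht
    induction n with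
    | zero => simp
    | succ n ih =>
      have e : ⁅y, x ^ (n + 1)⁆ = ⁅y, x⁆ * (x * ⁅y, x ^ n⁆ * x⁻¹) := by
        rw [pow_succ']; simp only [commutatorElement_def]; group
      rw [e]
      exact (Y (i + 1)).mul_mem (h y hy) ((Subgroup.mem_normalizer_iff.mp
        ((w.lay.invY (i + 1) hi).2 i (by omega) hx) _).mp (ih (pow_mem (mem_zpowers x) n)))
  have h2 := Coprime.commutator_commutator_eq hn (w.coprime_le hi.le hi (w.lay.ne i hi) hzP le_rfl)
    (Or.inl (solvable_zpowers x))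
  refine (w.lay.ker i hi x hx).mpr fun y hy => ?_
  have h3 : ⁅⁅P (i + 1), zpowers x⁆, zpowers x⁆ ≤ D (i + 1) :=
    (commutator_mono h1 hzP).trans (w.lay.actY i hi)
  rw [h2] at h3
  exact h3 (commutator_mem_commutator hy (mem_zpowers x))

theorem commutator_le_self (w : Tw s r G₀ m P D Y q k) {i : ℕ} (hi : i ≤ m) : ⁅P i, zpowers s⁆ ≤ P i :=
  Coprime.commutator_le_of_le_normalizer (le_zpowers_normalizer (w.lay.invP i hi).1)

/-- The first moved layer has its fixed elements in its Frattini part. -/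
theorem fixC_le (w : Tw s r G₀ m P D Y q k) (hk : k ≤ m) : fixC s P k ≤ Y k := by
  by_contra hne
  refine w.moved hk (le_of_eq_of_le ?_ (inf_le_right : fixC s P k ≤ _))
  refine (w.lay.small k hk _ inf_le_left ⟨?_, fun j hj => ?_⟩ hne).symm
  · refine Subgroup.inf_normalizer_le_normalizer_inf ⟨(w.lay.invP k hk).1, Subgroup.le_normalizer ?_⟩
    rw [mem_centralizer_singleton_iff]
  · exact Coprime.le_normalizer_inf_of_le ((w.lay.invP k hk).2 j hj) (w.below j (by omega) hj)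

/-- `s` moves all of the first moved layer. -/
theorem commutator_eq (w : Tw s r G₀ m P D Y q k) (hk : k ≤ m) : ⁅P k, zpowers s⁆ = P k := by
  refine w.lay.small k hk _ (w.commutator_le_self hk) ⟨?_, fun j hj => ?_⟩ fun hle => ?_
  · exact Coprime.le_normalizer_commutator (mem_sup_right (mem_zpowers s))
  · exact commutator_zpowers_invariant ((w.lay.invP k hk).2 j hj) (w.below j (by omega) hj)
  · refine (w.lay.le k hk).2.2 fun x hx => ?_
    obtain ⟨c, hc, hxc⟩ := w.exists_fixed hk (w.lay.le k hk).2.1 (w.lay.invY k hk).1 hx (by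
      have h1 := (Y k).inv_mem (hle (commutator_mem_commutator ((P k).inv_mem hx) (mem_zpowers s)))
      rw [commutatorElement_inv] at h1
      have e : x⁻¹ * (s * x * s⁻¹) = ⁅s, x⁻¹⁆⁻¹ := by simp only [commutatorElement_def]; group
      rw [e]
      exact (Y k).inv_mem h1)
    have h3 := (Y k).mul_mem (w.fixC_le hk hc) ((Y k).inv_mem hxc)
    rwa [mul_inv_rev, inv_inv, mul_inv_cancel_left] at h3

/-- The first moved layer has no fixed classes. -/
theorem fpf (w : Tw s r G₀ m P D Y q k) (hk : k ≤ m) {x : Γ} (hx : x ∈ P k)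
    (h : x⁻¹ * (s * x * s⁻¹) ∈ Y k) : x ∈ Y k := by
  obtain ⟨c, hc, hxc⟩ := w.exists_fixed hk (w.lay.le k hk).2.1 (w.lay.invY k hk).1 hx h
  have h3 := (Y k).mul_mem (w.fixC_le hk hc) ((Y k).inv_mem hxc)
  rwa [mul_inv_rev, inv_inv, mul_inv_cancel_left] at h3

/-- `s` is nontrivial on the first layer modulo the kernel when it centralises no lower layer. -/
theorem moved_first (w : Tw s r G₀ m P D Y q k) (hm : 2 ≤ m) (hk : k ≤ 1) :
    ¬ ⁅P 1, zpowers s⁆ ≤ D 1 := by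
  intro hle
  rcases Nat.le_one_iff_eq_zero_or_eq_one.mp hk with rfl | rfl
  · refine (w.lay.le 0 (by omega)).2.2 fun x hx => ?_
    rw [← w.commutator_eq (by omega)] at hx
    refine (w.lay.le 0 (by omega)).1 ?_
    refine (?_ : ⁅P 0, zpowers s⁆ ≤ D 0) hx
    rw [commutator_zpowers_eq (w.lay.invP 0 (by omega)).1, closure_le]
    rintro _ ⟨a, ha, rfl⟩
    have hc : ⁅a, s⁆ ∈ P 0 := w.commutator_le_self (by omega) (commutator_mem_commutator ha (mem_zpowers s))
    refine (w.trivial_iff (by omega) hc).mp fun y hy => ?_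
    -- `s` is trivial on the next section
    have hY : ∀ z ∈ P 1, ⁅z, s⁆ ∈ Y 1 := fun z hz =>
      (w.lay.le 1 (by omega)).1 (hle (commutator_mem_commutator hz (mem_zpowers s)))
    have hzy : ⁅y, s⁆ ∈ Y 1 := hY y hy
    have hsY := Subgroup.mem_normalizer_iff.mp (w.lay.invY 1 (by omega)).1
    have haP : a ∈ normalizer (P 1 : Set Γ) := (w.lay.invP 1 (by omega)).2 0 one_pos ha
    have haY : a ∈ normalizer (Y 1 : Set Γ) := (w.lay.invY 1 (by omega)).2 0 one_pos ha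
    have hyY : y ∈ normalizer (Y 1 : Set Γ) := w.lay.normY 1 (by omega) hy
    set u := a⁻¹ * y * a with hu
    have huP : u ∈ P 1 := (Subgroup.mem_normalizer_iff''.mp haP y).mp hy
    have h1 : ⁅s, u⁆ ∈ Y 1 := by rw [← commutatorElement_inv]; exact (Y 1).inv_mem (hY u huP)
    have h2 : ⁅s⁻¹, y⁆ ∈ Y 1 := by
      have e : ⁅s⁻¹, y⁆ = s⁻¹ * ⁅y, s⁆ * s := by simp only [commutatorElement_def]; group
      rw [e]
      exact (Subgroup.mem_normalizer_iff''.mp (w.lay.invY 1 (by omega)).1 _).mp hzy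
    -- `⁅a, s⁆` acts as the identity
    have e : ⁅y, ⁅a, s⁆⁆⁻¹ = (a * ⁅s, a⁻¹ * (s⁻¹ * y * s) * a⁆ * a⁻¹) * ⁅s⁻¹, y⁆ := by
      simp only [commutatorElement_def]; group
    rw [← inv_mem_iff (H := Y 1), e]
    refine (Y 1).mul_mem ((Subgroup.mem_normalizer_iff.mp haY _).mp ?_) h2
    rw [← commutatorElement_inv]
    exact (Y 1).inv_mem (hY _ ((Subgroup.mem_normalizer_iff''.mp haP _).mp
      ((Subgroup.mem_normalizer_iff''.mp (w.lay.invP 1 (by omega)).1 y).mp hy)))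
  · exact (w.lay.le 1 (by omega)).2.2 ((w.commutator_eq (by omega)).ge.trans
      (hle.trans (w.lay.le 1 (by omega)).1))

end Tw

/-- The fixed vectors of a section are images of fixed elements. -/
theorem Tw.fixed_vec (w : Tw s r G₀ m P D Y q k) {i : ℕ} (hi : i ≤ m) {M : Type u} [AddCommGroup M]
    [Module (ZMod (q i)) M] (ξ : SecRep (P i) (Y i) (q i) M) {v : M}
    (hv : ξ.rep ⟨s, w.s_mem_nrm hi⟩ v = v) :
    ∃ c : P i, (c : Γ) ∈ centralizer {s} ∧ ξ.π c = v := by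
  obtain ⟨x, rfl⟩ := ξ.surj v
  have h1 := (ξ.fix_iff _ x).mp hv
  obtain ⟨c, hc, hxc⟩ := w.exists_fixed hi (w.lay.le i hi).2.1 (w.lay.invY i hi).1 x.2 (by
    have e : (x : Γ)⁻¹ * (s * x * s⁻¹) = (x : Γ)⁻¹ * ⁅s, (x : Γ)⁆ * x := by
      simp only [commutatorElement_def]; group
    rw [e]
    exact (Subgroup.mem_normalizer_iff''.mp (w.lay.normY i hi x.2) _).mp h1)
  refine ⟨⟨c, hc.1⟩, hc.2, ?_⟩
  have h2 : ξ.π (x⁻¹ * ⟨c, hc.1⟩) = 0 := (ξ.ker _).mpr hxc
  rwa [ξ.mul, ξ.map_inv, neg_add_eq_zero, eq_comm] at h2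

end Cfsg.Agent.Turull
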