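import Cfsg.Agent.Turull.Mod

/-!
Lemmas used to build the layers of an invariant tower.
-/

set_option autoImplicit false

open Subgroup
open scoped commutatorElement Pointwise

namespace Cfsg.Agent.Turull

open CoprimeFitting (ser nres)

universe u

variable {Γ : Type u} [Group Γ]

/-- An operator of prime order acting coprimely on a solvable subgroup. -/
structure Ctx (s : Γ) (r : ℕ) (G₀ : Subgroup Γ) : Prop where
  solv : Group.IsSolvable G₀
  norm : s ∈ normalizer (G₀ : Set Γ)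
  prime : r.Prime
  pow : s ^ r = 1
  cop : ¬ r ∣ Nat.card G₀

theorem Ctx.coprime [Finite Γ] {s : Γ} {r : ℕ} {G₀ : Subgroup Γ} (c : Ctx s r G₀) {K : Subgroup Γ}
    (h : K ≤ G₀) : (Nat.card (zpowers s)).Coprime (Nat.card K) := by
  rw [Nat.card_zpowers]
  refine Nat.Coprime.coprime_dvd_left (orderOf_dvd_of_pow_eq_one c.pow) ?_
  exact Nat.Coprime.coprime_dvd_right (card_dvd_of_le h) (c.prime.coprime_iff_not_dvd.mpr c.cop)

theorem mem_normalizer_iff_le {s : Γ} {K : Subgroup Γ} :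
    s ∈ normalizer (K : Set Γ) ↔ zpowers s ≤ normalizer (K : Set Γ) := by
  rw [zpowers_le]

/-- The elements moving `L` only inside `M`. -/
def kerOn (L M : Subgroup Γ) : Subgroup Γ where
  carrier := {x | x ∈ normalizer (L : Set Γ) ⊓ normalizer (M : Set Γ) ∧ ∀ l ∈ L, ⁅l, x⁆ ∈ M}
  one_mem' := ⟨one_mem _, fun l _ => by rw [commutatorElement_one_right]; exact M.one_mem⟩
  mul_mem' := by
    rintro x y ⟨hx, hx'⟩ ⟨hy, hy'⟩
    refine ⟨mul_mem hx hy, fun l hl => ?_⟩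
    have e : ⁅l, x * y⁆ = ⁅l, x⁆ * (x * ⁅l, y⁆ * x⁻¹) := by
      simp only [commutatorElement_def]; group
    rw [e]
    exact M.mul_mem (hx' l hl) ((Subgroup.mem_normalizer_iff.mp hx.2 _).mp (hy' l hl))
  inv_mem' := by
    rintro x ⟨hx, hx'⟩
    refine ⟨inv_mem hx, fun l hl => ?_⟩
    have e : ⁅l, x⁻¹⁆ = x⁻¹ * ⁅l, x⁆⁻¹ * x⁻¹⁻¹ := by
      simp only [commutatorElement_def]; group
    rw [e]
    exact (Subgroup.mem_normalizer_iff.mp (inv_mem hx).2 _).mp (M.inv_mem (hx' l hl))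

theorem mem_kerOn {L M : Subgroup Γ} {x : Γ} :
    x ∈ kerOn L M ↔ x ∈ normalizer (L : Set Γ) ⊓ normalizer (M : Set Γ) ∧ ∀ l ∈ L, ⁅l, x⁆ ∈ M := Iff.rfl

theorem le_kerOn_iff {L M A : Subgroup Γ} (hL : A ≤ normalizer (L : Set Γ))
    (hM : A ≤ normalizer (M : Set Γ)) : A ≤ kerOn L M ↔ ⁅L, A⁆ ≤ M := by
  rw [commutator_le]
  exact ⟨fun h l hl a ha => (h ha).2 l hl, fun h a ha => ⟨⟨hL ha, hM ha⟩, fun l hl => h l hl a ha⟩⟩

theorem le_normalizer_kerOn {L M A : Subgroup Γ} (hL : A ≤ normalizer (L : Set Γ))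
    (hM : A ≤ normalizer (M : Set Γ)) : A ≤ normalizer (kerOn L M : Set Γ) := by
  have key : ∀ a ∈ A, ∀ x ∈ kerOn L M, a * x * a⁻¹ ∈ kerOn L M := by
    intro a ha x hx
    refine ⟨mul_mem (mul_mem ⟨hL ha, hM ha⟩ hx.1) (inv_mem ⟨hL ha, hM ha⟩), fun l hl => ?_⟩
    have hl' : a⁻¹ * l * a ∈ L := (Subgroup.mem_normalizer_iff''.mp (hL ha) l).mp hl
    have e : ⁅l, a * x * a⁻¹⁆ = a * ⁅a⁻¹ * l * a, x⁆ * a⁻¹ := by
      simp only [commutatorElement_def]; group
    rw [e]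
    exact (Subgroup.mem_normalizer_iff.mp (hM ha) _).mp (hx.2 _ hl')
  intro a ha
  rw [Subgroup.mem_normalizer_iff]
  intro x
  refine ⟨key a ha x, fun h => ?_⟩
  have := key a⁻¹ (A.inv_mem ha) _ h
  simpa [mul_assoc] using this

theorem le_normalizer_commutator' {A H K : Subgroup Γ} (h1 : A ≤ normalizer (H : Set Γ))
    (h2 : A ≤ normalizer (K : Set Γ)) : A ≤ normalizer ((⁅H, K⁆ : Subgroup Γ) : Set Γ) := by
  intro a ha
  apply Coprime.mem_normalizer_of_conj_smul_eq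
  rw [Coprime.conj_smul_eq_map, map_commutator, ← Coprime.conj_smul_eq_map, ← Coprime.conj_smul_eq_map,
    Coprime.conj_smul_eq_self_of_mem_normalizer (h1 ha), Coprime.conj_smul_eq_self_of_mem_normalizer (h2 ha)]

/-- A `q`-group cannot fill a nontrivial `q`-section by commutators. -/
theorem qgroup_proper [Finite Γ] {q : ℕ} [Fact q.Prime] {L A M : Subgroup Γ} (hL : IsPGroup q L)
    (hA : IsPGroup q A) (hAL : A ≤ normalizer (L : Set Γ)) (hAM : A ≤ normalizer (M : Set Γ))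
    (hLM : L ≤ normalizer (M : Set Γ)) (hne : ¬ L ≤ M) : ¬ L ≤ ⁅L, A⁆ ⊔ M := by
  intro hle
  have hLA : ⁅L, A⁆ ≤ L := Coprime.commutator_le_of_le_normalizer hAL
  have hnorm : img M A ≤ normalizer (img M L : Set _) :=
    Subgroup.le_normalizer_iff_commutator_le_left.mpr (by
      rw [← img_commutator hLM hAM]; exact img_mono hLA)
  have hq : ∀ {H : Subgroup Γ}, IsPGroup q H → IsPGroup q (img M H) := by
    intro H hH
    refine IsPGroup.map ?_ _
    exact hH.comap_of_injective _ (normalizer (M : Set Γ)).subtype_injective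
  have hlt := Coprime.commutator_lt_of_isPGroup (hq hA) (hq hL) hnorm
    (fun h => hne ((img_eq_bot_iff hLM).mp h))
  refine hlt.not_ge ?_
  have h1 := img_mono (K := M) hle
  rwa [img_sup_left (hLA.trans hLM), img_commutator hLM hAM] at h1

/-- A `q`-section modulo a subgroup is covered by a Sylow subgroup. -/
theorem le_sylow_sup [Finite Γ] {q : ℕ} [hq : Fact q.Prime] {R C : Subgroup Γ}
    (hRC : R ≤ normalizer (C : Set Γ)) (hqel : ∀ x ∈ R, ∃ k : ℕ, x ^ q ^ k ∈ C) (P : Sylow q R) :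
    R ≤ (P : Subgroup R).map R.subtype ⊔ C := by
  haveI : (C.subgroupOf R).Normal := normal_subgroupOf_of_le_normalizer hRC
  let f := QuotientGroup.mk' (C.subgroupOf R)
  have hQ : IsPGroup q (R ⧸ C.subgroupOf R) := by
    intro y
    obtain ⟨x, rfl⟩ := QuotientGroup.mk'_surjective _ y
    obtain ⟨k, hk⟩ := hqel x x.2
    exact ⟨k, (map_pow f x _).symm.trans ((QuotientGroup.eq_one_iff _).mpr hk)⟩
  have hS : (P.mapSurjective (QuotientGroup.mk'_surjective (C.subgroupOf R))).toSubgroup = ⊤ := by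
    obtain ⟨n, hn⟩ := IsPGroup.iff_card.mp hQ
    refine Subgroup.eq_top_of_card_eq _ ?_
    rw [Sylow.card_eq_multiplicity, hn, Nat.Prime.factorization_pow hq.out, Finsupp.single_eq_same]
  intro x hx
  have h1 : f ⟨x, hx⟩ ∈ (P.mapSurjective (QuotientGroup.mk'_surjective (C.subgroupOf R))).toSubgroup := by
    rw [hS]; trivial
  rw [Sylow.coe_mapSurjective] at h1
  obtain ⟨y, hy, he⟩ := h1
  have h2 : (y : Γ)⁻¹ * x ∈ C := (QuotientGroup.eq (s := C.subgroupOf R)).mp he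
  have h3 := mul_mem_sup (S := (P : Subgroup R).map R.subtype) (T := C) (mem_map_of_mem _ hy) h2
  change (y : Γ) * ((y : Γ)⁻¹ * x) ∈ _ at h3
  rwa [mul_inv_cancel_left] at h3

/-- The elements of `q`-power order modulo `C` of a subgroup nilpotent modulo `C`. -/
theorem exists_qpart [Finite Γ] {q : ℕ} [Fact q.Prime] {T C : Subgroup Γ}
    (hTC : T ≤ normalizer (C : Set Γ)) (hnil : nres T ≤ C) :
    ∃ R : Subgroup Γ, R ≤ T ∧ ∀ x, x ∈ R ↔ x ∈ T ∧ ∃ k : ℕ, x ^ q ^ k ∈ C := by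
  haveI : (C.subgroupOf T).Normal := normal_subgroupOf_of_le_normalizer hTC
  let f := QuotientGroup.mk' (C.subgroupOf T)
  have h1 : nres ((⊤ : Subgroup T).map f) = ⊥ := by
    rw [← CoprimeFitting.map_nres, Subgroup.map_eq_bot_iff, QuotientGroup.ker_mk']
    intro x hx
    refine hnil ?_
    have h2 := mem_map_of_mem T.subtype hx
    rwa [CoprimeFitting.map_nres, ← MonoidHom.range_eq_map, T.range_subtype] at h2
  rw [Subgroup.map_top_of_surjective f (QuotientGroup.mk'_surjective _)] at h1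
  obtain ⟨Q, -, -, hQq, hQu⟩ := CoprimeFitting.exists_sylow_normal (CoprimeFitting.isNilpotent_of_nres h1) q
  refine ⟨(Q.comap f).map T.subtype, map_subtype_le _, fun x => ⟨?_, ?_⟩⟩
  · rintro ⟨y, hy, rfl⟩
    obtain ⟨k, hk⟩ := hQq ⟨f y, hy⟩
    refine ⟨y.2, k, ?_⟩
    have h3 : f (y ^ q ^ k) = 1 := by rw [map_pow]; exact congrArg Subtype.val hk
    exact (QuotientGroup.eq_one_iff (N := C.subgroupOf T) (y ^ q ^ k)).mp h3
  · rintro ⟨hx, k, hk⟩
    refine ⟨⟨x, hx⟩, hQu _ trivial k ?_, rfl⟩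
    rw [← map_pow]
    exact (QuotientGroup.eq_one_iff _).mpr hk

theorem le_normalizer_qpart {q : ℕ} {T C R A : Subgroup Γ}
    (hR : ∀ x, x ∈ R ↔ x ∈ T ∧ ∃ k : ℕ, x ^ q ^ k ∈ C) (hT : A ≤ normalizer (T : Set Γ))
    (hC : A ≤ normalizer (C : Set Γ)) : A ≤ normalizer (R : Set Γ) := by
  intro a ha
  rw [Subgroup.mem_normalizer_iff]
  intro x
  rw [hR, hR, ← Subgroup.mem_normalizer_iff.mp (hT ha) x]
  refine and_congr_right fun _ => exists_congr fun k => ?_
  rw [Subgroup.mem_normalizer_iff.mp (hC ha) (x ^ q ^ k), conj_pow]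

/-- Frattini argument inside a subgroup. -/
theorem le_inf_normalizer_sup [Finite Γ] {q : ℕ} [Fact q.Prime] {X M : Subgroup Γ}
    (hXM : X ≤ normalizer (M : Set Γ)) (hMX : M ≤ X) (P : Sylow q M) :
    X ≤ X ⊓ normalizer ((P : Subgroup M).map M.subtype : Set Γ) ⊔ M := by
  set L : Subgroup Γ := (P : Subgroup M).map M.subtype with hL
  intro x hx
  have hR : MulAut.conj x • L ≤ M := Coprime.conj_smul_le_self (hXM hx) (map_subtype_le _)
  have hRc : Nat.card (MulAut.conj x • L : Subgroup Γ) = Nat.card (P : Subgroup M) := by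
    rw [Coprime.card_conj_smul, hL, card_map_of_injective M.subtype_injective]
  obtain ⟨Q, hQ⟩ : ∃ Q : Sylow q M, (Q : Subgroup M) = (MulAut.conj x • L).subgroupOf M :=
    ⟨Sylow.ofCard ((MulAut.conj x • L).subgroupOf M) (by
      rw [Coprime.card_subgroupOf hR, hRc, P.card_eq_multiplicity]), Sylow.coe_ofCard _ _⟩
  obtain ⟨m, hm⟩ := MulAction.exists_smul_eq M P Q
  have he : MulAut.conj (m : Γ) • L = MulAut.conj x • L := by
    rw [hL, ← Coprime.conj_smul_map_subtype, ← Sylow.coe_subgroup_smul, hm, hQ,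
      map_subgroupOf_eq_of_le hR]
  have hn : (m : Γ)⁻¹ * x ∈ normalizer (L : Set Γ) := by
    apply Coprime.mem_normalizer_of_conj_smul_eq
    rw [Coprime.conj_mul_smul, ← he, ← Coprime.conj_mul_smul, inv_mul_cancel, map_one, one_smul]
  have h5 : x⁻¹ * (m : Γ) * x ∈ M := (Subgroup.mem_normalizer_iff''.mp (hXM hx) (m : Γ)).mp m.2
  have h6 := mul_mem_sup (S := X ⊓ normalizer (L : Set Γ)) (T := M)
    ⟨X.mul_mem (X.inv_mem (hMX m.2)) hx, hn⟩ h5
  convert h6 using 1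
  group

end Cfsg.Agent.Turull
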